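import Cfsg.Agent.J2Sylow.Key

/-!
# Subgroups of odd order in the centralizer of an outer involution
-/

set_option autoImplicit false
set_option linter.style.haveILetI false
set_option linter.unusedSectionVars false
set_option maxRecDepth 100000

namespace CfsgLib.J2Sylow

open Subgroup CfsgLib.HallJanko CfsgLib.J2Type
open CfsgLib.A8Three (coreC)

universe u

variable {G : Type u} [Group G] [Finite G]

namespace Hyp

variable {S : Sylow 2 G} {z : G} (h : Hyp S z)
include h

variable {b : G} (hb : h.Outside b)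
include hb

/-- An element of odd order commuting with `b` and an element of the four-group lies in `O(C(b))`. -/
theorem mem_theta_four {v n : G} (hv : Four z (h.D.a 4) v) (hv1 : v ≠ 1) (hnv : n * v = v * n)
    (hnb : n * b = b * n) (ho : Odd (orderOf n)) : n ∈ coreC b := by
  rcases h.theta_or_cyc hb with hall | ⟨k, hk⟩
  · exact hall n hnb ho
  have step : ∀ v', (∀ m, m * v' = v' * m → m * b = b * m → Odd (orderOf m) → m ∈ coreC b) →
      ∀ m, m * (k * v' * k⁻¹) = k * v' * k⁻¹ * m → m * b = b * m → Odd (orderOf m) → m ∈ coreC b := by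
    intro v' ih m hm hmb hmo
    have h1 := ih (k⁻¹ * m * k) (commute_conj_iff.2 hm)
      (commute_conj_iff.2 (by rwa [mul_inv_eq_iff_eq_mul.2 hk.comm]))
      (by
        have := Small.orderOf_conj_eq k⁻¹ m
        rw [inv_inv] at this
        rwa [this])
    have := CfsgLib.A8Three.conj_mem_coreC hk.comm h1
    rwa [show k * (k⁻¹ * m * k) * k⁻¹ = m by group] at this
  have sz : ∀ m, m * z = z * m → m * b = b * m → Odd (orderOf m) → m ∈ coreC b :=
    fun m h1 h2 h3 => Cyc.key h hb hk h1 h2 h3
  have sa := step z sz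
  rw [hk.kz] at sa
  have sc := step _ sa
  rw [hk.ka] at sc
  rcases hv with e | rfl | rfl | rfl
  · exact absurd e hv1
  exacts [sz n hnv hnb ho, sa n hnv hnb ho, sc n hnv hnb ho]

/-- A subgroup of odd order of `C(b)` normalized by the four-group lies in `O(C(b))`. -/
theorem le_theta_outer {R : Subgroup G} (hR : Odd (Nat.card R)) (hRb : ∀ r ∈ R, r * b = b * r)
    (hzR : z ∈ normalizer (R : Set G)) (haR : h.D.a 4 ∈ normalizer (R : Set G)) : R ≤ coreC b := by
  obtain ⟨h1, h2, h3, h4⟩ := h.cz hb
  exact GW.OS.le_of_four h.ordz (orderOf_eq_prime (by rw [pow_two, h.D.sq]) (h.D.ne_one 4))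
    (h.ac 4).symm h1 hR hzR haR
    (fun r hr e => h.mem_theta_four hb (Or.inr (Or.inl rfl)) h.z1 e.eq.symm (hRb r hr)
      (CfsgLib.A8Three.odd_orderOf_of_mem hR hr))
    (fun r hr e => h.mem_theta_four hb (Or.inr (Or.inr (Or.inl rfl))) (h.D.ne_one 4) e.eq.symm (hRb r hr)
      (CfsgLib.A8Three.odd_orderOf_of_mem hR hr))
    (fun r hr e => h.mem_theta_four hb (v := h.D.a 4 * z) (Or.inr (Or.inr (Or.inr rfl))) h4
      (by rw [h.ac 4]; exact e.eq.symm) (hRb r hr) (CfsgLib.A8Three.odd_orderOf_of_mem hR hr))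

end Hyp

end CfsgLib.J2Sylow
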