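import Cfsg.Agent.J2Sylow.Transfer

/-!
# Consequences of the component structure of `C(b)/O(C(b))`
-/

set_option autoImplicit false
set_option linter.style.haveILetI false
set_option linter.unusedSectionVars false
set_option maxRecDepth 100000

namespace CfsgLib.J2Sylow

open Subgroup CfsgLib.HallJanko CfsgLib.J2Type
open CfsgLib.A8Three (coreC IsCompl2)

universe u

variable {G : Type u} [Group G] [Finite G]

theorem bar_one {b : G} (h1 : (1 : G) * b = b * 1) : bar h1 = 1 := (pr b).map_one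

theorem bar_inv {b x : G} (hx : x * b = b * x) :
    (bar hx)⁻¹ = bar (Commute.inv_left (hx : Commute x b)).eq :=
  ((pr b).map_inv _).symm

theorem bar_pow {b x : G} (hx : x * b = b * x) (n : ℕ) :
    (bar hx) ^ n = bar (Commute.pow_left (hx : Commute x b) n).eq :=
  ((pr b).map_pow _ n).symm

theorem odd_orderOf_bar {b x : G} (hx : x * b = b * x) (ho : Odd (orderOf x)) : Odd (orderOf (bar hx)) := by
  refine ho.of_dvd_nat ((orderOf_map_dvd (pr b) ⟨x, mem_centralizer_singleton_iff.2 hx⟩).trans ?_)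
  rw [Subgroup.orderOf_mk]

theorem bar_comm_iff {b x y : G} (hx : x * b = b * x) (hy : y * b = b * y) :
    bar hx * bar hy = bar hy * bar hx ↔ x * y * x⁻¹ * y⁻¹ ∈ coreC b := by
  have hc : x * y * x⁻¹ * y⁻¹ * b = b * (x * y * x⁻¹ * y⁻¹) :=
    (((Commute.mul_left (hx : Commute x b) hy).mul_left (Commute.inv_left (hx : Commute x b))).mul_left
      (Commute.inv_left (hy : Commute y b))).eq
  rw [mem_theta_iff hc]
  have e : bar hc = bar hx * bar hy * (bar hx)⁻¹ * (bar hy)⁻¹ := by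
    rw [bar_inv, bar_inv, bar_mul, bar_mul, bar_mul]
  rw [e, mul_inv_eq_one, mul_inv_eq_iff_eq_mul]

theorem bar_inverted_iff {b x a : G} (hx : x * b = b * x) (ha : a * b = b * a) :
    bar ha * bar hx * (bar ha)⁻¹ = (bar hx)⁻¹ ↔ a * x * a⁻¹ * x ∈ coreC b := by
  have hc : a * x * a⁻¹ * x * b = b * (a * x * a⁻¹ * x) :=
    (((Commute.mul_left (ha : Commute a b) hx).mul_left (Commute.inv_left (ha : Commute a b))).mul_left
      (hx : Commute x b)).eq
  rw [mem_theta_iff hc]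
  have e : bar hc = bar ha * bar hx * (bar ha)⁻¹ * bar hx := by
    rw [bar_inv, bar_mul, bar_mul, bar_mul]
  rw [e, mul_eq_one_iff_eq_inv]

namespace Hyp

variable {S : Sylow 2 G} {z : G} (h : Hyp S z)
include h

variable {b : G} (hb : h.Outside b)
include hb

theorem zb : z * b = b * z := (mem_centS.1 (h.zA hb)).2
theorem ab : h.D.a 4 * b = b * h.D.a 4 := (mem_centS.1 (h.aA hb)).2

/-- Either all elements of odd order in `C(b)` lie in the core or the four-group is cycled. -/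
theorem theta_or_cyc :
    (∀ n, n * b = b * n → Odd (orderOf n) → n ∈ coreC b) ∨ ∃ k, h.Cyc b k :=
  (h.alternatives hb).imp_left fun hc n hn ho =>
    hc.mem_of_odd n (mem_centralizer_singleton_iff.2 hn) ho

variable {k : G} (hk : h.Cyc b k)
include hk

theorem Cyc.U_comm {u : G} (hu : u ∈ fixU S b k) : u * b = b * u := (mem_centS.1 hu.1).2

/-- The component structure. -/
theorem Cyc.exists_comp : ∃ L U : Subgroup (Bar b),
    Comp L U (bar (h.zb hb)) (bar (h.ab hb)) (bar hk.comm) ∧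
      ∀ {u : G} (hu : u ∈ fixU S b k), bar (Cyc.U_comm h hb hk hu) ∈ U := by
  obtain ⟨L, hL⟩ := Cyc.exists_ker h hb hk
  let C := centralizer ({b} : Set G)
  let L' := (L.subgroupOf C).map (pr b)
  let U' := ((fixU S b k).subgroupOf C).map (pr b)
  haveI : (L.subgroupOf C).Normal := ⟨fun l hl y => mem_subgroupOf.2
    (hL.conj y (mem_centralizer_singleton_iff.1 y.2) l (mem_subgroupOf.1 hl))⟩
  have hord : ∀ {x : G} (hx : x * b = b * x), x * x = 1 → x ∈ (S : Subgroup G) → x ≠ 1 →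
      orderOf (bar hx) = 2 := fun {x} hx h2 hS h1 => by
    refine orderOf_eq_prime ?_ fun e => h1 (h.eq_one_of_theta hS ((mem_theta_iff hx).2 e))
    rw [pow_two, bar_mul, ← mem_theta_iff, h2]
    exact one_mem _
  have hU' : ∀ {u : G} (hu : u ∈ fixU S b k), bar (Cyc.U_comm h hb hk hu) ∈ U' := fun hu =>
    ⟨_, mem_subgroupOf.2 hu, rfl⟩
  have hUall : ∀ X ∈ U', ∃ (u : G) (hu : u ∈ fixU S b k), bar (Cyc.U_comm h hb hk hu) = X := by
    rintro _ ⟨⟨u, huC⟩, hu, rfl⟩
    exact ⟨u, mem_subgroupOf.1 hu, rfl⟩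
  obtain ⟨h1, -, -, -⟩ := h.cz hb
  refine ⟨L', U', ?_, fun {u} hu => hU' hu⟩
  exact
    { core := CfsgLib.PLocal.pPrimeCore_quotient_pPrimeCore_eq_bot 2 _
      normal := Subgroup.Normal.map inferInstance _ (QuotientGroup.mk'_surjective _)
      eight := fun h8 => hL.eight (h8.trans ((Subgroup.card_map_dvd _ _).trans
        (Nat.card_congr (subgroupOfEquivOfLe (H := L) (K := C)
          fun l hl => mem_centralizer_singleton_iff.2 (hL.le l hl)).toEquiv).dvd))
      z2 := hord _ h.zz h.zS h.z1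
      a2 := hord _ (h.D.sq 4) (h.D.Q_le (h.D.mem 4)) (h.D.ne_one 4)
      ne := fun e => h1 (bar_inj _ _ h.zz (h.D.sq 4) (h.ac 4).symm e).symm
      za := by rw [bar_mul, bar_mul]; exact bar_congr _ _ (h.ac 4).symm
      zL := ⟨_, mem_subgroupOf.2 (hL.four z (Or.inr (Or.inl rfl))), rfl⟩
      aL := ⟨_, mem_subgroupOf.2 (hL.four _ (Or.inr (Or.inr (Or.inl rfl)))), rfl⟩
      Usq := fun X hX => by
        obtain ⟨u, hu, rfl⟩ := hUall X hX
        rw [bar_mul, ← mem_theta_iff, h.A_sq hb hu.1]; exact one_mem _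
      Ucomm := fun X hX Y hY => by
        obtain ⟨u, hu, rfl⟩ := hUall X hX
        obtain ⟨v, hv, rfl⟩ := hUall Y hY
        rw [bar_mul, bar_mul]; exact bar_congr _ _ (h.A_comm hb hu.1 hv.1)
      Uz := fun X hX => by
        obtain ⟨u, hu, rfl⟩ := hUall X hX
        rw [bar_mul, bar_mul]; exact bar_congr _ _ (h.A_comm hb hu.1 (h.zA hb))
      Ua := fun X hX => by
        obtain ⟨u, hu, rfl⟩ := hUall X hX
        rw [bar_mul, bar_mul]; exact bar_congr _ _ (h.A_comm hb hu.1 (h.aA hb))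
      Uk := fun X hX => by
        obtain ⟨u, hu, rfl⟩ := hUall X hX
        rw [bar_mul, bar_mul]; exact bar_congr _ _ (mem_centralizer_singleton_iff.1 hu.2)
      kz := by rw [bar_inv, bar_mul, bar_mul]; exact bar_congr _ _ hk.kz
      ka := by rw [bar_inv, bar_mul, bar_mul, bar_mul]; exact bar_congr _ _ (hk.ka.trans (h.ac 4))
      dec := fun X => by
        obtain ⟨y, hy, rfl⟩ := exists_bar_eq X
        obtain ⟨u, hu, l, hl, rfl⟩ := hL.dec y hy
        exact ⟨_, hU' hu, bar (hL.le l hl), ⟨_, mem_subgroupOf.2 hl, rfl⟩, (bar_mul _ _).symm⟩ }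

/-- `U` is central modulo the core. -/
theorem Cyc.central {u n : G} (hu : u ∈ fixU S b k) (hn : n * b = b * n) :
    n * u * n⁻¹ * u⁻¹ ∈ coreC b := by
  obtain ⟨L, U, c, hU⟩ := Cyc.exists_comp h hb hk
  exact (bar_comm_iff hn (Cyc.U_comm h hb hk hu)).1 (c.central _ (hU hu) _).symm

/-- An element of `C(b)` is congruent to one centralizing `U`. -/
theorem Cyc.exists_lift_U {n : G} (hn : n * b = b * n) {C0 : Subgroup G} (hnC : n ∈ C0)
    (hUC : fixU S b k ≤ C0) :
    ∃ r ∈ coreC b, r ∈ C0 ∧ ∀ u ∈ fixU S b k, r * n * u = u * (r * n) := by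
  obtain ⟨b', hb', hb'1, hb'b⟩ := Cyc.exists_other h hb hk (u := b)
  have hb2 := h.A_sq hb hb'.1
  have hs : n * b' * n⁻¹ * (n * b' * n⁻¹) = 1 := by
    rw [show n * b' * n⁻¹ * (n * b' * n⁻¹) = n * (b' * b') * n⁻¹ by group, hb2, mul_one, mul_inv_cancel]
  obtain ⟨r, hr, e⟩ := exists_conj_of_congr (R := coreC b ⊓ C0)
    ((CfsgLib.A8Three.odd_coreC b).of_dvd_nat (card_dvd_of_le inf_le_left)) hs hb2 (mem_inf.2 ⟨by
      have := Cyc.central h hb hk hb' hn
      rwa [inv_eq_of_mul_eq_one_left hb2] at this,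
      mul_mem (mul_mem (mul_mem hnC (hUC hb')) (inv_mem hnC)) (hUC hb')⟩)
  refine ⟨r, hr.1, hr.2, fun u hu => ?_⟩
  have hrb : Commute (r * n) b :=
    Commute.mul_left (mem_centralizer_singleton_iff.1 (CfsgLib.A8Three.coreC_le b hr.1)) hn
  have hrb' : Commute (r * n) b' := mul_inv_eq_iff_eq_mul.1 (by
    rw [show r * n * b' * (r * n)⁻¹ = r * (n * b' * n⁻¹) * r⁻¹ by group]; exact e)
  rcases four_cases_of_card (Cyc.card_U h hb hk) (fun x hx => h.A_sq hb hx.1) (Cyc.bU h hb hk) hb'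
    (h.b1 hb) hb'1 (Ne.symm hb'b) hu with rfl | rfl | rfl | rfl
  exacts [(Commute.one_right _).eq, hrb.eq, hrb'.eq, (hrb.mul_right hrb').eq]

/-- An element of `O(C(u))` centralizing `U`, for `u` in `U`, lies in `O(C(b))`. -/
theorem Cyc.theta_inf_centU {u : G} (hu : u ∈ fixU S b k) {x : G} (hx : x ∈ coreC u)
    (hxU : ∀ v ∈ fixU S b k, x * v = v * x) : x ∈ coreC b := by
  let R : Subgroup G := coreC u ⊓ centralizer (fixU S b k : Set G)
  have hRU : ∀ {r}, r ∈ R → ∀ v ∈ fixU S b k, r * v = v * r := fun hr v hv =>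
    (mem_centralizer_iff.1 hr.2 v hv).symm
  let R' := (R.subgroupOf (centralizer ({b} : Set G))).map (pr b)
  haveI : R'.Normal := by
    refine ⟨?_⟩
    rintro _ ⟨r, hr, rfl⟩ Y
    obtain ⟨y, hy, rfl⟩ := exists_bar_eq Y
    obtain ⟨t, ht, -, htU⟩ := Cyc.exists_lift_U h hb hk hy (C0 := ⊤) (mem_top _) le_top
    have hty : t * y * b = b * (t * y) := htU b (Cyc.bU h hb hk)
    have he : bar hy = bar hty := by
      rw [← bar_mul (mem_centralizer_singleton_iff.1 (CfsgLib.A8Three.coreC_le b ht)) hy,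
        (mem_theta_iff _).1 ht, one_mul]
    rw [he]
    refine ⟨⟨t * y, mem_centralizer_singleton_iff.2 hty⟩ * r * ⟨t * y, mem_centralizer_singleton_iff.2 hty⟩⁻¹,
      mem_subgroupOf.2 (mem_inf.2 ⟨CfsgLib.A8Three.conj_mem_coreC (htU u hu) (mem_subgroupOf.1 hr).1, ?_⟩),
      by rw [map_mul, map_mul, map_inv]; rfl⟩
    refine mem_centralizer_iff.2 fun v hv => ?_
    have h1 : Commute (t * y) v := htU v hv
    exact ((h1.mul_left (hRU (mem_subgroupOf.1 hr) v hv)).mul_left h1.inv_left).eq.symm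
  have hle : R' ≤ ⊥ := by
    rw [← show Cfsg.oddCore (Bar b) = ⊥ from CfsgLib.PLocal.pPrimeCore_quotient_pPrimeCore_eq_bot 2 _]
    refine CfsgLib.PLocal.le_pPrimeCore (Nat.coprime_two_right.2 ?_)
    exact (CfsgLib.A8Three.odd_coreC u).of_dvd_nat (((Subgroup.card_map_dvd _ _).trans
      (Nat.card_congr (subgroupOfEquivOfLe (H := R) fun r hr => mem_centralizer_singleton_iff.2
        (hRU hr b (Cyc.bU h hb hk))).toEquiv).dvd).trans (card_dvd_of_le inf_le_left))
  have hxb : x * b = b * x := hxU b (Cyc.bU h hb hk)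
  rw [mem_theta_iff hxb, ← mem_bot]
  exact hle ⟨⟨x, mem_centralizer_singleton_iff.2 hxb⟩,
    mem_subgroupOf.2 ⟨hx, mem_centralizer_iff.2 fun v hv => (hxU v hv).symm⟩, rfl⟩

end Hyp

end CfsgLib.J2Sylow
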