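import Cfsg.Agent.GW.Classification
import Cfsg.Agent.GW.PSLTorus
import Cfsg.Agent.GW.PSLKlein
import Cfsg.Agent.GW.PSLCentral
import Cfsg.Agent.GW.PSLOvergroup
import Cfsg.Agent.GW.OSType.Action
import Cfsg.Agent.GW.OSType.LinearModel
import Cfsg.Agent.Linear.SL2Sylow
import Cfsg.Agent.A8Three.Tools
import Cfsg.Agent.S0205

/-!
# A core-free group with a four-group fused inside a normal subgroup

`H = U L` has elementary abelian Sylow 2-subgroup `U × ⟨z, a⟩`, `L` is normal with Sylow four-group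
`⟨z, a⟩` and an element cycling it centralizes `U`. We derive from the dihedral theorem: `U` is
central, the elements of odd order commuting with `z` and inverted by `a` lie in a cyclic group, and
no subgroup of odd order normalized by `z` and `a` contains such elements for both `z` and `a`.
-/

set_option autoImplicit false
set_option linter.style.haveILetI false
set_option linter.unusedSectionVars false

namespace CfsgLib.J2Sylow

open Subgroup
open scoped MatrixGroups

universe u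

variable {H : Type u} [Group H] [Finite H]

/-- The hypotheses on the local group. -/
structure Comp (L U : Subgroup H) (z a k : H) : Prop where
  core : Cfsg.oddCore H = ⊥
  normal : L.Normal
  eight : ¬ 8 ∣ Nat.card L
  z2 : orderOf z = 2
  a2 : orderOf a = 2
  ne : z ≠ a
  za : z * a = a * z
  zL : z ∈ L
  aL : a ∈ L
  Usq : ∀ u ∈ U, u * u = 1
  Ucomm : ∀ u ∈ U, ∀ v ∈ U, u * v = v * u
  Uz : ∀ u ∈ U, u * z = z * u
  Ua : ∀ u ∈ U, u * a = a * u
  Uk : ∀ u ∈ U, u * k = k * u
  kz : k * z * k⁻¹ = a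
  ka : k * a * k⁻¹ = z * a
  dec : ∀ h : H, ∃ u ∈ U, ∃ l ∈ L, h = u * l

/-- An element of odd order commuting with `z` and inverted by `a`. -/
def Tor (z a x : H) : Prop := Odd (orderOf x) ∧ x * z = z * x ∧ a * x * a⁻¹ = x⁻¹

section matrices

variable {F : Type} [Field F] [Fintype F]

local notation "PST" => Matrix.ProjectiveSpecialLinearGroup (Fin 2) F
local notation "SLT" => Matrix.SpecialLinearGroup (Fin 2) F
local notation "GLT" => GL (Fin 2) F
local notation "M₂" => Matrix (Fin 2) (Fin 2) F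

/-- A matrix commuting with an anticommuting pair is scalar. -/
theorem exists_scalar (h2 : (2 : F) ≠ 0) {x y : SLT} (hx : x * x = -1) (_hy : y * y = -1)
    (hyx : y * x = -(x * y)) {M : GLT} (h1 : M.1 * x.1 = x.1 * M.1) (h3 : M.1 * y.1 = y.1 * M.1) :
    ∃ u : Fˣ, M = Matrix.GeneralLinearGroup.scalar (Fin 2) u := by
  have ht := Forms.KleinPSL.tr_sq_ne_four h2 hx
  obtain ⟨s, t, hst⟩ := Linear.exists_coord (Linear.nonScalar_of_trace ht) h1.symm
  have hBA : y.1 * x.1 = -(x.1 * y.1) := by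
    have e := congrArg (fun g : SLT => g.1) hyx
    simpa using e
  rw [hst, add_mul, mul_add, smul_mul_assoc, smul_mul_assoc, mul_smul_comm, mul_smul_comm, one_mul,
    mul_one, hBA, smul_neg] at h3
  have h4 : (2 * t) • (x.1 * y.1) = 0 := by
    rw [mul_smul, two_smul]
    linear_combination (norm := abel) h3
  have ht0 : t = 0 := by
    rcases smul_eq_zero.1 h4 with e | e
    · exact (mul_eq_zero.1 e).resolve_left h2
    · exfalso
      have hd : (x.1 * y.1).det = 1 := by rw [Matrix.det_mul]; simp [x.2, y.2]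
      rw [e, Matrix.det_zero] at hd
      exact zero_ne_one hd
  rw [ht0, zero_smul, add_zero] at hst
  have hs : s ≠ 0 := fun e => M.det.ne_zero (by
    rw [Matrix.GeneralLinearGroup.val_det_apply, hst, e, zero_smul, Matrix.det_zero])
  refine ⟨Units.mk0 s hs, Units.ext ?_⟩
  rw [hst]
  ext i j
  fin_cases i <;> fin_cases j <;> simp [Matrix.GeneralLinearGroup.scalar]

/-- A projective matrix fixing an anticommuting pair up to sign is one of its members. -/
theorem exists_member (h2 : (2 : F) ≠ 0) {x y : SLT} (hx : x * x = -1) (hy : y * y = -1)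
    (hyx : y * x = -(x * y)) {M : GLT}
    (h1 : AutPSL.conjSL M x = x ∨ AutPSL.conjSL M x = -x)
    (h3 : AutPSL.conjSL M y = y ∨ AutPSL.conjSL M y = -y) :
    ∃ w : SLT, (w = 1 ∨ w = x ∨ w = y ∨ w = x * y) ∧
      AutPSL.conjSL M * MulAut.conj w = 1 := by
  have hxi : x⁻¹ = -x := inv_eq_of_mul_eq_one_left (by rw [neg_mul, hx, neg_neg])
  have hyi : y⁻¹ = -y := inv_eq_of_mul_eq_one_left (by rw [neg_mul, hy, neg_neg])
  have fy : y * x * y⁻¹ = -x := by
    rw [hyx, hyi, neg_mul_neg, mul_assoc, hy, mul_neg, mul_one]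
  have fx : x * y * x⁻¹ = -y := by
    rw [hxi, mul_neg, mul_assoc, hyx, mul_neg, ← mul_assoc, hx, neg_neg, neg_one_mul]
  have fxy1 : x * y * x * (x * y)⁻¹ = -x := by
    rw [show x * y * x * (x * y)⁻¹ = x * (y * x * y⁻¹) * x⁻¹ by group, fy, mul_neg, hx, neg_neg, one_mul, hxi]
  have fxy2 : x * y * y * (x * y)⁻¹ = -y := by
    rw [show x * y * y * (x * y)⁻¹ = x * y * x⁻¹ by group, fx]
  have neg_conj : ∀ v : SLT, AutPSL.conjSL M (-v) = -AutPSL.conjSL M v := fun v => by
    apply Subtype.ext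
    simp [Matrix.SpecialLinearGroup.coe_neg]
  have fin : ∀ w : SLT, AutPSL.conjSL M (w * x * w⁻¹) = x → AutPSL.conjSL M (w * y * w⁻¹) = y →
      AutPSL.conjSL M * MulAut.conj w = 1 := by
    intro w hwx hwy
    have key : ∀ v : SLT, AutPSL.conjSL M (w * v * w⁻¹) = v →
        (M * Matrix.SpecialLinearGroup.toGL w).1 * v.1 = v.1 * (M * Matrix.SpecialLinearGroup.toGL w).1 := by
      intro v hv
      have e : AutPSL.conjSL (M * Matrix.SpecialLinearGroup.toGL w) v = v := by
        rw [map_mul, AutPSL.conjSL_toGL]; exact hv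
      have e' := congrArg Subtype.val e
      rw [AutPSL.conjSL_coe] at e'
      calc (M * Matrix.SpecialLinearGroup.toGL w).1 * v.1
          = (M * Matrix.SpecialLinearGroup.toGL w).1 * v.1 *
            (((M * Matrix.SpecialLinearGroup.toGL w)⁻¹ : GLT).1 * (M * Matrix.SpecialLinearGroup.toGL w).1) := by
              rw [← Units.val_mul, inv_mul_cancel, Units.val_one, mul_one]
        _ = _ := by rw [← mul_assoc, e']
    obtain ⟨u, hu⟩ := exists_scalar h2 hx hy hyx (key x hwx) (key y hwy)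
    rw [← AutPSL.conjSL_toGL, ← map_mul, hu, AutPSL.conjSL_scalar]
  rcases h1 with e1 | e1 <;> rcases h3 with e3 | e3
  · exact ⟨1, Or.inl rfl, fin 1 (by simpa using e1) (by simpa using e3)⟩
  · refine ⟨x, Or.inr (Or.inl rfl), fin x ?_ ?_⟩
    · rw [mul_inv_cancel_right, e1]
    · rw [fx, neg_conj, e3, neg_neg]
  · refine ⟨y, Or.inr (Or.inr (Or.inl rfl)), fin y ?_ ?_⟩
    · rw [fy, neg_conj, e1, neg_neg]
    · rw [mul_inv_cancel_right, e3]
  · refine ⟨x * y, Or.inr (Or.inr (Or.inr rfl)), fin (x * y) ?_ ?_⟩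
    · rw [fxy1, neg_conj, e1, neg_neg]
    · rw [fxy2, neg_conj, e3, neg_neg]

/-- An involutory field automorphism makes the order of `PSL(2,q)` divisible by eight. -/
theorem eq_one_of_sq_field (hodd : Odd (Fintype.card F)) (h8 : ¬ 8 ∣ Nat.card PST) {σ : F ≃+* F}
    (hσ : σ ^ 2 = 1) : σ = 1 := by
  by_contra hne
  obtain ⟨p, hp⟩ := CharP.exists F
  haveI : Fact p.Prime := ⟨CharP.char_is_prime F p⟩
  obtain ⟨f, -, hf⟩ := FiniteField.card F p
  have h2 : orderOf σ = 2 := orderOf_eq_prime hσ hne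
  obtain ⟨j, hj⟩ := h2 ▸ AutPSL.orderOf_dvd_degree hf f.pos σ
  have hq : Fintype.card F = p ^ j * p ^ j := by rw [hf, hj, two_mul, pow_add]
  obtain ⟨m, hm⟩ : Odd (p ^ j) := (Nat.odd_mul.1 (hq ▸ hodd)).1
  obtain ⟨i, hi⟩ := Nat.even_mul_succ_self m
  have hq' : Fintype.card F = 8 * i + 1 := by
    rw [hq, hm]
    ring_nf
    ring_nf at hi
    omega
  have h3 := Linear.card_PSL_two_odd hodd
  have hsq : Fintype.card F ^ 2 - 1 = 16 * (4 * i * i + i) := by
    rw [hq']
    apply Nat.sub_eq_of_eq_add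
    ring
  rw [hsq] at h3
  exact h8 ⟨Fintype.card F * (4 * i * i + i), by linarith [h3]⟩

theorem eq_one_of_card_five (h5 : Fintype.card F = 5) (σ : F ≃+* F) : σ = 1 := by
  haveI : Fact (Nat.Prime 5) := ⟨by norm_num⟩
  have := AutPSL.orderOf_dvd_degree (p := 5) (f := 1) (by rw [h5]; norm_num) le_rfl σ
  exact orderOf_eq_one_iff.1 (Nat.dvd_one.1 this)

end matrices

namespace Comp

variable {L U : Subgroup H} {z a k : H} (c : Comp L U z a k)
include c

theorem zz : z * z = 1 := Small.mul_self_of_orderOf_two c.z2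
theorem aa : a * a = 1 := Small.mul_self_of_orderOf_two c.a2
theorem z1 : z ≠ 1 := Small.ne_one_of_orderOf_two c.z2
theorem a1 : a ≠ 1 := Small.ne_one_of_orderOf_two c.a2

theorem za_sq : z * a * (z * a) = 1 := by
  calc z * a * (z * a) = z * (a * z) * a := by group
    _ = z * z * (a * a) := by rw [← c.za]; group
    _ = 1 := by rw [c.zz, c.aa, mul_one]

theorem za_ne : z * a ≠ 1 := fun e => c.ne (by
  rw [eq_inv_of_mul_eq_one_left e, inv_eq_of_mul_eq_one_left c.aa])

theorem za2 : orderOf (z * a) = 2 := orderOf_eq_prime (by rw [pow_two, c.za_sq]) c.za_ne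

/-- Every element of odd order lies in `L`. -/
theorem mem_L {h : H} (hh : Odd (orderOf h)) : h ∈ L := by
  haveI := c.normal
  obtain ⟨u, hu, l, hl, hul⟩ := c.dec h
  obtain ⟨j, hj⟩ := hh
  rw [← QuotientGroup.eq_one_iff]
  have e1 : (h : H ⧸ L) = (u : H ⧸ L) := by
    rw [hul, QuotientGroup.mk_mul, (QuotientGroup.eq_one_iff l).2 hl, mul_one]
  have e2 : (h : H ⧸ L) ^ (2 * j + 1) = 1 := by
    rw [← QuotientGroup.mk_pow, ← hj, pow_orderOf_eq_one, QuotientGroup.mk_one]
  rw [pow_succ, pow_mul, pow_two, e1, ← QuotientGroup.mk_mul, c.Usq u hu, QuotientGroup.mk_one,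
    one_pow, one_mul] at e2
  rw [e1, e2]

theorem dihType : GW.DihType L := by
  intro P hP
  haveI : Fact (Nat.Prime 2) := ⟨Nat.prime_two⟩
  obtain ⟨T, hT⟩ := hP.exists_le_sylow
  let V : Subgroup H := closure {z, a}
  have hV2 : ∀ x ∈ V, x = 1 ∨ x = z ∨ x = a ∨ x = z * a := by
    intro x hx
    refine closure_induction (p := fun x _ => x = 1 ∨ x = z ∨ x = a ∨ x = z * a) ?_ (Or.inl rfl) ?_ ?_ hx
    · rintro y (rfl | rfl)
      · exact Or.inr (Or.inl rfl)
      · exact Or.inr (Or.inr (Or.inl rfl))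
    · have h1 : a * z = z * a := c.za.symm
      have h2 : z * (z * a) = a := by rw [← mul_assoc, c.zz, one_mul]
      have h3 : a * (z * a) = z := by rw [← mul_assoc, h1, mul_assoc, c.aa, mul_one]
      have h4 : z * a * z = a := by rw [mul_assoc, h1, h2]
      have h5 : z * a * a = z := by rw [mul_assoc, c.aa, mul_one]
      rintro x y - - (rfl | rfl | rfl | rfl) (rfl | rfl | rfl | rfl) <;>
        simp [c.zz, c.aa, h1, h2, h3, h4, h5, c.za_sq]
    · rintro x - (rfl | rfl | rfl | rfl)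
      · exact Or.inl inv_one
      · exact Or.inr (Or.inl (inv_eq_of_mul_eq_one_left c.zz))
      · exact Or.inr (Or.inr (Or.inl (inv_eq_of_mul_eq_one_left c.aa)))
      · exact Or.inr (Or.inr (Or.inr (inv_eq_of_mul_eq_one_left c.za_sq)))
  have hVL : V ≤ L := (closure_le L).2 (by
    rintro y (rfl | rfl)
    · exact c.zL
    · exact c.aL)
  have hV4 : 4 ≤ Nat.card V := by
    classical
    have hz : z ∈ V := subset_closure (Or.inl rfl)
    have ha : a ∈ V := subset_closure (Or.inr rfl)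
    have hs : (({1, z, a, z * a} : Finset H) : Set H) ⊆ V := by
      intro y hy
      simp only [Finset.coe_insert, Finset.coe_singleton, Set.mem_insert_iff, Set.mem_singleton_iff] at hy
      rcases hy with rfl | rfl | rfl | rfl
      exacts [one_mem V, hz, ha, mul_mem hz ha]
    have hcard : ({1, z, a, z * a} : Finset H).card = 4 := by
      rw [Finset.card_insert_of_notMem, Finset.card_insert_of_notMem, Finset.card_pair]
      · exact fun e => c.z1 (by rwa [eq_comm, mul_eq_right] at e)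
      · simp only [Finset.mem_insert, Finset.mem_singleton, not_or]
        exact ⟨c.ne, fun e => c.a1 (by rwa [eq_comm, mul_eq_left] at e)⟩
      · simp only [Finset.mem_insert, Finset.mem_singleton, not_or]
        exact ⟨c.z1.symm, c.a1.symm, c.za_ne.symm⟩
    have h' := Set.ncard_le_ncard hs (Set.toFinite _)
    rwa [Set.ncard_coe_finset, hcard, ← Nat.card_coe_set_eq] at h'
  let V' : Subgroup L := V.subgroupOf L
  have hV'2 : ∀ x : V', x * x = 1 := fun x => by
    apply Subtype.ext; apply Subtype.ext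
    show ((x : L) : H) * ((x : L) : H) = 1
    rcases hV2 _ (mem_subgroupOf.1 x.2) with e | e | e | e <;>
      rw [e] <;> simp [c.zz, c.aa, c.za_sq]
  have hV'p : IsPGroup 2 V' := fun x => ⟨1, by rw [pow_one, pow_two, hV'2]⟩
  obtain ⟨R, hR⟩ := hV'p.exists_le_sylow
  obtain ⟨n, hn⟩ := IsPGroup.iff_card.1 R.isPGroup'
  have hn3 : n < 3 := by
    by_contra hn3
    exact c.eight ((pow_dvd_pow 2 (not_lt.1 hn3)).trans (hn ▸ card_subgroup_dvd_card (R : Subgroup L)))
  have hV'4 : Nat.card V' = Nat.card V := Nat.card_congr (subgroupOfEquivOfLe hVL).toEquiv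
  have hVR : V' = (R : Subgroup L) := by
    refine Subgroup.eq_of_le_of_card_ge hR ?_
    rw [hV'4, hn]
    calc 2 ^ n ≤ 2 ^ 2 := Nat.pow_le_pow_right two_pos (by omega)
      _ ≤ _ := hV4
  have hR4 : Nat.card (R : Subgroup L) = 4 := by
    have h4 : 4 ≤ Nat.card (R : Subgroup L) := hVR ▸ hV'4.symm ▸ hV4
    rw [hn] at h4 ⊢
    rcases (show n = 0 ∨ n = 1 ∨ n = 2 by omega) with rfl | rfl | rfl
    · simp at h4
    · simp at h4
    · rfl
  haveI : IsKleinFour (R : Subgroup L) := {
    card_four := hR4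
    exponent_two := by
      haveI : Nontrivial (R : Subgroup L) := Finite.one_lt_card_iff_nontrivial.1 (by omega)
      refine Nat.Prime.eq_one_or_self_of_dvd Nat.prime_two _ (Monoid.exponent_dvd_of_forall_pow_eq_one
        fun x => ?_) |>.resolve_left fun e => ?_
      · rw [pow_two]
        exact Subtype.ext (congrArg (fun y : V' => (y : L)) (hV'2 ⟨(x : L), hVR.symm ▸ x.2⟩))
      · exact not_subsingleton (R : Subgroup L) (Monoid.exp_eq_one_iff.1 e) }
  obtain ⟨eK⟩ : Nonempty ((T : Subgroup L) ≃* DihedralGroup 2) :=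
    ⟨(T.equiv R).trans (Classical.choice (IsKleinFour.nonempty_mulEquiv (G₁ := (R : Subgroup L))
      (G₂ := DihedralGroup 2)))⟩
  exact ⟨2, eK.toMonoidHom.comp (inclusion hT), eK.injective.comp (inclusion_injective hT)⟩

theorem core_L : Cfsg.oddCore L = ⊥ := by
  haveI := c.normal
  haveI hn : ((Cfsg.oddCore L).map L.subtype).Normal :=
    haveI : (Cfsg.oddCore L).Characteristic := PLocal.pPrimeCoreCharacteristic 2 L
    inferInstance
  refine (Subgroup.map_eq_bot_iff_of_injective _ L.subtype_injective).1 ?_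
  rw [eq_bot_iff, ← c.core]
  refine PLocal.le_pPrimeCore (Nat.coprime_two_right.2 ?_)
  rw [← Nat.card_congr ((Cfsg.oddCore L).equivMapOfInjective _ L.subtype_injective).toEquiv]
  exact Inv54.odd_card_oddCore

theorem k_mul : ∃ u ∈ U, ∃ l ∈ L, k = u * l ∧ l * z * l⁻¹ = a ∧ l * a * l⁻¹ = z * a ∧
    ∀ v ∈ U, v * l = l * v := by
  obtain ⟨u, hu, l, hl, hk⟩ := c.dec k
  have hui : u⁻¹ = u := inv_eq_of_mul_eq_one_left (c.Usq u hu)
  have hl' : l = u * k := by rw [hk, ← mul_assoc, c.Usq u hu, one_mul]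
  refine ⟨u, hu, l, hl, hk, ?_, ?_, fun v hv => ?_⟩
  · rw [hl', show u * k * z * (u * k)⁻¹ = u * (k * z * k⁻¹) * u⁻¹ by group, c.kz, c.Ua u hu,
      mul_inv_cancel_right]
  · rw [hl', show u * k * a * (u * k)⁻¹ = u * (k * a * k⁻¹) * u⁻¹ by group, c.ka,
      ((show Commute u z from c.Uz u hu).mul_right (c.Ua u hu)).eq, mul_inv_cancel_right]
  · rw [hl', ← mul_assoc, c.Ucomm v hv u hu, mul_assoc, c.Uk v hv, mul_assoc]

/-- The alternatives for `L`. -/
theorem alternatives :
    ((∀ u ∈ U, ∀ h : H, u * h = h * u) ∧ ∀ x : H, Odd (orderOf x) → x * z = z * x → x = 1) ∨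
    ∃ (N : Subgroup H) (F : Type) (_ : Field F) (_ : Fintype F), N.Normal ∧ N ≤ L ∧ z ∈ N ∧ a ∈ N ∧
      Odd (Fintype.card F) ∧ 3 < Fintype.card F ∧
      Nonempty (N ≃* Matrix.ProjectiveSpecialLinearGroup (Fin 2) F) ∧
      ∀ x ∈ L, (∀ n ∈ N, x * n = n * x) → x = 1 := by
  classical
  haveI : Fact (Nat.Prime 2) := ⟨Nat.prime_two⟩
  haveI := c.normal
  obtain ⟨u₀, hu₀, l₀, hl₀, -, hlz, hla, hUl⟩ := c.k_mul
  have hdec : ∀ (S : Subgroup H), (∀ l ∈ L, l ∈ S) → (∀ v ∈ U, ∀ s ∈ S, v * s = s * v) →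
      ∀ v ∈ U, ∀ h : H, v * h = h * v := by
    intro S hS hUS v hv h
    obtain ⟨u, hu, l, hl, rfl⟩ := c.dec h
    exact (Commute.mul_right (c.Ucomm v hv u hu) (hUS v hv l (hS l hl))).eq
  have hK := GW.known_of_dihType c.dihType
  let eL : (L ⧸ Cfsg.oddCore L) ≃* L :=
    (QuotientGroup.quotientMulEquivOfEq c.core_L).trans QuotientGroup.quotientBot
  have eight : ∀ {X : Subgroup L} {m : ℕ}, Nat.card X = m → 8 ∣ m → False := fun {X m} e h =>
    c.eight (h.trans (e ▸ card_subgroup_dvd_card X))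
  rcases hK with hp | ⟨⟨e⟩⟩ | ⟨⟨e⟩⟩ | ⟨N₀, hN₀, hPSL, hC₀⟩
  · exfalso
    have hL : IsPGroup 2 L := hp.of_equiv eL
    obtain ⟨n, hn⟩ := IsPGroup.iff_card.1 hL
    have hn3 : n < 3 := by
      by_contra hn3
      exact c.eight (hn ▸ pow_dvd_pow 2 (not_lt.1 hn3))
    have hab : ∀ x y : L, x * y = y * x := by
      rcases (show n = 0 ∨ n = 1 ∨ n = 2 by omega) with rfl | rfl | rfl
      · intro x y
        haveI : Subsingleton L := Nat.card_eq_one_iff_unique.1 hn |>.1
        exact Subsingleton.elim _ _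
      · haveI := isCyclic_of_prime_card (α := L) (p := 2) hn
        exact fun x y => mul_comm' x y
      · exact fun x y => (IsPGroup.commGroupOfCardEqPrimeSq hn).mul_comm x y
    have := congrArg Subtype.val (hab ⟨l₀, hl₀⟩ ⟨z, c.zL⟩)
    simp only [Subgroup.coe_mul] at this
    exact c.ne ((mul_inv_eq_iff_eq_mul.2 this).symm.trans hlz)
  · left
    let f := eL.symm.trans e
    have hcard : Nat.card L = 12 := by
      rw [Nat.card_congr f.toEquiv, nat_card_alternatingGroup, Nat.card_fin]; decide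
    refine ⟨hdec (centralizer (U : Set H)) ?_ fun v hv s hs => mem_centralizer_iff.1 hs v hv,
      fun x hx hxz => ?_⟩
    · -- `L` is generated by `z`, `a` and the cycling element
      let S : Subgroup L := (centralizer (U : Set H)).subgroupOf L
      have hzS : (⟨z, c.zL⟩ : L) ∈ S := mem_centralizer_iff.2 fun v hv => c.Uz v hv
      have haS : (⟨a, c.aL⟩ : L) ∈ S := mem_centralizer_iff.2 fun v hv => c.Ua v hv
      have hlS : (⟨l₀, hl₀⟩ : L) ∈ S := mem_centralizer_iff.2 fun v hv => hUl v hv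
      have hA : ∀ s : Subgroup (alternatingGroup (Fin 4)), ∀ x y w : alternatingGroup (Fin 4),
          x ∈ s → y ∈ s → w ∈ s → x ≠ 1 → y ≠ 1 → x ≠ y → x * x = 1 → y * y = 1 → w * x ≠ x * w →
          s = ⊤ := by
        intro s x y w hx hy hw hx1 hy1 hxy hxx hyy hwx
        have key : ∀ x y w g : alternatingGroup (Fin 4), x ≠ 1 → y ≠ 1 → x ≠ y → x * x = 1 →
            y * y = 1 → w * x ≠ x * w → ∃ i j l : Fin 3, g = x ^ (i : ℕ) * y ^ (j : ℕ) * w ^ (l : ℕ) := by
          decide +kernel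
        refine eq_top_iff.2 fun g _ => ?_
        obtain ⟨i, j, l, rfl⟩ := key x y w g hx1 hy1 hxy hxx hyy hwx
        exact mul_mem (mul_mem (pow_mem hx _) (pow_mem hy _)) (pow_mem hw _)
      have htop := hA (S.map f.toMonoidHom) (f ⟨z, c.zL⟩) (f ⟨a, c.aL⟩) (f ⟨l₀, hl₀⟩)
        ⟨_, hzS, rfl⟩ ⟨_, haS, rfl⟩ ⟨_, hlS, rfl⟩
        (fun h => c.z1 (congrArg Subtype.val (f.injective (h.trans (map_one f).symm))))
        (fun h => c.a1 (congrArg Subtype.val (f.injective (h.trans (map_one f).symm))))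
        (fun h => c.ne (congrArg Subtype.val (f.injective h)))
        (by rw [← map_mul, ← map_one f]; exact congrArg f (Subtype.ext c.zz))
        (by rw [← map_mul, ← map_one f]; exact congrArg f (Subtype.ext c.aa))
        (fun h => by
          rw [← map_mul, ← map_mul] at h
          exact c.ne ((mul_inv_eq_iff_eq_mul.2 (congrArg Subtype.val (f.injective h))).symm.trans hlz))
      intro l hl
      obtain ⟨s, hs, hse⟩ : f ⟨l, hl⟩ ∈ S.map f.toMonoidHom := htop ▸ mem_top _
      have : s = ⟨l, hl⟩ := f.injective hse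
      subst this
      exact hs
    · have hxL := c.mem_L hx
      have key : ∀ x y : alternatingGroup (Fin 4), y ≠ 1 → y * y = 1 → x * y = y * x → x * x = 1 := by
        decide +kernel
      have := key (f ⟨x, hxL⟩) (f ⟨z, c.zL⟩)
        (fun h => c.z1 (congrArg Subtype.val (f.injective (h.trans (map_one f).symm))))
        (by rw [← map_mul, ← map_one f]; exact congrArg f (Subtype.ext c.zz))
        (by rw [← map_mul, ← map_mul]; exact congrArg f (Subtype.ext hxz))
      rw [← map_mul, ← map_one f] at this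
      have h2 : x * x = 1 := congrArg Subtype.val (f.injective this)
      exact A8Three.eq_one_of_two_pow (k := 1) (by rw [pow_one, pow_two, h2]) hx
  · exfalso
    refine eight (X := ⊤) (m := 24) ?_ (by norm_num)
    rw [Subgroup.card_top, ← Nat.card_congr eL.toEquiv, Nat.card_congr e.toEquiv, Nat.card_perm,
      Nat.card_fin]
    decide
  · right
    let N₁ : Subgroup L := N₀.map eL.toMonoidHom
    haveI hN₁ : N₁.Normal := hN₀.map _ eL.surjective
    rcases hPSL with ⟨F, _, _, hodd, hlarge, ⟨e⟩⟩ | ⟨⟨e⟩⟩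
    swap
    · exfalso
      refine eight (X := N₁) (m := 2520) ?_ (by norm_num)
      rw [← Nat.card_congr (N₀.equivMapOfInjective _ eL.injective).toEquiv, Nat.card_congr e.toEquiv,
        nat_card_alternatingGroup, Nat.card_fin]
      decide
    haveI := Linear.isSimpleGroup_PSL_of (F := F) 2 le_rfl (fun _ => hlarge)
    let N : Subgroup H := N₁.map L.subtype
    let eN : N ≃* Matrix.ProjectiveSpecialLinearGroup (Fin 2) F :=
      ((N₁.equivMapOfInjective _ L.subtype_injective).symm.trans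
        (N₀.equivMapOfInjective _ eL.injective).symm).trans e
    -- the index of `N` in `L` is odd
    have h4 : 4 ∣ Nat.card (Matrix.ProjectiveSpecialLinearGroup (Fin 2) F) := by
      obtain ⟨m, hm⟩ := hodd
      obtain ⟨i, hi⟩ := Nat.even_mul_succ_self m
      have h := Linear.card_PSL_two_odd (F := F) ⟨m, hm⟩
      have hsq : Fintype.card F ^ 2 - 1 = 8 * i := by
        rw [hm]; apply Nat.sub_eq_of_eq_add; ring_nf; ring_nf at hi; omega
      rw [hsq] at h
      exact ⟨Fintype.card F * i, by linarith [h]⟩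
    have hN4 : 4 ∣ Nat.card N₁ := by
      rwa [← Nat.card_congr (N₀.equivMapOfInjective _ eL.injective).toEquiv, Nat.card_congr e.toEquiv]
    have hidx : ¬ 2 ∣ N₁.index := fun h2 => c.eight (by
      rw [← N₁.card_mul_index]
      exact (show 8 = 4 * 2 by norm_num) ▸ Nat.mul_dvd_mul hN4 h2)
    have hinv : ∀ t : L, t * t = 1 → t ∈ N₁ := fun t ht => by
      rw [← QuotientGroup.eq_one_iff]
      have h1 : orderOf (t : L ⧸ N₁) ∣ 2 := orderOf_dvd_of_pow_eq_one (by
        rw [pow_two, ← QuotientGroup.mk_mul, ht, QuotientGroup.mk_one])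
      rcases (Nat.dvd_prime Nat.prime_two).1 h1 with e | e
      · exact orderOf_eq_one_iff.1 e
      · exact absurd (e ▸ orderOf_dvd_natCard (t : L ⧸ N₁)) (by rwa [← Subgroup.index_eq_card])
    have hzN : z ∈ N := ⟨⟨z, c.zL⟩, hinv _ (Subtype.ext c.zz), rfl⟩
    have haN : a ∈ N := ⟨⟨a, c.aL⟩, hinv _ (Subtype.ext c.aa), rfl⟩
    let eN₁ : N₁ ≃* Matrix.ProjectiveSpecialLinearGroup (Fin 2) F :=
      (N₀.equivMapOfInjective eL.toMonoidHom eL.injective).symm.trans e
    haveI : Nontrivial N₁ := eN₁.toEquiv.nontrivial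
    haveI : IsSimpleGroup N₁ := IsSimpleGroup.isSimpleGroup_of_surjective
      eN₁.symm.toMonoidHom eN₁.symm.surjective
    -- `N` is the subgroup generated by the involutions of `L`
    have hNgen : N = closure {t | t ∈ L ∧ t * t = 1} := by
      refine le_antisymm ?_ ((closure_le N).2 fun t ht => ⟨⟨t, ht.1⟩, hinv _ (Subtype.ext ht.2), rfl⟩)
      let K : Subgroup N₁ := closure {t | t * t = 1}
      haveI : K.Normal := ⟨fun x hx g => by
        refine closure_induction (p := fun x _ => g * x * g⁻¹ ∈ K) (fun t ht => subset_closure ?_) ?_ ?_ ?_ hx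
        · show g * t * g⁻¹ * (g * t * g⁻¹) = 1
          rw [show g * t * g⁻¹ * (g * t * g⁻¹) = g * (t * t) * g⁻¹ by group, ht, mul_one, mul_inv_cancel]
        · simp [K.one_mem]
        · intro x y _ _ hx hy
          rw [show g * (x * y) * g⁻¹ = g * x * g⁻¹ * (g * y * g⁻¹) by group]
          exact mul_mem hx hy
        · intro x _ hx
          rw [show g * x⁻¹ * g⁻¹ = (g * x * g⁻¹)⁻¹ by group]
          exact inv_mem hx⟩
      have hK : K = ⊤ := (IsSimpleGroup.eq_bot_or_eq_top_of_normal K inferInstance).resolve_left fun e => by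
        have : (⟨⟨z, c.zL⟩, hinv _ (Subtype.ext c.zz)⟩ : N₁) ∈ K :=
          subset_closure (Subtype.ext (Subtype.ext c.zz))
        rw [e, mem_bot] at this
        exact c.z1 (congrArg (fun x : N₁ => ((x : L) : H)) this)
      have hmap : (K.map N₁.subtype).map L.subtype ≤ closure {t | t ∈ L ∧ t * t = 1} := by
        rw [MonoidHom.map_closure, MonoidHom.map_closure]
        refine closure_mono ?_
        rintro _ ⟨_, ⟨t, ht, rfl⟩, rfl⟩
        exact ⟨(t : L).2, congrArg (fun x : N₁ => ((x : L) : H)) ht⟩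
      rintro _ ⟨t, ht, rfl⟩
      exact hmap ⟨t, ⟨⟨t, ht⟩, hK ▸ mem_top _, rfl⟩, rfl⟩
    refine ⟨N, F, _, _, ?_, map_subtype_le _, hzN, haN, hodd, hlarge, ⟨eN⟩, fun x hx hxc => ?_⟩
    · rw [hNgen]
      constructor
      intro x hx g
      refine closure_induction (p := fun x _ => g * x * g⁻¹ ∈ _) (fun t ht => subset_closure ?_) ?_ ?_ ?_ hx
      · exact ⟨c.normal.conj_mem t ht.1 g, by
          rw [show g * t * g⁻¹ * (g * t * g⁻¹) = g * (t * t) * g⁻¹ by group, ht.2, mul_one, mul_inv_cancel]⟩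
      · simp [one_mem]
      · intro x y _ _ hx hy
        rw [show g * (x * y) * g⁻¹ = g * x * g⁻¹ * (g * y * g⁻¹) by group]
        exact mul_mem hx hy
      · intro x _ hx
        rw [show g * x⁻¹ * g⁻¹ = (g * x * g⁻¹)⁻¹ by group]
        exact inv_mem hx
    · have hmem : eL.symm ⟨x, hx⟩ ∈ centralizer (N₀ : Set (L ⧸ Cfsg.oddCore L)) := by
        refine mem_centralizer_iff.2 fun n hn => eL.injective ?_
        rw [map_mul, map_mul, MulEquiv.apply_symm_apply]
        exact Subtype.ext (hxc _ ⟨_, ⟨n, hn, rfl⟩, rfl⟩).symm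
      rw [hC₀, mem_bot] at hmem
      have := congrArg (fun q => ((eL q : L) : H)) hmem
      simpa using this

section PSL

variable {N : Subgroup H} {F : Type} [Field F] [Fintype F]

local notation "PST" => Matrix.ProjectiveSpecialLinearGroup (Fin 2) F

omit c in
/-- The action on `PSL(2,F)`. -/
def act (hN : N.Normal) (e : N ≃* PST) : H →* MulAut PST :=
  haveI := hN
  (MulAut.congr e).toMonoidHom.comp MulAut.conjNormal

omit c in
theorem act_apply (hN : N.Normal) (e : N ≃* PST) (g : H) (n : N) :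
    act hN e g (e n) = e ⟨g * n * g⁻¹, hN.conj_mem n n.2 g⟩ := by
  simp [act, MulAut.congr]
  rfl

omit c in
theorem act_coe (hN : N.Normal) (e : N ≃* PST) (n : N) : act hN e (n : H) = MulAut.conj (e n) := by
  ext1 y
  obtain ⟨x, rfl⟩ := e.surjective y
  rw [act_apply, MulAut.conj_apply, ← map_inv, ← map_mul, ← map_mul]
  rfl

omit c in
theorem comm_of_act (hN : N.Normal) (e : N ≃* PST) {g : H} (hg : act hN e g = 1) :
    ∀ n ∈ N, g * n = n * g := fun n hn => by
  have h := act_apply hN e g ⟨n, hn⟩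
  rw [hg, MulAut.one_apply] at h
  have := congrArg Subtype.val (e.injective h)
  exact mul_inv_eq_iff_eq_mul.1 this.symm

/-- An element commuting with `z` and `a` whose field part is trivial acts as one of `1, z, a, za`. -/
theorem exists_inner (hN : N.Normal) (e : N ≃* PST) (hodd : Odd (Fintype.card F)) (hzN : z ∈ N)
    (haN : a ∈ N) {g : H} (hgz : g * z = z * g) (hga : g * a = a * g)
    (hσ : ∀ (M : GL (Fin 2) F) (σ : F ≃+* F),
      act hN e g = AutPSL.toPSLAut (AutPSL.conjSL M * AutPSL.fieldSL σ) → σ = 1) :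
    ∃ v : H, (v = 1 ∨ v = z ∨ v = a ∨ v = z * a) ∧ ∀ n ∈ N, g * v * n = n * (g * v) := by
  have h2 : (2 : F) ≠ 0 := SL2Tori.two_ne_zero_of_odd hodd
  obtain ⟨M, σ, hM⟩ : ∃ (M : GL (Fin 2) F) (σ : F ≃+* F),
      act hN e g = AutPSL.toPSLAut (AutPSL.conjSL M * AutPSL.fieldSL σ) := by
    rcases AutPSL.form_cases le_rfl (act hN e g) with h | ⟨h, -⟩
    · exact h
    · omega
  obtain rfl := hσ M σ hM
  rw [map_one, mul_one] at hM
  obtain ⟨x, hx0, hx⟩ := Forms.KleinPSL.exists_lift_of_orderOf_two h2 (a := e ⟨z, hzN⟩)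
    (fun h => c.z1 (congrArg Subtype.val (e.injective (h.trans (map_one e).symm))))
    (by rw [← map_mul, ← map_one e]; exact congrArg e (Subtype.ext c.zz))
  obtain ⟨y, hy0, hy⟩ := Forms.KleinPSL.exists_lift_of_orderOf_two h2 (a := e ⟨a, haN⟩)
    (fun h => c.a1 (congrArg Subtype.val (e.injective (h.trans (map_one e).symm))))
    (by rw [← map_mul, ← map_one e]; exact congrArg e (Subtype.ext c.aa))
  have hyx := Forms.KleinPSL.anticomm_of_proj_comm h2 hx hy
    (fun h => c.ne (congrArg Subtype.val (e.injective (hx0.symm.trans (h.trans hy0)))))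
    (by rw [hx0, hy0, ← map_mul, ← map_mul]; exact congrArg e (Subtype.ext c.za))
  have hfix : ∀ (w : Matrix.SpecialLinearGroup (Fin 2) F) (t : H) (ht : t ∈ N),
      Forms.KleinPSL.projHom w = e ⟨t, ht⟩ → g * t = t * g →
      AutPSL.conjSL M w = w ∨ AutPSL.conjSL M w = -w := by
    intro w t ht hw hgt
    refine Forms.KleinPSL.proj_eq_proj_iff.1 ?_
    have h1 := act_apply hN e g ⟨t, ht⟩
    simp only [hgt, mul_inv_cancel_right] at h1
    rw [hM, ← hw] at h1
    exact h1.symm
  obtain ⟨w, hw, hMw⟩ := exists_member h2 hx hy hyx (hfix x z hzN hx0 hgz) (hfix y a haN hy0 hga)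
  obtain ⟨v, hvN, hwv, hv⟩ : ∃ (v : H) (hv : v ∈ N), Forms.KleinPSL.projHom w = e ⟨v, hv⟩ ∧
      (v = 1 ∨ v = z ∨ v = a ∨ v = z * a) := by
    rcases hw with rfl | rfl | rfl | rfl
    · exact ⟨1, one_mem N, by rw [map_one, ← map_one e]; rfl, Or.inl rfl⟩
    · exact ⟨z, hzN, hx0, Or.inr (Or.inl rfl)⟩
    · exact ⟨a, haN, hy0, Or.inr (Or.inr (Or.inl rfl))⟩
    · exact ⟨z * a, mul_mem hzN haN, by rw [map_mul, hx0, hy0, ← map_mul]; rfl,
        Or.inr (Or.inr (Or.inr rfl))⟩
  refine ⟨v, hv, comm_of_act hN e ?_⟩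
  rw [map_mul, act_coe hN e ⟨v, hvN⟩, hM, ← hwv]
  show _ * MulAut.conj (QuotientGroup.mk' _ w) = 1
  rw [QuotientGroup.mk'_apply, ← AutPSL.toPSLAut_conj, ← map_mul, hMw, map_one]

/-- Elements of odd order of `C_N(z)` are inverted by `a`. -/
theorem tor_of_mem (e : N ≃* PST) (hodd : Odd (Fintype.card F)) (hzN : z ∈ N) (haN : a ∈ N) {x : H}
    (hxN : x ∈ N) (hx : Odd (orderOf x)) (hxz : x * z = z * x) : Tor z a x := by
  obtain ⟨T, hT, hzT, hTmem, hTinv⟩ := GW.exists_torus_psl hodd (a := e ⟨z, hzN⟩)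
    (by rw [MulEquiv.orderOf_eq, ← Subgroup.orderOf_coe]; exact c.z2)
  have hord : orderOf (e ⟨x, hxN⟩) = orderOf x := by rw [MulEquiv.orderOf_eq, ← Subgroup.orderOf_coe]
  have hxT : e ⟨x, hxN⟩ ∈ T := (hTmem _ (by rw [← map_mul, ← map_mul]; exact congrArg e (Subtype.ext hxz))).resolve_right
    fun h => by rw [hord] at h; rw [h] at hx; exact absurd hx (by decide)
  have haT : e ⟨a, haN⟩ ∉ T := by
    intro haT
    classical
    haveI := hT
    haveI : Fintype T := Fintype.ofFinite T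
    have hs : ({1, ⟨_, hzT⟩, ⟨_, haT⟩} : Finset T) ⊆ Finset.univ.filter fun t => t ^ 2 = 1 := by
      intro t ht
      simp only [Finset.mem_insert, Finset.mem_singleton] at ht
      simp only [Finset.mem_filter, Finset.mem_univ, true_and]
      rcases ht with rfl | rfl | rfl
      · exact one_pow 2
      · apply Subtype.ext; show e ⟨z, hzN⟩ ^ 2 = 1
        rw [pow_two, ← map_mul, ← map_one e]; exact congrArg e (Subtype.ext c.zz)
      · apply Subtype.ext; show e ⟨a, haN⟩ ^ 2 = 1
        rw [pow_two, ← map_mul, ← map_one e]; exact congrArg e (Subtype.ext c.aa)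
    have h3 := (Finset.card_le_card hs).trans (IsCyclic.card_pow_eq_one_le two_pos)
    rw [Finset.card_insert_of_notMem, Finset.card_pair] at h3
    · omega
    · exact fun h => c.ne (congrArg Subtype.val (e.injective (congrArg Subtype.val h)))
    · simp only [Finset.mem_insert, Finset.mem_singleton, not_or]
      exact ⟨fun h => c.z1 (congrArg Subtype.val (e.injective ((congrArg Subtype.val h).symm.trans (map_one e).symm))),
        fun h => c.a1 (congrArg Subtype.val (e.injective ((congrArg Subtype.val h).symm.trans (map_one e).symm)))⟩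
  refine ⟨hx, hxz, ?_⟩
  have := hTinv _ (by rw [← map_mul, ← map_mul]; exact congrArg e (Subtype.ext c.za.symm)) haT _ hxT
  rw [← map_inv, ← map_mul, ← map_mul, ← map_inv] at this
  exact congrArg Subtype.val (e.injective this)

omit c in
/-- Elements inverted by `a` of odd order lie in a normal subgroup containing `a`. -/
theorem tor_mem (hN : N.Normal) (haN : a ∈ N) {z x : H} (hx : Tor z a x) : x ∈ N := by
  haveI := hN
  obtain ⟨hxo, -, hxa⟩ := hx
  have h1 : (x : H ⧸ N)⁻¹ = x := by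
    have := congrArg (QuotientGroup.mk' N) hxa
    simpa [(QuotientGroup.eq_one_iff a).2 haN] using this.symm
  obtain ⟨j, hj⟩ := hxo
  rw [← QuotientGroup.eq_one_iff]
  have e2 : (x : H ⧸ N) ^ (2 * j + 1) = 1 := by
    rw [← QuotientGroup.mk_pow, ← hj, pow_orderOf_eq_one, QuotientGroup.mk_one]
  rwa [pow_succ, pow_mul, pow_two, show (x : H ⧸ N) * x = 1 from mul_eq_one_iff_eq_inv.2 h1.symm,
    one_pow, one_mul] at e2

end PSL

/-- `U` is central. -/
theorem central : ∀ u ∈ U, ∀ h : H, u * h = h * u := by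
  rcases c.alternatives with ⟨hc, -⟩ | ⟨N, F, _, _, hN, hNL, hzN, haN, hodd, -, ⟨e⟩, hC⟩
  · exact hc
  intro u hu h
  have h8 : ¬ 8 ∣ Nat.card (Matrix.ProjectiveSpecialLinearGroup (Fin 2) F) := fun h8 => c.eight
    (h8.trans (Nat.card_congr e.toEquiv ▸ card_dvd_of_le hNL))
  obtain ⟨v, hv, hvN⟩ := c.exists_inner hN e hodd hzN haN (c.Uz u hu) (c.Ua u hu) fun M σ hM => by
    obtain ⟨p, hp⟩ := CharP.exists F
    haveI : Fact p.Prime := ⟨CharP.char_is_prime F p⟩
    refine eq_one_of_sq_field hodd h8 ((AutPSL.mul_field_pow_eq_one_iff p σ M 2).1 ?_).1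
    rw [← hM, ← map_pow, pow_two, c.Usq u hu, map_one]
  haveI := c.normal
  have hcL : ∀ l ∈ L, u * v * l = l * (u * v) := by
    intro l hl
    have hc : ∀ n ∈ N, (u * v) * l * (u * v)⁻¹ * l⁻¹ * n = n * ((u * v) * l * (u * v)⁻¹ * l⁻¹) := by
      intro n hn
      have hl' := hN.conj_mem n hn l⁻¹
      rw [inv_inv] at hl'
      have e1 := hvN _ hl'
      have e2 := hvN _ hn
      calc (u * v) * l * (u * v)⁻¹ * l⁻¹ * n
          = (u * v) * l * (u * v)⁻¹ * (l⁻¹ * n * l) * l⁻¹ := by group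
        _ = (u * v) * l * (u * v)⁻¹ * ((l⁻¹ * n * l) * (u * v)) * (u * v)⁻¹ * l⁻¹ := by group
        _ = (u * v) * n * (l * (u * v)⁻¹ * l⁻¹) := by rw [← e1]; group
        _ = _ := by rw [e2]; group
    have hmem : (u * v) * l * (u * v)⁻¹ * l⁻¹ ∈ L :=
      mul_mem (c.normal.conj_mem l hl _) (inv_mem hl)
    have := hC _ hmem hc
    rwa [mul_inv_eq_one, mul_inv_eq_iff_eq_mul] at this
  obtain ⟨u₀, -, l, hl, -, hlz, hla, hUl⟩ := c.k_mul
  have hlv : v * l = l * v := by
    have h1 := hcL l hl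
    rw [mul_assoc, ← mul_assoc l, ← hUl u hu, mul_assoc u l] at h1
    exact mul_left_cancel h1
  have hv1 : v = 1 := by
    have key : ∀ t t' : H, l * t * l⁻¹ = t' → t ≠ t' → v ≠ t := fun t t' ht hne e => hne (by
      rw [← ht, ← e, ← hlv, mul_inv_cancel_right])
    rcases hv with e | e | e | e
    · exact e
    · exact absurd e (key z a hlz c.ne)
    · exact absurd e (key a (z * a) hla fun e' => c.z1 (by rwa [eq_comm, mul_eq_right] at e'))
    · refine absurd e (key (z * a) z ?_ fun e' => c.a1 (by rwa [mul_eq_left] at e'))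
      rw [show l * (z * a) * l⁻¹ = (l * z * l⁻¹) * (l * a * l⁻¹) by group, hlz, hla, ← mul_assoc, ← c.za,
        mul_assoc, c.aa, mul_one]
  subst hv1
  obtain ⟨w, hw, l', hl', rfl⟩ := c.dec h
  have h2 := hcL l' hl'
  rw [mul_one] at h2
  exact (Commute.mul_right (c.Ucomm u hu w hw) h2).eq

/-- The elements of odd order commuting with `z` and inverted by `a` lie in a cyclic subgroup. -/
theorem exists_cyclic : ∃ T : Subgroup H, IsCyclic T ∧ ∀ x, Tor z a x → x ∈ T := by
  rcases c.alternatives with ⟨-, h1⟩ | ⟨N, F, _, _, hN, -, hzN, haN, hodd, -, ⟨e⟩, -⟩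
  · exact ⟨⊥, inferInstance, fun x hx => mem_bot.2 (h1 x hx.1 hx.2.1)⟩
  obtain ⟨T, hT, -, hTmem, -⟩ := GW.exists_torus_psl hodd (a := e ⟨z, hzN⟩)
    (by rw [MulEquiv.orderOf_eq, ← Subgroup.orderOf_coe]; exact c.z2)
  refine ⟨T.map (N.subtype.comp e.symm.toMonoidHom), ?_, fun x hx => ?_⟩
  · exact isCyclic_of_surjective ((N.subtype.comp e.symm.toMonoidHom).subgroupMap T)
      (MonoidHom.subgroupMap_surjective _ T)
  · have hxN := tor_mem hN haN hx
    refine ⟨e ⟨x, hxN⟩, (hTmem _ (by rw [← map_mul, ← map_mul]; exact congrArg e (Subtype.ext hx.2.1))).resolve_right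
      fun h => ?_, by simp⟩
    have h1 := hx.1
    rw [MulEquiv.orderOf_eq, ← Subgroup.orderOf_coe] at h
    rw [show orderOf x = 2 from h] at h1
    exact absurd h1 (by decide)

/-- If no nontrivial element is inverted then the centralizer of `z` has no odd elements. -/
theorem eq_one_of_forall_tor (h : ∀ x, Tor z a x → x = 1) {x : H} (hx : Odd (orderOf x))
    (hxz : x * z = z * x) : x = 1 := by
  rcases c.alternatives with ⟨-, h1⟩ | ⟨N, F, _, _, hN, hNL, hzN, haN, hodd, hlarge, ⟨e⟩, hC⟩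
  · exact h1 x hx hxz
  classical
  haveI : Fact (Nat.Prime 2) := ⟨Nat.prime_two⟩
  have hz' : orderOf (e ⟨z, hzN⟩) = 2 := by
    rw [MulEquiv.orderOf_eq, ← Subgroup.orderOf_coe]; exact c.z2
  set C := centralizer ({e ⟨z, hzN⟩} : Set (Matrix.ProjectiveSpecialLinearGroup (Fin 2) F)) with hCdef
  have hCp : IsPGroup 2 C := by
    rcases Nat.eq_two_pow_or_exists_odd_prime_and_dvd (Nat.card C) with ⟨i, hi⟩ | ⟨r, hr, hrd, hro⟩
    · exact IsPGroup.of_card hi
    exfalso
    haveI := Fact.mk hr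
    obtain ⟨y, hy'⟩ := exists_prime_orderOf_dvd_card' r hrd
    have hy : Odd (orderOf y) := hy' ▸ hro
    suffices hy1 : y = 1 by rw [hy1, orderOf_one] at hy'; exact hr.ne_one hy'.symm
    have hyN := (e.symm (y : Matrix.ProjectiveSpecialLinearGroup (Fin 2) F)).2
    have := h _ (c.tor_of_mem e hodd hzN haN hyN (by
      rw [Subgroup.orderOf_coe, MulEquiv.orderOf_eq, Subgroup.orderOf_coe]; exact hy) ?_)
    · apply Subtype.ext
      apply e.symm.injective
      rw [OneMemClass.coe_one, map_one]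
      exact Subtype.ext this
    · have h2 := congrArg e.symm (mem_centralizer_singleton_iff.1 y.2)
      rw [map_mul, map_mul, MulEquiv.symm_apply_apply] at h2
      exact congrArg Subtype.val h2
  obtain ⟨n, hn⟩ := IsPGroup.iff_card.1 hCp
  have hn3 : n < 3 := by
    by_contra hn3
    exact c.eight (((pow_dvd_pow 2 (not_lt.1 hn3)).trans (hn ▸ card_subgroup_dvd_card C)).trans
      (Nat.card_congr e.toEquiv ▸ card_dvd_of_le hNL))
  have hC4 : Nat.card C ≤ 4 := by
    rw [hn]
    calc 2 ^ n ≤ 2 ^ 2 := Nat.pow_le_pow_right two_pos (by omega)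
      _ = 4 := rfl
  have h5 : Fintype.card F = 5 := by
    rcases GW.card_centralizer_involution_psl hodd hz' with ⟨hm, hcard⟩ | ⟨hm, hcard⟩ <;>
      rw [← hCdef] at hcard <;> omega
  -- `x` fixes `a`
  have hxa : x * a = a * x := by
    have hcases : ∀ t ∈ N, t * z = z * t → t = 1 ∨ t = z ∨ t = a ∨ t = z * a := by
      intro t ht htz
      by_contra hne
      simp only [not_or] at hne
      have hmem : ∀ (w : H) (hw : w ∈ N), w * z = z * w → e ⟨w, hw⟩ ∈ C := fun w hw hwz =>
        mem_centralizer_singleton_iff.2 (by rw [← map_mul, ← map_mul]; exact congrArg e (Subtype.ext hwz))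
      let f : Fin 5 → C := ![1, ⟨_, hmem z hzN rfl⟩, ⟨_, hmem a haN c.za.symm⟩,
        ⟨_, hmem _ (mul_mem hzN haN) (Commute.mul_left (Commute.refl z) c.za.symm).eq⟩, ⟨_, hmem t ht htz⟩]
      let g : Fin 5 → H := ![1, z, a, z * a, t]
      have hgf : ∀ i, g i = ((e.symm (f i : _) : N) : H) := by
        intro i; fin_cases i <;> simp [f, g]
      have hg : Function.Injective g := by
        intro i j hij
        fin_cases i <;> fin_cases j <;> simp [g] at hij ⊢ <;>
          first
          | exact absurd hij c.z1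
          | exact absurd hij c.z1.symm
          | exact absurd hij c.a1
          | exact absurd hij c.a1.symm
          | exact absurd hij c.za_ne
          | exact absurd hij c.za_ne.symm
          | exact absurd hij c.ne
          | exact absurd hij c.ne.symm
          | exact absurd hij hne.1
          | exact absurd hij.symm hne.1
          | exact absurd hij hne.2.1
          | exact absurd hij.symm hne.2.1
          | exact absurd hij hne.2.2.1
          | exact absurd hij.symm hne.2.2.1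
          | exact absurd hij hne.2.2.2
          | exact absurd hij.symm hne.2.2.2
      have hf : Function.Injective f := fun i j hij => hg (by rw [hgf, hgf, hij])
      have := Nat.card_le_card_of_injective f hf
      rw [Nat.card_fin] at this
      omega
    have hcom : x * a * x⁻¹ * z = z * (x * a * x⁻¹) := by
      have h1 : Commute x z := hxz
      exact ((h1.mul_left c.za.symm).mul_left h1.inv_left).eq
    rcases hcases _ (hN.conj_mem a haN x) hcom with e1 | e1 | e1 | e1
    · exact absurd (conj_eq_one_iff.1 e1) c.a1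
    · exfalso
      refine c.ne ?_
      calc z = x⁻¹ * (z * x) := by rw [← hxz]; group
        _ = x⁻¹ * (x * a * x⁻¹ * x) := by rw [e1]
        _ = a := by group
    · exact mul_inv_eq_iff_eq_mul.1 e1
    · refine A8Three.commute_of_odd_sq hx ?_
      rw [← mul_inv_eq_iff_eq_mul]
      calc x * x * a * (x * x)⁻¹ = x * (x * a * x⁻¹) * x⁻¹ := by group
        _ = x * (z * a) * x⁻¹ := by rw [e1]
        _ = x * z * x⁻¹ * (x * a * x⁻¹) := by group
        _ = a := by rw [hxz, mul_inv_cancel_right, e1, ← mul_assoc, c.zz, one_mul]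

  obtain ⟨v, hv, hvN⟩ := c.exists_inner hN e hodd hzN haN hxz hxa fun _ σ _ => eq_one_of_card_five h5 σ
  have hvL : v ∈ L := by
    rcases hv with rfl | rfl | rfl | rfl
    exacts [one_mem L, c.zL, c.aL, mul_mem c.zL c.aL]
  have h1 := hC _ (mul_mem (c.mem_L hx) hvL) hvN
  have hx' : x = v⁻¹ := eq_inv_of_mul_eq_one_left h1
  have hv2 : v * v = 1 := by rcases hv with rfl | rfl | rfl | rfl <;> simp [c.zz, c.aa, c.za_sq]
  exact A8Three.eq_one_of_two_pow (k := 1)
    (by rw [hx', pow_one, pow_two, ← mul_inv_rev, hv2, inv_one]) hx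

/-- No subgroup of odd order normalized by `z` and `a` has two tori. -/
theorem no_two_tori {R : Subgroup H} (hR : Odd (Nat.card R)) (hzR : z ∈ normalizer (R : Set H))
    (haR : a ∈ normalizer (R : Set H)) {x y : H} (hxR : x ∈ R) (hyR : y ∈ R) (hx : Tor z a x)
    (hy : Tor a z y) (hx1 : x ≠ 1) (hy1 : y ≠ 1) : False := by
  rcases c.alternatives with ⟨-, h1⟩ | ⟨N, F, _, _, hN, -, hzN, haN, hodd, -, ⟨e⟩, -⟩
  · exact hx1 (h1 x hx.1 hx.2.1)
  classical
  haveI := hN
  set R₀ := R ⊓ N with hR₀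
  have hR₀o : Odd (Nat.card R₀) := hR.of_dvd_nat (card_dvd_of_le inf_le_left)
  have hxN : x ∈ R₀ := ⟨hxR, tor_mem hN haN hx⟩
  have hyN : y ∈ R₀ := ⟨hyR, tor_mem hN hzN hy⟩
  haveI : Nontrivial R₀ := ⟨⟨⟨x, hxN⟩, 1, fun h => hx1 (congrArg Subtype.val h)⟩⟩
  haveI : Group.IsSolvable R₀ := Cfsg.Agent.S0205.result hR₀o
  -- the last nontrivial term of the derived series
  obtain ⟨m, hm⟩ := (Group.isSolvable_def R₀).1 inferInstance
  obtain ⟨d, hd1, hd2⟩ : ∃ d, derivedSeries R₀ d ≠ ⊥ ∧ derivedSeries R₀ (d + 1) = ⊥ := by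
    by_contra hno
    push Not at hno
    have : ∀ d, derivedSeries R₀ d ≠ ⊥ := fun d => by
      induction d with
      | zero => rw [derivedSeries_zero]; exact top_ne_bot
      | succ d ih => exact hno d ih
    exact this m hm
  set R₁ := (derivedSeries R₀ d).map R₀.subtype with hR₁
  have hR₁le : R₁ ≤ R₀ := map_subtype_le _
  have hR₁comm : ∀ s ∈ R₁, ∀ t ∈ R₁, s * t = t * s := by
    rintro _ ⟨s, hs, rfl⟩ _ ⟨t, ht, rfl⟩
    have h2 : s * t * s⁻¹ * t⁻¹ ∈ derivedSeries R₀ (d + 1) := by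
      rw [derivedSeries_succ]; exact commutator_mem_commutator hs ht
    rw [hd2, mem_bot, mul_inv_eq_one, mul_inv_eq_iff_eq_mul] at h2
    exact congrArg Subtype.val h2
  have hR₀inv : ∀ w ∈ normalizer (R : Set H), w ∈ normalizer (R₀ : Set H) := fun w hw => by
    refine mem_normalizer_iff.2 fun t => ?_
    simp only [hR₀, mem_inf]
    exact and_congr ((mem_normalizer_iff.1 hw) t) ⟨fun h => hN.conj_mem t h w, fun h => by
      have := hN.conj_mem _ h w⁻¹
      rwa [inv_inv, show w⁻¹ * (w * t * w⁻¹) * w = t by group] at this⟩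
  have hR₁inv : ∀ w ∈ normalizer (R₀ : Set H), ∀ s ∈ R₁, w * s * w⁻¹ ∈ R₁ := by
    rintro w hw _ ⟨s, hs, rfl⟩
    haveI hd : (derivedSeries R₀ d).Characteristic := derivedSeries_characteristic R₀ d
    have := (characteristic_iff_map_eq.1 hd) (normalizerMonoidHom R₀ ⟨w, hw⟩)
    exact ⟨_, this.le ⟨s, hs, rfl⟩, rfl⟩
  have hR₁n : ∀ w ∈ normalizer (R₀ : Set H), w ∈ normalizer (R₁ : Set H) := fun w hw =>
    mem_normalizer_iff.2 fun t => ⟨hR₁inv w hw t, fun ht => by
      have := hR₁inv w⁻¹ (inv_mem hw) _ ht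
      rwa [inv_inv, show w⁻¹ * (w * t * w⁻¹) * w = t by group] at this⟩
  have hR₁o : Odd (Nat.card R₁) := hR₀o.of_dvd_nat (card_dvd_of_le hR₁le)
  have hz1 := hR₁n z (hR₀inv z hzR)
  have ha1 := hR₁n a (hR₀inv a haR)
  -- one of the three involutions centralizes an element of prime order of `R₁`
  obtain ⟨v, hvmem, t, ht, ht1, hvt⟩ : ∃ v, (v = z ∨ v = a ∨ v = z * a) ∧
      ∃ t ∈ R₁, t ≠ 1 ∧ Commute v t := by
    by_contra hno
    push Not at hno
    have hbot : R₁ ≤ ⊥ := GW.OS.le_of_four c.z2 c.a2 c.za c.ne.symm hR₁o hz1 ha1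
      (fun s hs hc => mem_bot.2 (by_contra fun h => hno z (Or.inl rfl) s hs h hc))
      (fun s hs hc => mem_bot.2 (by_contra fun h => hno a (Or.inr (Or.inl rfl)) s hs h hc))
      (fun s hs hc => mem_bot.2 (by_contra fun h => hno _ (Or.inr (Or.inr rfl)) s hs h hc))
    exact hd1 ((Subgroup.map_eq_bot_iff_of_injective _ R₀.subtype_injective).1 (le_bot_iff.1 hbot))
  obtain ⟨r, hr, hrdvd⟩ := Nat.exists_prime_and_dvd (show orderOf t ≠ 1 from fun h => ht1 (orderOf_eq_one_iff.1 h))
  set s := t ^ (orderOf t / r) with hs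
  have hso : orderOf s = r := orderOf_pow_orderOf_div (orderOf_pos t).ne' hrdvd
  have hsR : s ∈ R₁ := pow_mem ht _
  have hvs : Commute v s := hvt.pow_right _
  have hr2 : r ≠ 2 := fun h => by
    have h2 := R₁.orderOf_dvd_natCard hsR
    rw [hso, h] at h2
    exact hR₁o.not_two_dvd_nat h2
  have hvN : v ∈ N := by rcases hvmem with rfl | rfl | rfl; exacts [hzN, haN, mul_mem hzN haN]
  have hvo : orderOf v = 2 := by rcases hvmem with rfl | rfl | rfl; exacts [c.z2, c.a2, c.za2]
  have hsN : ∀ {w : H}, w ∈ R₁ → w ∈ N := fun hw => (hR₁le hw).2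
  have hrq : ¬ r ∣ Fintype.card F := by
    intro hq
    have hmem : e ⟨s, hsN hsR⟩ ∈ centralizer ({e ⟨v, hvN⟩} : Set (Matrix.ProjectiveSpecialLinearGroup (Fin 2) F)) :=
      mem_centralizer_singleton_iff.2 (by rw [← map_mul, ← map_mul]; exact congrArg e (Subtype.ext hvs.eq.symm))
    have hd := orderOf_dvd_natCard (⟨_, hmem⟩ : centralizer ({e ⟨v, hvN⟩} : Set _))
    rw [← Subgroup.orderOf_coe, MulEquiv.orderOf_eq, ← Subgroup.orderOf_coe, hso] at hd
    rcases GW.card_centralizer_involution_psl hodd (a := e ⟨v, hvN⟩)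
      (by rw [MulEquiv.orderOf_eq, ← Subgroup.orderOf_coe]; exact hvo) with ⟨hm, hcard⟩ | ⟨hm, hcard⟩ <;>
      rw [hcard] at hd
    · have h1 := Nat.dvd_sub hq hd
      rw [Nat.sub_sub_self (by omega)] at h1
      exact hr.ne_one (Nat.dvd_one.1 h1)
    · have h1 := Nat.dvd_sub hd hq
      rw [Nat.add_sub_cancel_left] at h1
      exact hr.ne_one (Nat.dvd_one.1 h1)
  -- `R₁` centralizes `v`
  haveI hcyc := GW.isCyclic_centralizer_psl hodd hr hr2 hrq (e ⟨s, hsN hsR⟩)
    (by rw [MulEquiv.orderOf_eq, ← Subgroup.orderOf_coe]; exact hso)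
  have hcv : ∀ w ∈ R₁, Commute v w := by
    intro w hw
    have h1 : e ⟨w, hsN hw⟩ ∈ centralizer ({e ⟨s, hsN hsR⟩} : Set _) :=
      mem_centralizer_singleton_iff.2 (by rw [← map_mul, ← map_mul]; exact congrArg e (Subtype.ext (hR₁comm w hw s hsR)))
    have h2 : e ⟨v, hvN⟩ ∈ centralizer ({e ⟨s, hsN hsR⟩} : Set _) :=
      mem_centralizer_singleton_iff.2 (by rw [← map_mul, ← map_mul]; exact congrArg e (Subtype.ext hvs.eq))
    have h3 := congrArg e.symm (GW.commute_of_isCyclic (X := centralizer ({e ⟨s, hsN hsR⟩} : Set _))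
      _ h2 _ h1)
    rw [map_mul, map_mul, MulEquiv.symm_apply_apply, MulEquiv.symm_apply_apply] at h3
    exact congrArg Subtype.val h3
  have hsR₀ : ∀ g ∈ R₀, g * v = v * g := by
    intro g hg
    have hgn : g ∈ normalizer (R₀ : Set H) := le_normalizer hg
    have h1 : g * s * g⁻¹ ∈ R₁ := hR₁inv g hgn s hsR
    have hgv : g * v * g⁻¹ ∈ N := hN.conj_mem v hvN g
    have := GW.eq_of_commute_torus e hodd hr hr2 hrq (y := ⟨_, hsN h1⟩) (w := ⟨v, hvN⟩)
      (w' := ⟨_, hgv⟩) (by rw [← Subgroup.orderOf_coe, Small.orderOf_conj_eq, hso])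
      (by rw [← Subgroup.orderOf_coe]; exact hvo)
      (by rw [← Subgroup.orderOf_coe, Small.orderOf_conj_eq, hvo])
      (Subtype.ext (hcv _ h1).eq)
      (Subtype.ext (show g * v * g⁻¹ * (g * s * g⁻¹) = g * s * g⁻¹ * (g * v * g⁻¹) by
        rw [show g * v * g⁻¹ * (g * s * g⁻¹) = g * (v * s) * g⁻¹ by group, hvs.eq]; group))
    exact mul_inv_eq_iff_eq_mul.1 (congrArg Subtype.val this).symm
  -- `v` centralizes `x` and `y`
  have fixed : ∀ {w t : H}, Odd (orderOf w) → t * w * t⁻¹ = w⁻¹ → t * w = w * t → w = 1 := by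
    intro w t hw h1 h2
    rw [h2, mul_inv_cancel_right] at h1
    exact A8Three.eq_one_of_two_pow (k := 1)
      (by rw [pow_one, pow_two]; exact mul_eq_one_iff_eq_inv.2 h1) hw
  rcases hvmem with rfl | rfl | rfl
  · exact hy1 (fixed hy.1 hy.2.2 (hsR₀ y hyN).symm)
  · exact hx1 (fixed hx.1 hx.2.2 (hsR₀ x hxN).symm)
  · refine hx1 (fixed hx.1 hx.2.2 ?_)
    have h1 : Commute (z * (z * a)) x :=
      (show Commute z x from hx.2.1.symm).mul_left (show Commute (z * a) x from (hsR₀ x hxN).symm)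
    rw [← mul_assoc, c.zz, one_mul] at h1
    exact h1.eq

end Comp

end CfsgLib.J2Sylow
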