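import Cfsg.Agent.J2Sylow.Shift

/-!
# An element of odd order centralizing an elementary abelian group of order eight
-/

set_option autoImplicit false
set_option linter.style.haveILetI false
set_option linter.unusedSectionVars false
set_option maxRecDepth 100000

namespace CfsgLib.J2Sylow

open Subgroup CfsgLib.HallJanko CfsgLib.J2Type
open CfsgLib.A8Three (coreC IsCompl2)

universe u

variable {G : Type u} [Group G] [Finite G]

namespace Hyp

variable {S : Sylow 2 G} {z : G} (h : Hyp S z)
include h

variable {b : G} (hb : h.Outside b)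
include hb

/-- An element centralizing `b`, `v` and `w = b'z`, inverted by `z`, which is in `O(C(b))`, is in
`O(C(bv))` exactly if it is in `O(C(w)) ∩ O(C(bw))`. -/
theorem Cyc.eight {k : G} (hk : h.Cyc b k) {b' : G} (hb' : b' ∈ fixU S b k) (hb'1 : b' ≠ 1) (hb'b : b' ≠ b)
    {v : G} (hv : Four z (h.D.a 4) v) (hv1 : v ≠ 1) (hvz : v ≠ z) {n : G} (ho : Odd (orderOf n))
    (hn : n ∈ coreC b) (hnv : n * v = v * n) (hnw : n * (z * b') = z * b' * n) (hnz : z * n * z⁻¹ = n⁻¹) :
    n ∈ coreC (b * v) ↔ n ∈ coreC (z * b') ∧ n ∈ coreC (b * (z * b')) := by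
  by_cases hn1 : n = 1
  · simp [hn1, one_mem]
  set w := z * b' with hw
  have hnb : n * b = b * n := mem_centralizer_singleton_iff.1 (CfsgLib.A8Three.coreC_le b hn)
  have hbA := h.bA hb
  have hzA := h.zA hb
  have hvA := h.four_mem_A hb hv
  have hwA : w ∈ centS S b := mul_mem hzA hb'.1
  have hnnz : ¬ n * z = z * n := fun e => by
    rw [← e, mul_inv_cancel_right] at hnz
    exact hn1 (CfsgLib.A8Three.eq_one_of_two_pow (k := 1)
      (by rw [pow_one, pow_two]; exact mul_eq_one_iff_eq_inv.2 hnz) ho)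
  have hzz := h.zz
  have zcom : ∀ {y}, y ∈ centS S b → y * z = z * y := fun hy => h.A_comm hb hy hzA
  have hnac : ¬ (n * h.D.a 4 = h.D.a 4 * n ∧ n * (h.D.a 4 * z) = h.D.a 4 * z * n) := fun ⟨e1, e2⟩ => hnnz (by
    have h1 := (Commute.mul_right (e1 : Commute n _) e2).eq
    rwa [← mul_assoc (h.D.a 4) (h.D.a 4) z, h.D.sq, one_mul] at h1)
  -- every element of `A` centralizes `n` or does so times `z`
  let P : G → Prop := fun y => n * y = y * n ∨ n * (y * z) = y * z * n
  have Pmul : ∀ x y : G, x ∈ centS S b → y ∈ centS S b → P x → P y → P (x * y) := by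
    intro x y hx hy hPx hPy
    rcases hPx with hPx | hPx <;> rcases hPy with hPy | hPy
    · exact Or.inl (Commute.mul_right (hPx : Commute n x) hPy).eq
    · right; rw [mul_assoc x y z]; exact (Commute.mul_right (hPx : Commute n x) hPy).eq
    · right; rw [mul_assoc x y z, zcom hy, ← mul_assoc x z y]; exact (Commute.mul_right (hPx : Commute n (x * z)) hPy).eq
    · left
      rw [show x * y = x * z * (y * z) by rw [zcom hy, mul_assoc x z, ← mul_assoc z, hzz, one_mul]]
      exact (Commute.mul_right (hPx : Commute n (x * z)) hPy).eq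
  have Pz : P z := Or.inr (by rw [hzz, mul_one, one_mul])
  have Pv : ∀ x, Four z (h.D.a 4) x → P x := by
    have Pa : P (h.D.a 4) := by
      rcases hv with e | e | rfl | rfl
      · exact absurd e hv1
      · exact absurd e hvz
      · exact Or.inl hnv
      · exact Or.inr hnv
    rintro x (rfl | rfl | rfl | rfl)
    exacts [Or.inl (by rw [mul_one, one_mul]), Pz, Pa, Pmul _ _ (h.aA hb) hzA Pa Pz]
  have Pb : P b := Or.inl hnb
  have Pb' : P b' := by
    right
    rw [zcom hb'.1]
    exact hnw
  have Pall : ∀ y ∈ centS S b, P y := by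
    intro y hy
    obtain ⟨u, hu, hf⟩ := Cyc.exists_dec h hb hk hy
    have hu2 := h.A_sq hb hu.1
    rw [show y = u * (u * y) by rw [← mul_assoc, hu2, one_mul]]
    refine Pmul _ _ hu.1 (mul_mem hu.1 hy) ?_ (Pv _ hf)
    rcases four_cases_of_card (Cyc.card_U h hb hk) (fun x hx => h.A_sq hb hx.1) (Cyc.bU h hb hk) hb'
      (h.b1 hb) hb'1 (Ne.symm hb'b) hu with rfl | rfl | rfl | rfl
    exacts [Or.inl (by rw [mul_one, one_mul]), Pb, Pb', Pmul _ _ hbA hb'.1 Pb Pb']
  -- an element whose core misses `n`
  have bad : ∀ u, u ∈ centS S b → u ∉ h.D.Q → n * u = u * n → n ∉ coreC u →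
      ∃ U : Subgroup G, (∀ y ∈ centS S b, n * y = y * n → y ∈ U ∨ v * y ∈ U) ∧ (1 : G) ∈ U ∧
        ∀ y ∈ U, y ≠ 1 → n ∉ coreC y := by
    intro u hu huQ hnu hbad
    have hou := h.outside_all hb hu.1 (h.A_sq hb hu) huQ
    have hA : centS S u = centS S b := h.cent_eq hb hu huQ
    rcases h.theta_or_cyc hou with hall | ⟨k', hk'⟩
    · exact absurd (hall n hnu ho) hbad
    have hU : ∀ y ∈ fixU S u k', n * y = y * n := by
      intro y hy
      refine (Pall y (hA ▸ hy.1)).resolve_right fun e => hbad ?_
      have hzu : z * u = u * z := (zcom hu).symm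
      refine mem_theta_of_inverted hnu hzu ho ((bar_comm_iff hnu hzu).1 ?_) (by
        rw [hnz, inv_mul_cancel]; exact one_mem _)
      have hyu := Cyc.U_comm h hou hk' hy
      have hyzu : y * z * u = u * (y * z) := (Commute.mul_left (hyu : Commute y u) hzu).eq
      have c1 : Commute (bar hnu) (bar hyu) :=
        (bar_comm_iff hnu hyu).2 (Cyc.central h hou hk' hy hnu)
      have c2 : Commute (bar hnu) (bar hyzu) := by
        show _ = _
        rw [bar_mul, bar_mul]; exact bar_congr _ _ e
      have e2 : bar hzu = bar hyu * bar hyzu := by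
        rw [bar_mul]; exact bar_congr _ _ (by rw [← mul_assoc, h.A_sq hou hy.1, one_mul])
      rw [e2]
      exact (c1.mul_right c2).eq
    refine ⟨fixU S u k', fun y hy hny => ?_, one_mem _, fun y hy hy1 hny' => hbad ?_⟩
    · obtain ⟨r, hr, hf⟩ := Cyc.exists_dec h hou hk' (hA.symm ▸ hy)
      have hnr : n * (r * y) = r * y * n := (Commute.mul_right (hU r hr : Commute n r) hny).eq
      have hr2 := h.A_sq hou hr.1
      rcases hf with e | e | e | e
      · left
        rwa [show y = r by rw [← mul_one r, ← e, ← mul_assoc, hr2, one_mul]]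
      · exact absurd (e ▸ hnr) hnnz
      all_goals
        right
        have hrv : r * y = v := by
          rcases hv with e' | e' | rfl | rfl
          · exact absurd e' hv1
          · exact absurd e' hvz
          · first
              | exact e
              | exact absurd ⟨hnv, (e ▸ hnr : n * (h.D.a 4 * z) = h.D.a 4 * z * n)⟩ hnac
          · first
              | exact e
              | exact absurd ⟨(e ▸ hnr : n * h.D.a 4 = h.D.a 4 * n), hnv⟩ hnac
        rwa [← hrv, mul_assoc, h.A_sq hb hy, mul_one]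
    · exact Cyc.theta_inf_centU h hou hk' hy hny' hU
  have hb'Q := Cyc.outside h hb hk hb' hb'1
  have hwQ : w ∉ h.D.Q := fun e => hb'Q (by
    simpa [hw, ← mul_assoc, hzz] using mul_mem h.D.zQ e)
  have hbwQ : b * w ∉ h.D.Q := fun e => by
    have hbb' : b * b' ∈ fixU S b k := mul_mem (Cyc.bU h hb hk) hb'
    refine Cyc.outside h hb hk hbb' (fun e1 => hb'b (mul_left_cancel (e1.trans hb.sq.symm))) ?_
    rw [show b * b' = b * w * z by rw [hw, mul_assoc b, mul_assoc z b', zcom hb'.1, ← mul_assoc z z, hzz, one_mul]]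
    exact mul_mem e h.D.zQ
  have hbv : b * v = v * b := h.A_comm hb hbA hvA
  constructor
  · intro hbvn
    have good : ∀ u, u ∈ centS S b → u ∉ h.D.Q → n * u = u * n → n ∈ coreC u := by
      intro u hu huQ hnu
      by_contra hbad
      obtain ⟨U, hcov, -, hU⟩ := bad u hu huQ hnu hbad
      rcases hcov b hbA hnb with e | e
      · exact hU b e (h.b1 hb) hn
      · exact hU _ e (fun e' => hb.notQ (by
          rw [show b = v⁻¹ from eq_inv_of_mul_eq_one_right e']
          exact inv_mem (h.four_mem_Q hv))) (hbv ▸ hbvn)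
    exact ⟨good w hwA hwQ hnw, good _ (mul_mem hbA hwA) hbwQ (Commute.mul_right (hnb : Commute n b) hnw).eq⟩
  · rintro ⟨hw1, hw2⟩
    by_contra hbad
    have hbvQ : b * v ∉ h.D.Q := fun e => hb.notQ (by
      simpa [mul_assoc] using mul_mem e (inv_mem (h.four_mem_Q hv)))
    have hnbv : n * (b * v) = b * v * n := (Commute.mul_right (hnb : Commute n b) hnv).eq
    obtain ⟨U, hcov, -, hU⟩ := bad _ (mul_mem hbA hvA) hbvQ hnbv hbad
    obtain ⟨U', hcov', -, hU'⟩ := bad _ (mul_mem hbA hvA) hbvQ hnbv hbad
    rcases hcov w hwA hnw with e | e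
    · exact hU w e (fun e' => hwQ (e' ▸ one_mem _)) hw1
    rcases hcov b hbA hnb with e' | e'
    · exact hU b e' (h.b1 hb) hn
    have hp : b * w ∈ U := by
      have := mul_mem e' e
      rwa [show v * b * (v * w) = v * (b * v) * w by group, hbv, ← mul_assoc v v, h.four_sq hv, one_mul] at this
    exact hU _ hp (fun e'' => hbwQ (e'' ▸ one_mem _)) hw2

end Hyp

end CfsgLib.J2Sylow
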