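import Cfsg.Agent.J2Type.Main

/-!
# Transport of the centralizer hypothesis
-/

set_option autoImplicit false
set_option linter.style.haveILetI false
set_option linter.unusedSectionVars false

namespace CfsgLib.J2Sylow

open Subgroup CfsgLib.HallJanko CfsgLib.J2Type

variable {X G : Type*} [Group X] [Group G] {zX : X} {QX : Subgroup X}

/-- The hypothesis on the centralizer, transported by an injective map whose range is the centralizer. -/
theorem preCore_of_hom (hP : PreCore zX QX) (hc : ∀ x, x * zX = zX * x) (ψ : X →* G)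
    (hψ : Function.Injective ψ) (hrange : ∀ g, g * ψ zX = ψ zX * g → g ∈ ψ.range) :
    PreCore (ψ zX) (QX.map ψ) where
  hz := by rw [orderOf_injective ψ hψ]; exact hP.hz
  hQC := by
    rintro _ ⟨q, -, rfl⟩
    rw [← map_mul, ← map_mul, hc]
  hn := by
    rintro c hcz _ ⟨q, hq, rfl⟩
    obtain ⟨x, rfl⟩ := hrange c hcz
    exact ⟨x * q * x⁻¹, hP.hn x (hc x) q hq, by rw [map_mul, map_mul, map_inv]⟩
  hcard := by
    rw [← Nat.card_congr (QX.equivMapOfInjective ψ hψ).toEquiv]
    exact hP.hcard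
  hzQ := ⟨zX, hP.hzQ, rfl⟩
  hcenter := by
    rintro _ ⟨q, hq, rfl⟩ h
    refine (hP.hcenter q hq fun p hp => hψ ?_).imp (fun e => by rw [e, map_one]) fun e => by rw [e]
    rw [map_mul, map_mul]
    exact h _ ⟨p, hp, rfl⟩
  hcomm := by
    rintro _ ⟨a, ha, rfl⟩ _ ⟨b, hb, rfl⟩
    refine (hP.hcomm a ha b hb).imp (fun e => ?_) fun e => ?_
    · rw [← map_mul, ← map_mul, e]
    · rw [← map_mul, ← map_mul, ← map_mul, e]
  hsq := by
    rintro _ ⟨q, hq, rfl⟩
    rw [← map_mul]
    exact (hP.hsq q hq).imp (fun e => by rw [e, map_one]) fun e => by rw [e]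
  hCQ := by
    intro c hcz h
    obtain ⟨x, rfl⟩ := hrange c hcz
    refine ⟨x, hP.hCQ x (hc x) fun q hq => hψ ?_, rfl⟩
    rw [map_mul, map_mul]
    exact h _ ⟨q, hq, rfl⟩
  hquot := by
    obtain ⟨f, hf, hk⟩ := hP.hquot
    let e := MonoidHom.ofInjective hψ
    let π : centralizer ({ψ zX} : Set G) →* centralizer ({zX} : Set X) :=
      MonoidHom.mk' (fun c => ⟨e.symm ⟨(c : G), hrange c (mem_centralizer_singleton_iff.1 c.2)⟩,
        mem_centralizer_singleton_iff.2 (hc _)⟩) fun a b => Subtype.ext (by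
          show e.symm _ = e.symm _ * e.symm _
          rw [← map_mul]
          rfl)
    refine ⟨f.comp π, fun g => ?_, fun c => ?_⟩
    · obtain ⟨x, hx⟩ := hf g
      refine ⟨⟨ψ x, mem_centralizer_singleton_iff.2 (by rw [← map_mul, ← map_mul, hc])⟩, ?_⟩
      rw [MonoidHom.comp_apply, ← hx]
      exact congrArg f (Subtype.ext (e.symm_apply_apply (x : X)))
    · rw [MonoidHom.comp_apply, hk]
      have h1 : ψ ((π c : centralizer ({zX} : Set X)) : X) = (c : G) :=
        congrArg Subtype.val (e.apply_symm_apply ⟨(c : G), hrange c (mem_centralizer_singleton_iff.1 c.2)⟩)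
      constructor
      · exact fun h => ⟨_, h, h1⟩
      · rintro ⟨q, hq, e'⟩
        rwa [← hψ (h1.trans e'.symm)] at hq

/-- The data of a Sylow 2-subgroup, transported along an isomorphism. -/
theorem exists_data_of_iso {H : Type*} [Group H] [Finite H] [Finite G] {z₀ : H} {Q₀ : Subgroup H}
    (h : Core z₀ Q₀) (hodd : ¬ 2 ∣ (centralizer ({z₀} : Set H)).index) (S : Sylow 2 G) (P : Sylow 2 H)
    (hS : Nonempty (↥(S : Subgroup G) ≃* ↥(P : Subgroup H))) :
    ∃ z : G, Nonempty (Data z (S : Subgroup G)) := by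
  haveI : Fact (Nat.Prime 2) := ⟨Nat.prime_two⟩
  obtain ⟨S₀, P', ⟨D₀⟩, hP'⟩ := exists_sylow h hodd
  obtain ⟨eS⟩ := hS
  let θ : ↥(S₀ : Subgroup (centralizer ({z₀} : Set H))) ≃* ↥(S : Subgroup G) :=
    ((Subgroup.equivMapOfInjective (S₀ : Subgroup (centralizer ({z₀} : Set H))) _
      (Subgroup.subtype_injective _)).trans (MulEquiv.subgroupCongr hP'.symm)).trans
      ((P'.equiv P).trans eS.symm)
  let φ : ↥(S₀ : Subgroup (centralizer ({z₀} : Set H))) →* G := (S : Subgroup G).subtype.comp θ.toMonoidHom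
  have hφ : Function.Injective φ := (Subgroup.subtype_injective _).comp θ.injective
  have hrange : φ.range = (S : Subgroup G) := by
    ext y
    exact ⟨fun ⟨x, hx⟩ => hx ▸ (θ x).2, fun hy => ⟨θ.symm ⟨y, hy⟩, by simp [φ]⟩⟩
  have D := D₀.map φ hφ
  rw [hrange] at D
  exact ⟨_, ⟨D⟩⟩

end CfsgLib.J2Sylow
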