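import Cfsg.Agent.J2Sylow.Global
import Cfsg.Agent.J2Sylow.Transport
import Cfsg.Agent.ZCGroup.Embedded
import Cfsg.Agent.SEmbed.Cosets
import Cfsg.Agent.JThree.Recognition
import Cfsg.Agent.HallJanko.Recognition
import Cfsg.Agent.HallJanko.Model

/-!
# Simple groups with the Sylow 2-subgroup of `J₂`
-/

set_option autoImplicit false
set_option linter.style.haveILetI false
set_option linter.unusedSectionVars false
set_option maxRecDepth 100000

namespace CfsgLib.J2Sylow

open Subgroup CfsgLib.HallJanko CfsgLib.J2Type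
open CfsgLib.A8Three (coreC)

universe u

variable {G : Type u} [Group G] [Finite G]

/-- An involution of a quotient by a group of odd order lifts to one. -/
theorem exists_invol_lift {X : Type*} [Group X] (π : G →* X) (hsurj : Function.Surjective π)
    (hker : Odd (Nat.card π.ker)) {s : X} (hs : orderOf s = 2) : ∃ t : G, orderOf t = 2 ∧ π t = s := by
  obtain ⟨m, rfl⟩ := hsurj s
  obtain ⟨i, q, hq, hiq⟩ := Nat.exists_eq_two_pow_mul_odd (orderOf_pos m).ne'
  have hss : π m * π m = 1 := CfsgLib.Small.mul_self_of_orderOf_two hs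
  have hπ : π (m ^ q) = π m := by
    obtain ⟨j, rfl⟩ := hq
    rw [map_pow, pow_succ, pow_mul, pow_two, hss, one_pow, one_mul]
  refine ⟨m ^ q, orderOf_eq_prime ?_ fun e => ?_, hπ⟩
  · refine CfsgLib.A8Three.eq_one_of_two_pow (k := i) ?_ (CfsgLib.A8Three.odd_orderOf_of_mem hker ?_)
    · rw [← pow_mul, ← pow_mul, show q * (2 * 2 ^ i) = 2 ^ i * q * 2 by ring, ← hiq, pow_mul,
        pow_orderOf_eq_one, one_pow]
    · rw [MonoidHom.mem_ker, map_pow, hπ, pow_two, hss]
  · rw [e, map_one] at hπ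
    rw [← hπ, orderOf_one] at hs
    omega

namespace Hyp

variable {S : Sylow 2 G} {z : G} (h : Hyp S z)
include h

theorem normalizer_S_le : normalizer ((S : Subgroup G) : Set G) ≤ centralizer ({z} : Set G) := by
  intro n hn
  refine mem_centralizer_singleton_iff.2 (mul_inv_eq_iff_eq_mul.1 ?_)
  refine (h.D.center_S ((mem_normalizer_iff.1 hn z).1 h.zS) fun s hs => ?_).resolve_left
    fun e => h.z1 (conj_eq_one_iff.1 e)
  have hs' : n⁻¹ * s * n ∈ (S : Subgroup G) := by
    have := (mem_normalizer_iff.1 (inv_mem hn) s).1 hs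
    rwa [inv_inv] at this
  have := conj_comm (g := n) (h.Sc hs').symm
  rwa [show n * (n⁻¹ * s * n) * n⁻¹ = s by group] at this

/-- All involutions are conjugate if no outer involution avoids the class of `z`. -/
theorem one_class (hno : ∀ b, ¬ h.Outside b) : ∀ x : G, orderOf x = 2 → IsConj z x := by
  intro x hx
  haveI : Fact (Nat.Prime 2) := ⟨Nat.prime_two⟩
  obtain ⟨R, hR⟩ := (ZCGroup.isPGroup_zpowers_of_orderOf hx).exists_le_sylow
  obtain ⟨g, hg⟩ := MulAction.exists_smul_eq G R S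
  have hgx : g * x * g⁻¹ ∈ (S : Subgroup G) := by rw [← hg]; exact ⟨x, hR (mem_zpowers x), rfl⟩
  have hg2 : g * x * g⁻¹ * (g * x * g⁻¹) = 1 := by
    rw [show g * x * g⁻¹ * (g * x * g⁻¹) = g * (x * x) * g⁻¹ by group, Small.mul_self_of_orderOf_two hx,
      mul_one, mul_inv_cancel]
  have hg1 : g * x * g⁻¹ ≠ 1 := fun e => Small.ne_one_of_orderOf_two hx (conj_eq_one_iff.1 e)
  refine IsConj.trans (b := g * x * g⁻¹) ?_ (isConj_iff.2 ⟨g, rfl⟩).symm
  by_contra hn
  exact hno _ ⟨hgx, hg2, h.not_mem_Q_of_not_conj hgx hg2 hg1 hn, hn⟩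

/-- The subgroup generated by the signalizers is trivial. -/
theorem WW_eq_bot : h.WW = ⊥ := by
  haveI : Fact (Nat.Prime 2) := ⟨Nat.prime_two⟩
  haveI := h.simple
  by_contra hW
  set M := normalizer (h.WW : Set G) with hM
  have hzM : z ∈ M := h.centralizer_z_le (mem_centralizer_singleton_iff.2 rfl)
  have hMtop : M ≠ ⊤ := fun e => by
    haveI : h.WW.Normal := normalizer_eq_top_iff.1 e
    rcases IsSimpleGroup.eq_bot_or_eq_top_of_normal h.WW inferInstance with e' | e'
    · exact hW e'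
    · have := A8Three.odd_orderOf_of_mem h.odd_WW (show z ∈ h.WW from e'.symm ▸ mem_top z)
      rw [h.ordz] at this
      exact (by decide : ¬ Odd 2) this
  have hS : (S : Subgroup G) ≠ ⊥ := fun e => h.z1 (mem_bot.1 (e ▸ h.zS))
  have hSE : Cfsg.IsStronglyEmbedded M := ZCGroup.isStronglyEmbedded_of_centralizer hMtop S hS
    h.S_le_normalizer
    (fun t ht ht2 => h.centralizer_le_normalizer ht (Small.mul_self_of_orderOf_two ht2)
      (Small.ne_one_of_orderOf_two ht2))
    (h.normalizer_S_le.trans h.centralizer_z_le)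
  have hU := SEmbed.uniqueFix hSE
  haveI := SEmbed.nontrivial_cosets hSE
  -- one class
  have hone : ∀ x : G, orderOf x = 2 → IsConj z x := fun x hx => SEmbed.isConj_invol hU h.ordz hx
  -- a subgroup of odd order transitive on the involutions of `M`
  obtain ⟨y, hy⟩ := exists_ne ((1 : G) : G ⧸ M)
  let D0 := SEmbed.pairStab G ((1 : G) : G ⧸ M) y
  have hD0M : D0 ≤ M := fun d hd => (SEmbed.smul_one_eq_iff M d).1 (SEmbed.mem_pairStab.1 hd).1
  have hD0o : Odd (Nat.card D0) := SEmbed.odd_pairStab hU hy.symm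
  have htrans : ∀ s ∈ M, orderOf s = 2 → ∃ d ∈ D0, d * z * d⁻¹ = s := fun s hs hso =>
    SEmbed.exists_conj_fix hU hy.symm ⟨h.ordz, (SEmbed.smul_one_eq_iff M z).2 hzM⟩
      ⟨hso, (SEmbed.smul_one_eq_iff M s).2 hs⟩
  -- the quotient
  let π : M →* M ⧸ Cfsg.oddCore M := QuotientGroup.mk' _
  have hker : Odd (Nat.card π.ker) := by
    rw [QuotientGroup.ker_mk']
    exact Inv54.odd_card_oddCore
  let ι : centralizer ({z} : Set G) →* M := Subgroup.inclusion h.centralizer_z_le
  have hWO : h.WW.subgroupOf M ≤ Cfsg.oddCore M := by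
    haveI : (h.WW.subgroupOf M).Normal :=
      ⟨fun n hn m => mem_subgroupOf.2 ((mem_normalizer_iff.1 m.2 _).1 (mem_subgroupOf.1 hn))⟩
    refine PLocal.le_pPrimeCore (Nat.coprime_two_right.2 ?_)
    rw [Nat.card_congr (subgroupOfEquivOfLe (H := h.WW) (K := M) le_normalizer).toEquiv]
    exact h.odd_WW
  have hco : Cfsg.oddCore (centralizer ({z} : Set G)) ≤ (Cfsg.oddCore M).comap ι := fun c hc =>
    hWO (mem_subgroupOf.2 (h.theta_le_WW (Or.inr (Or.inl rfl)) h.z1 ⟨c, hc, rfl⟩))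
  let ψ : Bar z →* M ⧸ Cfsg.oddCore M := QuotientGroup.map _ _ ι hco
  have hψbar : ∀ {c : G} (hc : c * z = z * c),
      ψ (bar hc) = π ⟨c, h.centralizer_z_le (mem_centralizer_singleton_iff.2 hc)⟩ := fun hc => rfl
  have hψ : Function.Injective ψ := by
    refine (injective_iff_map_eq_one ψ).2 fun X hX => ?_
    obtain ⟨c, hc, rfl⟩ := exists_bar_eq X
    rw [hψbar, QuotientGroup.mk'_apply, QuotientGroup.eq_one_iff] at hX
    let N := (Cfsg.oddCore M).map M.subtype ⊓ centralizer ({z} : Set G)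
    have hN : N ≤ coreC z := by
      refine A8Three.le_coreC inf_le_right ?_ ?_
      · refine (Inv54.odd_card_oddCore (G := M)).of_dvd_nat ((card_dvd_of_le inf_le_left).trans ?_)
        exact (Nat.card_congr ((Cfsg.oddCore M).equivMapOfInjective M.subtype
          M.subtype_injective).toEquiv).symm.dvd
      · intro y hy n hn
        obtain ⟨n', hn', rfl⟩ := hn.1
        refine mem_inf.2 ⟨⟨_, (inferInstance : (Cfsg.oddCore M).Normal).conj_mem n' hn'
          ⟨y, h.centralizer_z_le (mem_centralizer_singleton_iff.2 hy)⟩, rfl⟩,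
          mem_centralizer_singleton_iff.2 (commute_conj_of hy (mem_centralizer_singleton_iff.1 hn.2))⟩
    exact (mem_theta_iff hc).1 (hN (mem_inf.2 ⟨⟨_, hX, rfl⟩, mem_centralizer_singleton_iff.2 hc⟩))
  obtain ⟨QX, hP, hc, t₀, ht₀, ht₀Q⟩ := h.quot'
  set zb := ψ (bar (z := z) (x := z) rfl) with hzb
  have hzbπ : zb = π ⟨z, hzM⟩ := rfl
  have hrange : ∀ g, g * zb = zb * g → g ∈ ψ.range := by
    intro g hg
    obtain ⟨m, rfl⟩ := QuotientGroup.mk'_surjective _ g
    obtain ⟨m', e, hm'⟩ := exists_lift_commute π hker (s := ⟨z, hzM⟩) (n := m) (Subtype.ext h.zz) hg.symm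
    exact ⟨bar (x := (m' : G)) (congrArg Subtype.val hm'.eq.symm), (hψbar _).trans e⟩
  have hPM : PreCore zb (QX.map ψ) := preCore_of_hom hP hc ψ hψ hrange
  have hclass : ∀ x : M ⧸ Cfsg.oddCore M, orderOf x = 2 → ∃ d ∈ D0.subgroupOf M, π d * zb * (π d)⁻¹ = x := by
    intro x hx
    obtain ⟨s, hs, rfl⟩ := exists_invol_lift π (QuotientGroup.mk'_surjective _) hker hx
    obtain ⟨d, hd, e⟩ := htrans s s.2 (by rw [Subgroup.orderOf_coe]; exact hs)
    refine ⟨⟨d, hD0M hd⟩, mem_subgroupOf.2 hd, ?_⟩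
    rw [hzbπ, ← map_inv, ← map_mul, ← map_mul]
    exact congrArg π (Subtype.ext e)
  have hJ : JThree.Hyp zb (QX.map ψ) :=
    { hPM with
      one := fun x y hx hy => by
        obtain ⟨d, -, e⟩ := hclass x hx
        obtain ⟨d', -, e'⟩ := hclass y hy
        exact ((isConj_iff.2 ⟨_, e⟩).symm).trans (isConj_iff.2 ⟨_, e'⟩)
      out := ⟨ψ t₀, by rw [hzb, ← map_mul, ← map_mul, hc], by rw [← map_mul, ht₀, map_one], by
        rintro ⟨q, hq, e⟩
        exact ht₀Q (hψ e ▸ hq)⟩ }
  obtain ⟨e⟩ := JThree.nonempty_equiv hJ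
  let Db := (D0.subgroupOf M).map π
  have hDbo : Odd (Nat.card Db) := hD0o.of_dvd_nat ((Subgroup.card_map_dvd _ _).trans
    (Nat.card_congr (subgroupOfEquivOfLe hD0M).toEquiv).dvd)
  have hbig : 26163 ≤ Nat.card Db := by
    have h1 : (centralizer ({zb} : Set (M ⧸ Cfsg.oddCore M))).index = 26163 := by
      have := (centralizer ({zb} : Set (M ⧸ Cfsg.oddCore M))).card_mul_index
      rw [hPM.card_centralizer, Nat.card_congr e.toEquiv, J23.card_J3P] at this
      omega
    rw [← h1, Subgroup.index_eq_card]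
    refine Nat.card_le_card_of_surjective
      (fun d : Db => ((d : M ⧸ Cfsg.oddCore M) : _ ⧸ centralizer ({zb} : Set (M ⧸ Cfsg.oddCore M)))) ?_
    intro c
    obtain ⟨g, rfl⟩ := QuotientGroup.mk_surjective c
    have hg2 : orderOf (g * zb * g⁻¹) = 2 := by rw [Small.orderOf_conj_eq]; exact hPM.hz
    obtain ⟨d, hd, e'⟩ := hclass _ hg2
    refine ⟨⟨π d, ⟨d, hd, rfl⟩⟩, QuotientGroup.eq.2 (mem_centralizer_singleton_iff.2 ?_)⟩
    show (π d)⁻¹ * g * zb = zb * ((π d)⁻¹ * g)
    calc (π d)⁻¹ * g * zb = (π d)⁻¹ * (g * zb * g⁻¹) * g := by group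
      _ = (π d)⁻¹ * (π d * zb * (π d)⁻¹) * g := by rw [e']
      _ = zb * ((π d)⁻¹ * g) := by group
  refine JThree.false_of_odd_subgroup (Db.map e.toMonoidHom) ?_ ?_ <;>
    rw [card_map_of_injective e.injective] <;> assumption

/-- The centralizer of `z` has the structure of that of an involution of `J₂`. -/
theorem exists_preCore : ∃ Q : Subgroup G, PreCore z Q ∧ h.D.a 4 ∈ Q := by
  have hbot : coreC z = ⊥ := eq_bot_iff.2 (h.WW_eq_bot ▸ h.theta_le_WW (Or.inr (Or.inl rfl)) h.z1)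
  have hO : Cfsg.oddCore (centralizer ({z} : Set G)) = ⊥ := by
    rw [A8Three.coreC, Subgroup.map_eq_bot_iff_of_injective _ (Subgroup.subtype_injective _)] at hbot
    exact hbot
  obtain ⟨QX, hP, hc, -⟩ := h.quot'
  let ψ : Bar z →* G := (centralizer ({z} : Set G)).subtype.comp
    (QuotientGroup.lift _ (MonoidHom.id _) (by rw [hO]; exact bot_le))
  have hψbar : ∀ {c : G} (hc : c * z = z * c), ψ (bar hc) = c := fun hc => rfl
  have hψ : Function.Injective ψ := by
    refine (injective_iff_map_eq_one ψ).2 fun X hX => ?_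
    obtain ⟨c, hc, rfl⟩ := exists_bar_eq X
    rw [hψbar] at hX
    rw [← mem_theta_iff, hX]
    exact one_mem _
  have hrange : ∀ g, g * ψ (bar (z := z) (x := z) rfl) = ψ (bar (z := z) (x := z) rfl) * g → g ∈ ψ.range := by
    intro g hg
    rw [hψbar] at hg
    exact ⟨bar hg, hψbar hg⟩
  have := preCore_of_hom hP hc ψ hψ hrange
  rw [hψbar] at this
  exact ⟨_, this, ⟨bar (h.ac 4), h.a_mem_QX hP hc 4, hψbar _⟩⟩

/-- The conclusion. -/
theorem iso : Cfsg.Spor.IsoJ2 G ∨ Cfsg.Spor.IsoJ3 G := by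
  haveI := h.simple
  obtain ⟨Q, hP, ha⟩ := h.exists_preCore
  by_cases hex : ∃ b, h.Outside b
  · left
    obtain ⟨b, hb⟩ := hex
    have hCore : Core z Q :=
      { hP with
        hnwc := ⟨h.D.a 4, ha, h.D.ne_z 4, h.conj_of_Eqz (Or.inl rfl)⟩
        hcl := ⟨z, b, h.ordz, orderOf_eq_prime (by rw [pow_two, hb.sq]) (h.b1 hb), hb.nc⟩ }
    haveI := CfsgLib.J2Model.isSimpleGroup_J2
    exact hCore.nonempty_mulEquiv CfsgLib.J2Model.card_J2 CfsgLib.HallJanko.Model.closure_eq_top
      CfsgLib.HallJanko.Model.gen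
  · right
    push Not at hex
    have hone := h.one_class hex
    obtain ⟨e⟩ := JThree.nonempty_equiv (JThree.hyp_of_pre hP
      fun x y hx hy => (hone x hx).symm.trans (hone y hy))
    exact JThree.isoJ3_of_equiv e

end Hyp

end CfsgLib.J2Sylow
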