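import Cfsg.Agent.J2Sylow.CentOuter
import Cfsg.Agent.S0217

/-!
# The subgroup generated by the signalizers
-/

set_option autoImplicit false
set_option linter.style.haveILetI false
set_option linter.unusedSectionVars false
set_option maxRecDepth 100000

namespace CfsgLib.J2Sylow

open Subgroup CfsgLib.HallJanko CfsgLib.J2Type
open CfsgLib.A8Three (coreC)

universe u

variable {G : Type u} [Group G] [Finite G]

namespace Hyp

variable {S : Sylow 2 G} {z : G} (h : Hyp S z)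

/-- The subgroup generated by the cores belonging to the four-group. -/
def WW : Subgroup G := coreC z ⊔ coreC (h.D.a 4) ⊔ coreC (h.D.a 4 * z)

include h

variable {v : G} (hvS : v ∈ (S : Subgroup G)) (hv2 : v * v = 1) (hvQ : v ∉ h.D.Q)
include hvS hv2 hvQ

theorem E_sq {x : G} (hx : x ∈ centS S v) : x * x = 1 :=
  (h.outside_facts hvS hv2 hvQ).2 x hx.1 (mem_centS.1 hx).2

theorem E_comm {x y : G} (hx : x ∈ centS S v) (hy : y ∈ centS S v) : x * y = y * x := by
  calc x * y = (x * y)⁻¹ := (inv_eq_of_mul_eq_one_left (h.E_sq hvS hv2 hvQ (mul_mem hx hy))).symm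
    _ = y * x := by
      rw [mul_inv_rev, inv_eq_of_mul_eq_one_left (h.E_sq hvS hv2 hvQ hx),
        inv_eq_of_mul_eq_one_left (h.E_sq hvS hv2 hvQ hy)]

theorem zE : z ∈ centS S v := mem_centS.2 ⟨h.zS, (h.Sc hvS).symm⟩
theorem aE : h.D.a 4 ∈ centS S v :=
  mem_centS.2 ⟨h.D.Q_le (h.D.mem 4), (h.outside_facts hvS hv2 hvQ).1⟩

/-- Balance and its consequences. -/
theorem sft : (∀ x ∈ centS S v, x ≠ 1 → coreC x ≤ h.WW) ∧ Odd (Nat.card h.WW) ∧
    (∀ x ∈ centS S v, x ≠ 1 → ∀ w ∈ h.WW, w * x = x * w → w ∈ coreC x) ∧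
    ∀ e ∈ centS S v, e ∈ normalizer (h.WW : Set G) := by
  classical
  set E := centS S v with hE
  have hzE := h.zE hvS hv2 hvQ
  have haE := h.aE hvS hv2 hvQ
  have hsq := fun {x : G} (hx : x ∈ E) => h.E_sq hvS hv2 hvQ hx
  have hcomm := fun {x y : G} (hx : x ∈ E) (hy : y ∈ E) => h.E_comm hvS hv2 hvQ hx hy
  have hθinv : ∀ a ∈ E, a ≠ 1 → ∀ b ∈ E, ∀ x ∈ coreC a, b * x * b⁻¹ ∈ coreC a := fun a ha _ b hb x hx =>
    CfsgLib.A8Three.conj_mem_coreC (hcomm hb ha) hx
  have hbal : ∀ a ∈ E, a ≠ 1 → ∀ b ∈ E, b ≠ 1 → coreC a ⊓ centralizer {b} ≤ coreC b := by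
    intro a ha ha1 b hb hb1
    by_cases hzb : IsConj z b
    · exact h.balance hzb (hcomm ha hb) (hsq ha) ha1
    · have hob : h.Outside b :=
        ⟨hb.1, hsq hb, h.not_mem_Q_of_not_conj hb.1 (hsq hb) hb1 hzb, hzb⟩
      have hn : ∀ y ∈ E, y ∈ normalizer ((coreC a ⊓ centralizer {b} : Subgroup G) : Set G) := fun y hy =>
        mem_normalizer_of_conj_mem fun r hr => mem_inf.2 ⟨hθinv a ha ha1 y hy r hr.1,
          mem_centralizer_singleton_iff.2
            (commute_conj_of' (hcomm hy hb) (mem_centralizer_singleton_iff.1 hr.2)).eq⟩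
      exact h.le_theta_outer hob
        ((CfsgLib.A8Three.odd_coreC a).of_dvd_nat (card_dvd_of_le inf_le_left))
        (fun r hr => mem_centralizer_singleton_iff.1 hr.2) (hn z hzE) (hn _ haE)
  haveI : Fact (Nat.Prime 2) := ⟨Nat.prime_two⟩
  obtain ⟨h2, hC⟩ := Cfsg.Agent.S0217.result (p := 2) E (fun a ha b hb => hcomm ha hb)
    (fun a ha => by rw [pow_two]; exact hsq ha)
    (by rw [show Nat.card E = 16 from h.D.cent_card v hvS hv2 hvQ]; norm_num)
    coreC (fun a _ _ => CfsgLib.A8Three.coreC_le a)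
    (fun a _ _ => by rw [← even_iff_two_dvd, Nat.not_even_iff_odd]; exact CfsgLib.A8Three.odd_coreC a) hθinv
    (fun a _ _ => Cfsg.Agent.S0205.result (CfsgLib.A8Three.odd_coreC a)) hbal
  set W := ⨆ b : {a : G // a ∈ E ∧ a ≠ 1}, coreC (b : G) with hW
  have hθW : ∀ x ∈ E, x ≠ 1 → coreC x ≤ W := fun x hx hx1 =>
    le_iSup (fun b : {a : G // a ∈ E ∧ a ≠ 1} => coreC (b : G)) ⟨x, hx, hx1⟩
  have hWn : ∀ e ∈ E, e ∈ normalizer (W : Set G) := fun e he => mem_normalizer_of_conj_mem fun r hr => by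
    have hle : W ≤ W.comap (MulAut.conj e).toMonoidHom :=
      iSup_le fun b r hr => hθW b b.2.1 b.2.2 (hθinv b b.2.1 b.2.2 e he r hr)
    exact hle hr
  have hWo : Odd (Nat.card W) := Nat.not_even_iff_odd.1 fun e => h2 (even_iff_two_dvd.1 e)
  have hmem : ∀ x ∈ E, x ≠ 1 → ∀ w ∈ W, w * x = x * w → w ∈ coreC x := fun x hx hx1 w hw e =>
    (hC x hx hx1).le ⟨hw, mem_centralizer_singleton_iff.2 e⟩
  have hac : z * h.D.a 4 = h.D.a 4 * z := (h.ac 4).symm
  have h4 : h.D.a 4 * z ≠ 1 := fun e =>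
    h.D.ne_z 4 ((eq_inv_of_mul_eq_one_left e).trans (inv_eq_of_mul_eq_one_left h.zz))
  have e : W = h.WW := by
    refine le_antisymm ?_ (sup_le (sup_le (hθW z hzE h.z1) (hθW _ haE (h.D.ne_one 4)))
      (hθW _ (mul_mem haE hzE) h4))
    exact GW.OS.le_of_four h.ordz (orderOf_eq_prime (by rw [pow_two, h.D.sq]) (h.D.ne_one 4))
      hac (h.D.ne_z 4) hWo (hWn z hzE) (hWn _ haE)
      (fun w hw e => le_sup_left (a := coreC z ⊔ coreC (h.D.a 4))
        (le_sup_left (a := coreC z) (hmem z hzE h.z1 w hw e.eq.symm)))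
      (fun w hw e => le_sup_left (a := coreC z ⊔ coreC (h.D.a 4))
        (le_sup_right (a := coreC z) (hmem _ haE (h.D.ne_one 4) w hw e.eq.symm)))
      (fun w hw e => le_sup_right (a := coreC z ⊔ coreC (h.D.a 4))
        (hmem _ (mul_mem haE hzE) h4 w hw (by rw [← hac]; exact e.eq.symm)))
  exact ⟨e ▸ hθW, e ▸ hWo, e ▸ hmem, e ▸ hWn⟩

omit hvS hv2 hvQ

theorem odd_WW : Odd (Nat.card h.WW) := by
  obtain ⟨v, hv, hv2, hvQ⟩ := h.D.out
  exact (h.sft hv hv2 hvQ).2.1

theorem theta_le_WW {x : G} (hx : Four z (h.D.a 4) x) (hx1 : x ≠ 1) : coreC x ≤ h.WW := by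
  rcases hx with e | rfl | rfl | rfl
  · exact absurd e hx1
  · exact le_sup_of_le_left le_sup_left
  · exact le_sup_of_le_left le_sup_right
  · exact le_sup_right

/-- An element permuting the three conjugate involutions of the four-group normalizes `W`. -/
theorem mem_normalizer_WW {g : G}
    (hz' : Four z (h.D.a 4) (g * z * g⁻¹)) (ha' : Four z (h.D.a 4) (g * h.D.a 4 * g⁻¹)) :
    g ∈ normalizer (h.WW : Set G) := by
  have hc' : Four z (h.D.a 4) (g * (h.D.a 4 * z) * g⁻¹) := by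
    rw [show g * (h.D.a 4 * z) * g⁻¹ = g * h.D.a 4 * g⁻¹ * (g * z * g⁻¹) by group]
    have hmul : h.D.a 4 * (h.D.a 4 * z) = z := by rw [← mul_assoc, h.D.sq, one_mul]
    have hmul' : h.D.a 4 * z * h.D.a 4 = z := by rw [h.ac 4, mul_assoc, h.D.sq, mul_one]
    have hzaz : z * (h.D.a 4 * z) = h.D.a 4 := by rw [← mul_assoc, ← h.ac 4, mul_assoc, h.zz, mul_one]
    have hazz : h.D.a 4 * z * z = h.D.a 4 := by rw [mul_assoc, h.zz, mul_one]
    rcases hz' with e | e | e | e <;> rcases ha' with e' | e' | e' | e' <;> rw [e, e'] <;>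
      simp only [one_mul, mul_one, h.zz, h.D.sq, h.az_sq 4, ← h.ac 4, hmul, hmul', hzaz, hazz, Four,
        true_or, or_true]
  have h4 : h.D.a 4 * z ≠ 1 := fun e =>
    h.D.ne_z 4 ((eq_inv_of_mul_eq_one_left e).trans (inv_eq_of_mul_eq_one_left h.zz))
  have step : ∀ x : G, x ≠ 1 → Four z (h.D.a 4) (g * x * g⁻¹) →
      coreC x ≤ h.WW.comap (MulAut.conj g).toMonoidHom := fun x hx1 hx r hr =>
    h.theta_le_WW hx (fun e => hx1 (conj_eq_one_iff.1 e)) (CfsgLib.A8Three.map_coreC g x hr)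
  refine mem_normalizer_of_conj_mem fun r hr => ?_
  have hle : h.WW ≤ h.WW.comap (MulAut.conj g).toMonoidHom :=
    sup_le (sup_le (step z h.z1 hz') (step _ (h.D.ne_one 4) ha')) (step _ h4 hc')
  exact hle hr

theorem four_of_Eqz4 {x : G} (hx : Eqz z x (h.D.a 4)) : Four z (h.D.a 4) x := by
  rcases hx with e | e
  · exact Or.inr (Or.inr (Or.inl e))
  · exact Or.inr (Or.inr (Or.inr e))

theorem S_le_normalizer : (S : Subgroup G) ≤ normalizer (h.WW : Set G) := by
  intro s hs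
  refine h.mem_normalizer_WW (Or.inr (Or.inl (by rw [h.Sc hs, mul_inv_cancel_right]))) (h.four_of_Eqz4 ?_)
  obtain ⟨i, hi⟩ := h.D.act s hs
  have := hi 4
  rwa [(show ∀ i : Fin 4, CfsgLib.A8Three.kl i 4 = 4 by decide +kernel) i] at this

/-- `C(z)` normalizes `W`. -/
theorem centralizer_z_le : centralizer ({z} : Set G) ≤ normalizer (h.WW : Set G) := by
  intro c hc
  have hcz := mem_centralizer_singleton_iff.1 hc
  obtain ⟨QX, hP, hcc, -⟩ := h.quot'
  set x := c * h.D.a 4 * c⁻¹ with hx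
  have hxz : x * z = z * x := commute_conj_of hcz (h.ac 4)
  have hx2 : x * x = 1 := by
    rw [hx, show c * h.D.a 4 * c⁻¹ * (c * h.D.a 4 * c⁻¹) = c * (h.D.a 4 * h.D.a 4) * c⁻¹ by group, h.D.sq,
      mul_one, mul_inv_cancel]
  have hxQ : bar hxz ∈ QX := by
    have e : bar hxz = bar hcz * bar (h.ac 4) * (bar hcz)⁻¹ := by rw [bar_inv, bar_mul, bar_mul]
    rw [e]
    exact hP.hn _ (hcc _) _ (h.a_mem_QX hP hcc 4)
  have hx1 : x ≠ 1 := fun e => h.D.ne_one 4 (conj_eq_one_iff.1 e)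
  have hxne : x ≠ z := fun e => h.D.ne_z 4 (by
    calc h.D.a 4 = c⁻¹ * x * c := by rw [hx]; group
      _ = z := by rw [e, mul_assoc, ← hcz, inv_mul_cancel_left])
  obtain ⟨r, hr, l, hl⟩ := h.exists_conj_a hP hcc hxz hx2 hx1 hxne hxQ
  have hrz := mem_centralizer_singleton_iff.1 (CfsgLib.A8Three.coreC_le z hr)
  set g := r * c with hg
  have hgz : g * z * g⁻¹ = z :=
    mul_inv_eq_iff_eq_mul.2 (Commute.mul_left (hrz : Commute r z) hcz).eq
  have hga : g * h.D.a 4 * g⁻¹ = r * x * r⁻¹ := by rw [hg, hx]; group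
  set W' := coreC z ⊔ coreC (h.D.a l) ⊔ coreC (h.D.a l * z) with hW'
  have hQn : ∀ q ∈ h.D.Q, q ∈ normalizer (h.WW : Set G) := fun q hq => h.S_le_normalizer (h.D.Q_le hq)
  have hR : ∀ w, Eqz z w (h.D.a l) → ∀ n ∈ h.WW, n * w = w * n → n ∈ coreC w := by
    intro w hw n hn hnw
    refine h.le_theta_Q hw (R := h.WW ⊓ centralizer ({w} : Set G))
      (h.odd_WW.of_dvd_nat (card_dvd_of_le inf_le_left))
      (fun m hm => mem_centralizer_singleton_iff.1 hm.2) (fun q hq hqa m hm => mem_inf.2 ⟨?_, ?_⟩)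
      (mem_inf.2 ⟨hn, mem_centralizer_singleton_iff.2 hnw⟩)
    · exact (mem_normalizer_iff.1 (hQn q hq) m).1 hm.1
    · refine mem_centralizer_singleton_iff.2 (commute_conj_of ?_ (mem_centralizer_singleton_iff.1 hm.2))
      rcases hw with rfl | rfl
      · exact hqa
      · exact (Commute.mul_right (hqa : Commute q _) (h.Sc (h.D.Q_le hq))).eq
  obtain ⟨v, hv, hv2, hvQ⟩ := h.D.out
  have hle : h.WW ≤ W' := by
    refine GW.OS.le_of_four h.ordz (orderOf_eq_prime (by rw [pow_two, h.D.sq]) (h.D.ne_one l))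
      (h.ac l).symm (h.D.ne_z l) h.odd_WW (hQn z h.D.zQ) (hQn _ (h.D.mem l)) ?_ ?_ ?_
    · exact fun n hn e => le_sup_left (a := coreC z ⊔ coreC (h.D.a l))
        (le_sup_left (a := coreC z) ((h.sft hv hv2 hvQ).2.2.1 z (h.zE hv hv2 hvQ) h.z1 n hn e.eq.symm))
    · exact fun n hn e => le_sup_left (a := coreC z ⊔ coreC (h.D.a l))
        (le_sup_right (a := coreC z) (hR _ (Or.inl rfl) n hn e.eq.symm))
    · exact fun n hn e => le_sup_right (a := coreC z ⊔ coreC (h.D.a l))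
        (hR _ (Or.inr rfl) n hn (by rw [h.ac l]; exact e.eq.symm))
  have hmap : W' = conjSub g h.WW := by
    have e1 : conjSub g h.WW = coreC (g * z * g⁻¹) ⊔ coreC (g * h.D.a 4 * g⁻¹) ⊔
        coreC (g * (h.D.a 4 * z) * g⁻¹) := by
      rw [← coreC_conj, ← coreC_conj, ← coreC_conj]
      simp only [WW, conjSub, Subgroup.map_sup]
    rw [e1, show g * (h.D.a 4 * z) * g⁻¹ = g * h.D.a 4 * g⁻¹ * (g * z * g⁻¹) by group, hgz, hga, hW']
    rcases hl with e | e <;> rw [e]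
    rw [mul_assoc (h.D.a l) z z, h.zz, mul_one, sup_assoc, sup_assoc, sup_comm (coreC (h.D.a l))]
  have heq : h.WW = W' := Subgroup.eq_of_le_of_card_ge hle (by rw [hmap, card_conjSub])
  have hgn : g ∈ normalizer (h.WW : Set G) := mem_normalizer_of_conj_mem fun n hn => by
    rw [heq, hmap, mem_conjSub, show g⁻¹ * (g * n * g⁻¹) * g = n by group]
    exact hn
  have hrn : r ∈ normalizer (h.WW : Set G) :=
    le_normalizer (h.theta_le_WW (Or.inr (Or.inl rfl)) h.z1 hr)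
  have := mul_mem (inv_mem hrn) hgn
  rwa [hg, inv_mul_cancel_left] at this

/-- Centralizers of involutions of `S` normalize `W`. -/
theorem centralizer_le_normalizer {t : G} (ht : t ∈ (S : Subgroup G)) (ht2 : t * t = 1) (ht1 : t ≠ 1) :
    centralizer ({t} : Set G) ≤ normalizer (h.WW : Set G) := by
  have hconj : ∀ d : G, d ∈ normalizer (h.WW : Set G) → ∀ x, centralizer ({x} : Set G) ≤ normalizer (h.WW : Set G) →
      centralizer ({d * x * d⁻¹} : Set G) ≤ normalizer (h.WW : Set G) := by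
    intro d hd x hx y hy
    have := mul_mem (mul_mem hd (hx (mem_centralizer_singleton_iff.2
      (commute_conj_iff.2 (mem_centralizer_singleton_iff.1 hy))))) (inv_mem hd)
    rwa [show d * (d⁻¹ * y * d) * d⁻¹ = y by group] at this
  obtain ⟨gs, hgs1, hgs2⟩ := h.exists_swap
  have hgsn : gs ∈ normalizer (h.WW : Set G) :=
    h.mem_normalizer_WW (Or.inr (Or.inr (Or.inl hgs1))) (Or.inr (Or.inl hgs2))
  have hA : centralizer ({h.D.a 4} : Set G) ≤ normalizer (h.WW : Set G) :=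
    hgs1 ▸ hconj gs hgsn z h.centralizer_z_le
  rcases h.invol_cases ht ht2 with e | rfl | ⟨j, hj⟩ | hQ
  · exact absurd e ht1
  · exact h.centralizer_z_le
  · obtain ⟨c, hc, hc'⟩ := h.exists_conj_a' hj
    have hcn := inv_mem (h.centralizer_z_le (mem_centralizer_singleton_iff.2 hc))
    rw [show t = c⁻¹ * h.D.a 4 * c⁻¹⁻¹ by rw [← hc']; group]
    exact hconj c⁻¹ hcn _ hA
  obtain ⟨hθ, hWo, hmem, hEn⟩ := h.sft ht ht2 hQ
  set E := centS S t with hEdef
  have hzE := h.zE ht ht2 hQ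
  have haE := h.aE ht ht2 hQ
  by_cases hzt : IsConj z t
  · obtain ⟨g, hg⟩ := isConj_iff.1 hzt
    have hE' : conjSub g⁻¹ E ≤ centralizer ({z} : Set G) := fun y hy => by
      rw [mem_conjSub, inv_inv] at hy
      refine mem_centralizer_singleton_iff.2 ?_
      have := commute_conj_iff.2 (show g * y * g⁻¹ * (g * z * g⁻¹) = g * z * g⁻¹ * (g * y * g⁻¹) by
        rw [hg]; exact (mem_centS.1 hy).2)
      rwa [show g⁻¹ * (g * y * g⁻¹) * g = y by group] at this
    have hE'p : IsPGroup 2 (conjSub g⁻¹ E) := (S.isPGroup'.to_le inf_le_left).map _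
    obtain ⟨c, hcz, hcS⟩ := h.conj_S hE'p hE'
    set F := conjSub c (conjSub g⁻¹ E) with hF
    set d := g * c⁻¹ with hd
    have hmemF : ∀ y, y ∈ F ↔ d * y * d⁻¹ ∈ E := fun y => by
      rw [hF, mem_conjSub, mem_conjSub, inv_inv, hd,
        show g * (c⁻¹ * y * c) * g⁻¹ = g * c⁻¹ * y * (g * c⁻¹)⁻¹ by group]
    have hFS : F ≤ (S : Subgroup G) := fun y hy => by
      rw [hF, mem_conjSub] at hy
      simpa [mul_assoc] using hcS _ hy
    have hF16 : Nat.card F = 16 := by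
      rw [hF, card_conjSub, card_conjSub]; exact h.D.cent_card t ht ht2 hQ
    have hFsq : ∀ y ∈ F, y * y = 1 := fun y hy => by
      have := h.E_sq ht ht2 hQ ((hmemF y).1 hy)
      rwa [show d * y * d⁻¹ * (d * y * d⁻¹) = d * (y * y) * d⁻¹ by group, conj_eq_one_iff] at this
    obtain ⟨v', hv', hv'Q, hFv⟩ := h.exists_mem_outside hFS hF16 hFsq
    have hdz : d * z * d⁻¹ = t := by
      rw [hd, show g * c⁻¹ * z * (g * c⁻¹)⁻¹ = g * (c⁻¹ * z * c) * g⁻¹ by group,
        show c⁻¹ * z * c = z by rw [mul_assoc, ← hcz, inv_mul_cancel_left], hg]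
    have hda : d * h.D.a 4 * d⁻¹ ∈ E := (hmemF _).1 ((hFv _).2 ⟨h.D.Q_le (h.D.mem 4),
      (h.outside_facts (hFS hv') (hFsq v' hv') hv'Q).1⟩)
    have hdc : d * (h.D.a 4 * z) * d⁻¹ ∈ E := by
      rw [show d * (h.D.a 4 * z) * d⁻¹ = d * h.D.a 4 * d⁻¹ * (d * z * d⁻¹) by group, hdz]
      exact mul_mem hda (mem_centS.2 ⟨ht, rfl⟩)
    have hdn : d ∈ normalizer (h.WW : Set G) := by
      refine mem_normalizer_of_conj_mem fun n hn => ?_
      have step : ∀ x : G, x ≠ 1 → d * x * d⁻¹ ∈ E →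
          coreC x ≤ h.WW.comap (MulAut.conj d).toMonoidHom := fun x hx1 hx r hr =>
        hθ _ hx (fun e => hx1 (conj_eq_one_iff.1 e)) (CfsgLib.A8Three.map_coreC d x hr)
      have hle : h.WW ≤ h.WW.comap (MulAut.conj d).toMonoidHom := by
        refine sup_le (sup_le (step z h.z1 ?_) (step _ (h.D.ne_one 4) hda)) (step _ ?_ hdc)
        · rw [hdz]; exact mem_centS.2 ⟨ht, rfl⟩
        · exact fun e => h.D.ne_z 4 ((eq_inv_of_mul_eq_one_left e).trans (inv_eq_of_mul_eq_one_left h.zz))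
      exact hle hn
    exact hdz ▸ hconj d hdn z h.centralizer_z_le
  · have hot : h.Outside t := ⟨ht, ht2, hQ, hzt⟩
    intro y hy
    have hyt := mem_centralizer_singleton_iff.1 hy
    have hθn : ∀ r ∈ coreC t, r ∈ normalizer (h.WW : Set G) := fun r hr =>
      le_normalizer (hθ t (mem_centS.2 ⟨ht, rfl⟩) ht1 hr)
    rcases h.alternatives hot with hc | ⟨k, hk⟩
    · obtain ⟨o, ho, q, hq, rfl⟩ := hc.decomp y hy
      exact mul_mem (hθn o ho) (hEn q hq)
    · obtain ⟨r, hr, -, hrU⟩ := Cyc.exists_lift_U h hot hk hyt (C0 := ⊤) (mem_top _) le_top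
      obtain ⟨b', hb', hb'1, hb't⟩ := Cyc.exists_other h hot hk (u := t)
      have htU := Cyc.bU h hot hk
      have htE : t ∈ E := htU.1
      have hb'E : b' ∈ E := hb'.1
      have hbb1 : t * b' ≠ 1 := fun e => hb't (mul_left_cancel (e.trans ht2.symm))
      have hgen : h.WW ≤ coreC t ⊔ coreC b' ⊔ coreC (t * b') :=
        GW.OS.le_of_four (orderOf_eq_prime (by rw [pow_two, ht2]) ht1)
          (orderOf_eq_prime (by rw [pow_two, h.E_sq ht ht2 hQ hb'E]) hb'1)
          (h.E_comm ht ht2 hQ htE hb'E) hb't hWo (hEn t htE) (hEn b' hb'E)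
          (fun n hn e => le_sup_left (a := coreC t ⊔ coreC b')
            (le_sup_left (a := coreC t) (hmem t htE ht1 n hn e.eq.symm)))
          (fun n hn e => le_sup_left (a := coreC t ⊔ coreC b')
            (le_sup_right (a := coreC t) (hmem b' hb'E hb'1 n hn e.eq.symm)))
          (fun n hn e => le_sup_right (a := coreC t ⊔ coreC b')
            (hmem _ (mul_mem htE hb'E) hbb1 n hn e.eq.symm))
      have hry : r * y ∈ normalizer (h.WW : Set G) := mem_normalizer_of_conj_mem fun n hn => by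
        have step : ∀ u ∈ fixU S t k, u ≠ 1 → coreC u ≤ h.WW.comap (MulAut.conj (r * y)).toMonoidHom :=
          fun u hu hu1 m hm => hθ u hu.1 hu1 (CfsgLib.A8Three.conj_mem_coreC (hrU u hu) hm)
        have hle : h.WW ≤ h.WW.comap (MulAut.conj (r * y)).toMonoidHom :=
          hgen.trans (sup_le (sup_le (step t htU ht1) (step b' hb' hb'1)) (step _ (mul_mem htU hb') hbb1))
        exact hle hn
      have := mul_mem (inv_mem (hθn r hr)) hry
      rwa [inv_mul_cancel_left] at this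

end Hyp

end CfsgLib.J2Sylow
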