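import Cfsg.Agent.J2Sylow.Layer
import Cfsg.Agent.J2Sylow.EightGroup

/-!
# The distinguished subgroup is invariant
-/

set_option autoImplicit false
set_option linter.style.haveILetI false
set_option linter.unusedSectionVars false
set_option maxRecDepth 100000

namespace CfsgLib.J2Sylow

open Subgroup CfsgLib.HallJanko CfsgLib.J2Type
open CfsgLib.A8Three (coreC IsCompl2)

universe u

variable {G : Type u} [Group G] [Finite G]

theorem commute_conj_of {s c m : G} (hsc : s * c = c * s) (hm : m * c = c * m) :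
    s * m * s⁻¹ * c = c * (s * m * s⁻¹) :=
  ((Commute.mul_left (hsc : Commute s c) hm).mul_left (Commute.inv_left (hsc : Commute s c))).eq

namespace Hyp

variable {S : Sylow 2 G} {z : G} (h : Hyp S z)
include h

variable {b : G} (hb : h.Outside b) {k : G} (hk : h.Cyc b k) {J J1 : Subgroup G} (l : Layer b J J1)
  (good : ∀ n ∈ J1, n * z = z * n → n * h.D.a 4 * n⁻¹ * (h.D.a 4)⁻¹ ∈ coreC (b * z))
include hb hk l good

/-- The elements of `K` fixed by `z`. -/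
theorem Cyc.KK_fix_z {n : G} (hn : n ∈ h.KK l k) (hnz : n * z = z * n) : n ∈ h.PV l z := by
  haveI hN : (J1.subgroupOf J).Normal :=
    ⟨fun m hm y => mem_subgroupOf.2 (l.conjJ y.2 (mem_subgroupOf.1 hm))⟩
  set q := QuotientGroup.mk' (J1.subgroupOf J) with hqdef
  have hcom : ∀ u v : J, Commute (q u) (q v) := fun u v => by
    show q u * q v = q v * q u
    rw [← mul_inv_eq_one, ← map_mul, ← map_mul, ← map_inv, ← map_mul, hqdef, QuotientGroup.mk'_apply,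
      QuotientGroup.eq_one_iff, mem_subgroupOf]
    have := l.comm u u.2 v v.2
    simpa [mul_assoc] using this
  have hzA := h.zA hb
  have hzb := h.zb hb
  let c : J →* J :=
    { toFun := fun m => ⟨z * m * z⁻¹, l.conj z hzb m m.2⟩
      map_one' := Subtype.ext (by simp)
      map_mul' := fun m n => Subtype.ext (by
        show z * ((m : G) * n) * z⁻¹ = z * m * z⁻¹ * (z * n * z⁻¹)
        group) }
  let T := ((h.PV l z).subgroupOf J).map q
  let R : Subgroup J :=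
    { carrier := {m | q m * q (c m) ∈ T}
      one_mem' := by show q 1 * q (c 1) ∈ T; simp [one_mem]
      mul_mem' := fun {m n} hm hn => by
        show q (m * n) * q (c (m * n)) ∈ T
        rw [map_mul, map_mul, map_mul, (hcom n (c m)).mul_mul_mul_comm]
        exact mul_mem hm hn
      inv_mem' := fun {m} hm => by
        show q m⁻¹ * q (c m⁻¹) ∈ T
        rw [map_inv, map_inv, map_inv, ← mul_inv_rev, ← (hcom m (c m)).eq]
        exact inv_mem hm }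
  have fixlift : ∀ {B : Subgroup G}, B ≤ J → (∀ m ∈ B, z * m * z⁻¹ ∈ B) →
      (∀ m ∈ B, z * m = m * z → m ∈ h.PV l z) → ∀ m (hm : m ∈ J), m ∈ B → (⟨m, hm⟩ : J) ∈ R := by
    intro B hBJ hB hBP m hm hmB
    obtain ⟨f, hf, hfz, hfj⟩ := l.fixed_part hBJ h.zz hB hmB
    show q ⟨m, hm⟩ * q (c ⟨m, hm⟩) ∈ T
    refine ⟨⟨f, hBJ hf⟩, mem_subgroupOf.2 (hBP f hf hfz), ?_⟩
    rw [← map_mul]
    refine QuotientGroup.eq.2 (mem_subgroupOf.2 ?_)
    show f⁻¹ * (m * (z * m * z⁻¹)) ∈ J1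
    have := inv_mem hfj
    rwa [mul_inv_rev, inv_inv] at this
  have hPVA : ∀ v, Four z (h.D.a 4) v → ∀ m ∈ h.PV l v, z * m * z⁻¹ ∈ h.PV l v := fun v hv m hm =>
    h.PV_conj_A hb l hzA hv hm
  have hJ1z : ∀ m ∈ J1, z * m = m * z → m ∈ h.PV l z := fun m hm e =>
    h.inP_z hb l (l.le1 hm) e.symm (good m hm e.symm)
  have fz : Four z (h.D.a 4) z := Or.inr (Or.inl rfl)
  have fa : Four z (h.D.a 4) (h.D.a 4) := Or.inr (Or.inr (Or.inl rfl))
  have fc : Four z (h.D.a 4) (h.D.a 4 * z) := Or.inr (Or.inr (Or.inr rfl))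
  have key : h.KK l k ≤ R.map J.subtype := by
    have hmk : ∀ {B : Subgroup G}, B ≤ J → (∀ m ∈ B, z * m * z⁻¹ ∈ B) →
        (∀ m ∈ B, z * m = m * z → m ∈ h.PV l z) → B ≤ R.map J.subtype :=
      fun hBJ hB hBP m hm => ⟨⟨m, hBJ hm⟩, fixlift hBJ hB hBP m (hBJ hm) hm, rfl⟩
    refine sup_le (sup_le (sup_le (sup_le (hmk l.le1 (l.conj1 z hzb) hJ1z) (hmk inf_le_left ?_ ?_))
      (hmk (fun _ hm => hm.1) (hPVA z fz) fun _ hm _ => hm))
      (hmk (fun _ hm => hm.1) (hPVA _ fa) ?_)) (hmk (fun _ hm => hm.1) (hPVA _ fc) ?_)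
    · rintro m ⟨hm, hmU⟩
      refine ⟨l.conj z hzb m hm, mem_centralizer_iff.2 fun u hu => ?_⟩
      exact (commute_conj_of (h.A_comm hb hzA (hu : u ∈ fixU S b k).1)
        (mem_centralizer_iff.1 hmU u hu).symm).symm
    · rintro m ⟨hm, hmU⟩ e
      exact h.inP_z hb l hm e.symm (Cyc.commute_a h hb hk e.symm
        (fun u hu => (mem_centralizer_iff.1 hmU u hu).symm) (l.odd hm))
    · rintro m hm e
      refine h.inP_z hb l hm.1 e.symm ?_
      rw [hm.2.1]; simp [one_mem]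
    · rintro m hm e
      refine h.inP_z hb l hm.1 e.symm ?_
      have h1 : Commute m (h.D.a 4 * z * z) := Commute.mul_right (hm.2.1 : Commute m _) e.symm
      rw [mul_assoc, h.zz, mul_one] at h1
      rw [h1.eq]; simp [one_mem]
  obtain ⟨m, hm, rfl⟩ := key hn
  have hfix : c m = m := Subtype.ext (show z * (m : G) * z⁻¹ = m from by
    rw [show z * (m : G) = m * z from hnz.symm, mul_inv_cancel_right])
  have hm' : q (m * m) ∈ T := by
    rw [map_mul]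
    have : q m * q (c m) ∈ T := hm
    rwa [hfix] at this
  obtain ⟨p, hp, e⟩ := hm'
  have hj : (p : G)⁻¹ * ((m : G) * m) ∈ J1 := mem_subgroupOf.1 (QuotientGroup.eq.1 e)
  have hpz : (p : G) * z = z * p := (mem_subgroupOf.1 hp).2.1
  have hjP := hJ1z _ hj (((Commute.inv_left (hpz : Commute (p : G) z)).mul_left
    (Commute.mul_left (hnz : Commute (m : G) z) hnz)).eq.symm)
  refine l.mem_of_sq m.2 ?_
  have := mul_mem (mem_subgroupOf.1 hp) hjP
  rwa [mul_inv_cancel_left] at this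

/-- The elements centralizing the four-group lie in `K`. -/
theorem Cyc.centV_le_KK {n : G} (hn : n ∈ J) (hnz : n * z = z * n) (hna : n * h.D.a 4 = h.D.a 4 * n) :
    n ∈ h.KK l k :=
  h.PV_le_KK hb (k := k) l (Or.inr (Or.inl rfl)) h.z1 (h.inP_z hb l hn hnz (by rw [hna]; simp [one_mem]))

variable {b' : G} (hb' : b' ∈ fixU S b k) (hb'1 : b' ≠ 1) (hb'b : b' ≠ b)
include hb' hb'1 hb'b

omit good in
/-- An element of `J` centralizing `z` and `b'z` centralizes `U`. -/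
theorem Cyc.centU_of_zw {n : G} (hn : n ∈ J) (hnz : n * z = z * n) (hnw : n * (z * b') = z * b' * n) :
    n ∈ h.KK l k := by
  refine h.centU_le_KK l k ⟨hn, mem_centralizer_iff.2 fun u hu => ?_⟩
  have hb'' : Commute n b' := by
    have h1 : Commute n (z * (z * b')) := Commute.mul_right (hnz : Commute n z) hnw
    rwa [← mul_assoc, h.zz, one_mul] at h1
  rcases four_cases_of_card (Cyc.card_U h hb hk) (fun x hx => h.A_sq hb hx.1) (Cyc.bU h hb hk) hb'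
    (h.b1 hb) hb'1 (Ne.symm hb'b) (hu : u ∈ fixU S b k) with rfl | rfl | rfl | rfl
  exacts [(Commute.one_left n).eq, (l.cb hn).symm, hb''.eq.symm,
    ((show Commute n b from l.cb hn).mul_right hb'').eq.symm]

/-- `J ∩ O(C(w)) ∩ O(C(bw))` lies in `K`. -/
theorem Cyc.JB_le_KK {n : G} (hn : n ∈ J) (hn1 : n ∈ coreC (z * b')) (hn2 : n ∈ coreC (b * (z * b'))) :
    n ∈ h.KK l k := by
  set w := z * b' with hw
  have hwA : w ∈ centS S b := mul_mem (h.zA hb) hb'.1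
  let B := J ⊓ coreC w ⊓ coreC (b * w)
  have hBA : ∀ s ∈ centS S b, ∀ m ∈ B, s * m * s⁻¹ ∈ B := fun s hs m hm =>
    mem_inf.2 ⟨mem_inf.2 ⟨l.conj s (mem_centS.1 hs).2 m (mem_inf.1 (mem_inf.1 hm).1).1,
      CfsgLib.A8Three.conj_mem_coreC (h.A_comm hb hs hwA) (mem_inf.1 (mem_inf.1 hm).1).2⟩,
      CfsgLib.A8Three.conj_mem_coreC (h.A_comm hb hs (mul_mem (h.bA hb) hwA)) (mem_inf.1 hm).2⟩
  have hBJ : B ≤ J := inf_le_left.trans inf_le_left
  have hBw : ∀ m ∈ B, m * w = w * m := fun m hm =>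
    mem_centralizer_singleton_iff.1 (CfsgLib.A8Three.coreC_le w hm.1.2)
  have hzA := h.zA hb
  have hJ1 := h.J1_le_KK l k
  have half : ∀ v, Four z (h.D.a 4) v → v ≠ 1 → v ≠ z → ∀ m ∈ B, m * v = v * m → m ∈ h.KK l k := by
    intro v hv hv1 hvz m hm hmv
    have hvA := h.four_mem_A hb hv
    let B' := B ⊓ centralizer ({v} : Set G)
    have hB' : ∀ t ∈ B', z * t * z⁻¹ ∈ B' := fun t ht => mem_inf.2 ⟨hBA z hzA t ht.1,
      mem_centralizer_singleton_iff.2 (commute_conj_of (h.A_comm hb hzA hvA) (mem_centralizer_singleton_iff.1 ht.2))⟩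
    have hmB : m ∈ B' := mem_inf.2 ⟨hm, mem_centralizer_singleton_iff.2 hmv⟩
    obtain ⟨f, hf, hfz, hfj⟩ := l.fixed_part (inf_le_left.trans hBJ) h.zz hB' hmB
    refine l.mem_of_parts hJ1 (hBJ hm) (l.conj z (h.zb hb) m (hBJ hm)) hfj
      (Cyc.centU_of_zw h hb hk l hb' hb'1 hb'b (hBJ hf.1) hfz.symm (hBw f hf.1)) ?_
    have hd : m * (z * m * z⁻¹)⁻¹ ∈ B' := mul_mem hmB (inv_mem (hB' m hmB))
    have hdz := Layer.inverted_part (n := m) h.zz
    have hdv := mem_centralizer_singleton_iff.1 hd.2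
    have hθ := (Cyc.eight h hb hk hb' hb'1 hb'b hv hv1 hvz (l.odd (hBJ hd.1)) (l.le (hBJ hd.1)) hdv
      (hBw _ hd.1) hdz).2 ⟨hd.1.1.2, hd.1.2⟩
    refine h.PV_le_KK hb l hv hv1 ⟨hBJ hd.1, hdv, fun t ht => ?_⟩
    rw [show ∀ g : G, g * t * g⁻¹ * t⁻¹ = g * (t * g⁻¹ * t⁻¹) from fun g => by group]
    exact mul_mem hθ (CfsgLib.A8Three.conj_mem_coreC
      (h.A_comm hb (h.four_mem_A hb ht) (mul_mem (h.bA hb) hvA)) (inv_mem hθ))
  have hnB : n ∈ B := mem_inf.2 ⟨mem_inf.2 ⟨hn, hn1⟩, hn2⟩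
  have haA := h.aA hb
  -- split by `a`
  obtain ⟨f, hf, hfa, hfj⟩ := l.fixed_part hBJ (h.D.sq 4) (hBA _ haA) hnB
  refine l.mem_of_parts hJ1 hn (l.conj _ (h.ab hb) n hn) hfj
    (half _ (Or.inr (Or.inr (Or.inl rfl))) (h.D.ne_one 4) (h.D.ne_z 4) f hf hfa.symm) ?_
  set m := n * (h.D.a 4 * n * (h.D.a 4)⁻¹)⁻¹ with hmdef
  have hm : m ∈ B := mul_mem hnB (inv_mem (hBA _ haA n hnB))
  have hma : h.D.a 4 * m * (h.D.a 4)⁻¹ = m⁻¹ := Layer.inverted_part (n := n) (h.D.sq 4)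
  -- split by `z`
  obtain ⟨f, hf, hfz, hfj⟩ := l.fixed_part hBJ h.zz (hBA _ hzA) hm
  refine l.mem_of_parts hJ1 (hBJ hm) (l.conj _ (h.zb hb) m (hBJ hm)) hfj
    (Cyc.centU_of_zw h hb hk l hb' hb'1 hb'b (hBJ hf) hfz.symm (hBw f hf)) ?_
  set m' := m * (z * m * z⁻¹)⁻¹ with hm'def
  have hm' : m' ∈ B := mul_mem hm (inv_mem (hBA _ hzA m hm))
  have hm'z : z * m' * z⁻¹ = m'⁻¹ := Layer.inverted_part (n := m) h.zz
  -- split by `az`
  obtain ⟨h1, h2, h3, h4⟩ := h.cz hb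
  have hcA : h.D.a 4 * z ∈ centS S b := mul_mem haA hzA
  obtain ⟨f, hf, hfc, hfj⟩ := l.fixed_part hBJ (h.az_sq 4) (hBA _ hcA) hm'
  refine l.mem_of_parts hJ1 (hBJ hm') (l.conj _ (mem_centS.1 hcA).2 m' (hBJ hm')) hfj
    (half _ (Or.inr (Or.inr (Or.inr rfl))) h4 h2 f hf hfc.symm) (hJ1 ?_)
  have ea : h.D.a 4 * z * m * (h.D.a 4 * z)⁻¹ = (z * m * z⁻¹)⁻¹ := by
    rw [h.ac 4, show z * h.D.a 4 * m * (z * h.D.a 4)⁻¹ = z * (h.D.a 4 * m * (h.D.a 4)⁻¹) * z⁻¹ by group, hma]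
    group
  have e : m' * (h.D.a 4 * z * m' * (h.D.a 4 * z)⁻¹)⁻¹ =
      m * (z * m⁻¹ * z⁻¹) * m⁻¹ * (z * m⁻¹ * z⁻¹)⁻¹ := by
    rw [show h.D.a 4 * z * m' * (h.D.a 4 * z)⁻¹ = h.D.a 4 * (z * m' * z⁻¹) * (h.D.a 4)⁻¹ by group, hm'z,
      hm'def, show h.D.a 4 * (m * (z * m * z⁻¹)⁻¹)⁻¹ * (h.D.a 4)⁻¹ =
        (h.D.a 4 * z * m * (h.D.a 4 * z)⁻¹) * (h.D.a 4 * m * (h.D.a 4)⁻¹)⁻¹ by group, ea, hma]
    group
  rw [e]
  exact l.comm m (hBJ hm) _ (l.conj z (h.zb hb) _ (inv_mem (hBJ hm)))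

variable {x : G} (hxz : x * z = z * x) (hxU : ∀ u ∈ fixU S b k, x * u = u * x) (hxθ : x ∈ coreC (b * z))
include hxz hxU hxθ

/-- `x` normalizes `K`. -/
theorem Cyc.KK_conj_x {n : G} (hn : n ∈ h.KK l k) : x * n * x⁻¹ ∈ h.KK l k := by
  have hxb : x * b = b * x := hxU b (Cyc.bU h hb hk)
  set w := z * b' with hw
  have hwA : w ∈ centS S b := mul_mem (h.zA hb) hb'.1
  have hxw : x * w = w * x := (Commute.mul_right (hxz : Commute x z) (hxU b' hb')).eq
  have hxbw : x * (b * w) = b * w * x := (Commute.mul_right (hxb : Commute x b) hxw).eq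
  let T := h.KK l k ⊓ (h.KK l k).comap (MulAut.conj x).toMonoidHom
  have memT : ∀ {m}, m ∈ h.KK l k → x * m * x⁻¹ ∈ h.KK l k → m ∈ T := fun h1 h2 => mem_inf.2 ⟨h1, h2⟩
  have hJ1 : J1 ≤ T := fun m hm => memT (h.J1_le_KK l k hm) (h.J1_le_KK l k (l.conj1 x hxb m hm))
  have hUT : ∀ {m}, m ∈ J → m ∈ centralizer (fixU S b k : Set G) → m ∈ T := fun {m} hm hmU =>
    memT (h.centU_le_KK l k ⟨hm, hmU⟩) (h.centU_le_KK l k ⟨l.conj x hxb m hm, mem_centralizer_iff.2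
      fun u hu => (commute_conj_of (hxU u hu) (mem_centralizer_iff.1 hmU u hu).symm).symm⟩)
  have hzwT : ∀ {m}, m ∈ J → m * z = z * m → m * w = w * m → m ∈ T := fun {m} hm e1 e2 =>
    memT (Cyc.centU_of_zw h hb hk l hb' hb'1 hb'b hm e1 e2)
      (Cyc.centU_of_zw h hb hk l hb' hb'1 hb'b (l.conj x hxb m hm) (commute_conj_of hxz e1)
        (commute_conj_of hxw e2))
  have fz : Four z (h.D.a 4) z := Or.inr (Or.inl rfl)
  have hPz : h.PV l z ≤ T := fun m hm => by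
    refine memT (h.PV_le_KK hb l fz h.z1 hm) (h.PV_le_KK hb (k := k) l fz h.z1 ?_)
    refine h.inP_z hb l (l.conj x hxb m hm.1) (commute_conj_of hxz hm.2.1) ?_
    have hxc : x * (b * z) = b * z * x := (Commute.mul_right (hxb : Commute x b) hxz).eq
    have hac : h.D.a 4 * (b * z) = b * z * h.D.a 4 := h.A_comm hb (h.aA hb) (h.bz_mem hb)
    have hmc : m * (b * z) = b * z * m := (Commute.mul_right (l.cb hm.1 : Commute m b) hm.2.1).eq
    have hxmc := commute_conj_of hxc hmc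
    have e : bar hxmc = bar hmc := by
      have hx1 : bar hxc = 1 := (mem_theta_iff _).1 hxθ
      have e' : bar hxmc = bar hxc * bar hmc * (bar hxc)⁻¹ := by rw [bar_inv, bar_mul, bar_mul]
      rw [e', hx1, one_mul, inv_one, mul_one]
    rw [← bar_comm_iff hxmc hac, e, bar_comm_iff hmc hac]
    exact hm.2.2 _ (Or.inr (Or.inr (Or.inl rfl)))
  have hJB : ∀ {m}, m ∈ J → m ∈ coreC w → m ∈ coreC (b * w) → m ∈ T := fun {m} hm h1 h2 =>
    memT (Cyc.JB_le_KK h hb hk l good hb' hb'1 hb'b hm h1 h2)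
      (Cyc.JB_le_KK h hb hk l good hb' hb'1 hb'b (l.conj x hxb m hm)
        (CfsgLib.A8Three.conj_mem_coreC hxw h1) (CfsgLib.A8Three.conj_mem_coreC hxbw h2))
  have hPv : ∀ v, Four z (h.D.a 4) v → v ≠ 1 → v ≠ z → h.PV l v ≤ T := by
    intro v hv hv1 hvz m hm
    have hvA := h.four_mem_A hb hv
    have hzA := h.zA hb
    obtain ⟨f, hf, hfz, hfj⟩ := l.fixed_part (B := h.PV l v) (fun _ hm => hm.1) h.zz
      (fun t ht => h.PV_conj_A hb l hzA hv ht) hm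
    refine l.mem_of_parts hJ1 hm.1 (l.conj z (h.zb hb) m hm.1) hfj (hPz (h.inP_z hb l hf.1 hfz.symm ?_)) ?_
    · rcases hv with e | e | rfl | rfl
      · exact absurd e hv1
      · exact absurd e hvz
      · rw [hf.2.1]; simp [one_mem]
      · have h1 : Commute f (h.D.a 4 * z * z) := Commute.mul_right (hf.2.1 : Commute f _) hfz.symm
        rw [mul_assoc, h.zz, mul_one] at h1
        rw [h1.eq]; simp [one_mem]
    set d := m * (z * m * z⁻¹)⁻¹ with hddef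
    have hdP : d ∈ h.PV l v := mul_mem hm (inv_mem (h.PV_conj_A hb l hzA hv hm))
    have hdz : z * d * z⁻¹ = d⁻¹ := Layer.inverted_part (n := m) h.zz
    have hdθ := h.mem_theta_of_PV hb l hv hdP hdz
    let B := J ⊓ coreC (b * v) ⊓ centralizer ({v} : Set G)
    have hBA : ∀ s ∈ centS S b, ∀ t ∈ B, s * t * s⁻¹ ∈ B := fun s hs t ht =>
      mem_inf.2 ⟨mem_inf.2 ⟨l.conj s (mem_centS.1 hs).2 t ht.1.1,
        CfsgLib.A8Three.conj_mem_coreC (h.A_comm hb hs (mul_mem (h.bA hb) hvA)) ht.1.2⟩,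
        mem_centralizer_singleton_iff.2 (commute_conj_of (h.A_comm hb hs hvA)
          (mem_centralizer_singleton_iff.1 ht.2))⟩
    have hdB : d ∈ B := mem_inf.2 ⟨mem_inf.2 ⟨hdP.1, hdθ⟩, mem_centralizer_singleton_iff.2 hdP.2.1⟩
    have hBJ : B ≤ J := inf_le_left.trans inf_le_left
    obtain ⟨f, hf, hfw, hfj⟩ := l.fixed_part hBJ (h.A_sq hb hwA) (hBA w hwA) hdB
    refine l.mem_of_parts hJ1 hdP.1 (l.conj w (mem_centS.1 hwA).2 d hdP.1) hfj ?_ ?_
    · -- the part fixed by `w`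
      let B' := B ⊓ centralizer ({w} : Set G)
      have hB' : ∀ t ∈ B', z * t * z⁻¹ ∈ B' := fun t ht => mem_inf.2 ⟨hBA z hzA t ht.1,
        mem_centralizer_singleton_iff.2 (commute_conj_of (h.A_comm hb hzA hwA)
          (mem_centralizer_singleton_iff.1 ht.2))⟩
      have hfB : f ∈ B' := mem_inf.2 ⟨hf, mem_centralizer_singleton_iff.2 hfw.symm⟩
      obtain ⟨g, hg, hgz, hgj⟩ := l.fixed_part (inf_le_left.trans hBJ) h.zz hB' hfB
      refine l.mem_of_parts hJ1 (hBJ hf) (l.conj z (h.zb hb) f (hBJ hf)) hgj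
        (hzwT (hBJ hg.1) hgz.symm (mem_centralizer_singleton_iff.1 hg.2)) ?_
      have he : f * (z * f * z⁻¹)⁻¹ ∈ B' := mul_mem hfB (inv_mem (hB' f hfB))
      have hθ := (Cyc.eight h hb hk hb' hb'1 hb'b hv hv1 hvz (l.odd (hBJ he.1)) (l.le (hBJ he.1))
        (mem_centralizer_singleton_iff.1 he.1.2) (mem_centralizer_singleton_iff.1 he.2)
        (Layer.inverted_part (n := f) h.zz)).1 he.1.1.2
      exact hJB (hBJ he.1) hθ.1 hθ.2
    · -- the part inverted by `w`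
      set e' := d * (w * d * w⁻¹)⁻¹ with he'
      have he : e' ∈ J := mul_mem hdP.1 (inv_mem (l.conj w (mem_centS.1 hwA).2 d hdP.1))
      have hew : w * e' * w⁻¹ = e'⁻¹ := Layer.inverted_part (n := d) (h.A_sq hb hwA)
      have hb'b' := (mem_centS.1 hb'.1).2
      obtain ⟨g, hg, hgb', hgj⟩ := l.fixed_part le_rfl (h.A_sq hb hb'.1) (l.conj b' hb'b') he
      refine l.mem_of_parts hJ1 he (l.conj b' hb'b' e' he) hgj (hUT hg ?_) (hJ1 ?_)
      · refine mem_centralizer_iff.2 fun u hu => ?_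
        rcases four_cases_of_card (Cyc.card_U h hb hk) (fun t ht => h.A_sq hb ht.1) (Cyc.bU h hb hk) hb'
          (h.b1 hb) hb'1 (Ne.symm hb'b) (hu : u ∈ fixU S b k) with rfl | rfl | rfl | rfl
        exacts [(Commute.one_left g).eq, (l.cb hg).symm, hgb',
          ((show Commute g b from l.cb hg).mul_right hgb'.symm).eq.symm]
      · have eb : b' = z * w := by rw [hw, ← mul_assoc, h.zz, one_mul]
        have hwz : w * z = z * w := h.A_comm hb hwA hzA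
        have ed : z * (w * d * w⁻¹) * z⁻¹ = (w * d * w⁻¹)⁻¹ := by
          rw [show z * (w * d * w⁻¹) * z⁻¹ = z * w * d * (z * w)⁻¹ by group, ← hwz,
            show w * z * d * (w * z)⁻¹ = w * (z * d * z⁻¹) * w⁻¹ by group, hdz]
          group
        have e : e' * (b' * e' * b'⁻¹)⁻¹ = d * (w * d⁻¹ * w⁻¹) * d⁻¹ * (w * d⁻¹ * w⁻¹)⁻¹ := by
          rw [show b' * e' * b'⁻¹ = z * (w * e' * w⁻¹) * z⁻¹ by rw [eb]; group, hew, he',
            show z * (d * (w * d * w⁻¹)⁻¹)⁻¹ * z⁻¹ = (z * (w * d * w⁻¹) * z⁻¹) * (z * d * z⁻¹)⁻¹ by group,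
            ed, hdz]
          group
        rw [e]
        exact l.comm d hdP.1 _ (l.conj w (mem_centS.1 hwA).2 _ (inv_mem hdP.1))
  obtain ⟨h1, h2, h3, h4⟩ := h.cz hb
  have hle : h.KK l k ≤ T :=
    sup_le (sup_le (sup_le (sup_le hJ1 fun m hm => hUT hm.1 hm.2) hPz)
      (hPv _ (Or.inr (Or.inr (Or.inl rfl))) (h.D.ne_one 4) (h.D.ne_z 4)))
      (hPv _ (Or.inr (Or.inr (Or.inr rfl))) h4 h2)
  exact (mem_inf.1 (hle hn)).2

omit hxz hxU hxθ hb' hb'1 hb'b good in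
/-- An element of `C(b)` preserving `U` and the four-group normalizes `K`. -/
theorem Cyc.KK_conj {y : G} (hyb : y * b = b * y)
    (hyU : ∀ u ∈ fixU S b k, y⁻¹ * u * y ∈ fixU S b k)
    (hy4 : ∀ v, Four z (h.D.a 4) v → Four z (h.D.a 4) (y⁻¹ * v * y) ∧ Four z (h.D.a 4) (y * v * y⁻¹))
    {n : G} (hn : n ∈ h.KK l k) : y * n * y⁻¹ ∈ h.KK l k := by
  obtain ⟨h1, h2, h3, h4⟩ := h.cz hb
  have hP : ∀ v, Four z (h.D.a 4) v → v ≠ 1 → h.PV l v ≤ (h.KK l k).comap (MulAut.conj y).toMonoidHom :=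
    fun v hv hv1 m hm => h.PV_le_KK hb l (hy4 v hv).2 (fun e => hv1 (conj_eq_one_iff.1 e))
      (h.PV_conj hb l hyb (fun t ht => (hy4 t ht).1) hm)
  have hle : h.KK l k ≤ (h.KK l k).comap (MulAut.conj y).toMonoidHom := by
    refine sup_le (sup_le (sup_le (sup_le (fun m hm => h.J1_le_KK l k (l.conj1 y hyb m hm)) ?_)
      (hP z (Or.inr (Or.inl rfl)) h.z1)) (hP _ (Or.inr (Or.inr (Or.inl rfl))) (h.D.ne_one 4)))
      (hP _ (Or.inr (Or.inr (Or.inr rfl))) h4)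
    rintro m ⟨hm, hmU⟩
    refine h.centU_le_KK l k ⟨l.conj y hyb m hm, mem_centralizer_iff.2 fun u hu => ?_⟩
    have h' := conj_comm (g := y) (mem_centralizer_iff.1 hmU _ (hyU u hu))
    rwa [show y * (y⁻¹ * u * y) * y⁻¹ = u by group] at h'
  exact hle hn

end Hyp

end CfsgLib.J2Sylow
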