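import Cfsg.Agent.J2Sylow.Shift

/-!
# Lifting torus elements of `C(b)/O(C(b))`
-/

set_option autoImplicit false
set_option linter.style.haveILetI false
set_option linter.unusedSectionVars false
set_option maxRecDepth 100000

namespace CfsgLib.J2Sylow

open Subgroup CfsgLib.HallJanko CfsgLib.J2Type
open CfsgLib.A8Three (coreC IsCompl2)

universe u

variable {G : Type u} [Group G] [Finite G]

/-- In a cyclic group the elements killed by a prime form one cyclic group. -/
theorem mem_zpowers_of_pow_prime {T : Type*} [Group T] [Finite T] [IsCyclic T] {p : ℕ} [Fact p.Prime]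
    {x y : T} (hx : x ^ p = 1) (hy : y ^ p = 1) (hx1 : x ≠ 1) : y ∈ zpowers x := by
  classical
  letI := Fintype.ofFinite T
  by_contra hyx
  have hsub : ((Finset.univ.filter fun t : T => t ∈ zpowers x) ∪ {y}) ⊆
      Finset.univ.filter fun t : T => t ^ p = 1 := by
    intro t ht
    simp only [Finset.mem_union, Finset.mem_filter, Finset.mem_univ, true_and, Finset.mem_singleton] at ht ⊢
    rcases ht with ⟨i, rfl⟩ | rfl
    · show (x ^ i) ^ p = 1
      rw [← zpow_natCast, ← zpow_mul, mul_comm, zpow_mul, zpow_natCast, hx, one_zpow]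
    · exact hy
  have h1 := (Finset.card_le_card hsub).trans
    (IsCyclic.card_pow_eq_one_le (α := T) (Fact.out : p.Prime).pos)
  rw [Finset.card_union_of_disjoint (by simpa using hyx), Finset.card_singleton] at h1
  have h2 : (Finset.univ.filter fun t : T => t ∈ zpowers x).card = p := by
    rw [← Fintype.card_subtype, ← Nat.card_eq_fintype_card]
    exact (Nat.card_zpowers x).trans (orderOf_eq_prime hx hx1)
  omega

namespace Hyp

variable {S : Sylow 2 G} {z : G} (h : Hyp S z)
include h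

variable {b : G} (hb : h.Outside b) {k : G} (hk : h.Cyc b k)
include hb hk

/-- A torus element of prime order lifts to an element of prime power order centralizing `z` and `U`
and inverted by `a`. -/
theorem Cyc.lift_tor {p : ℕ} [Fact p.Prime] (hp : p ≠ 2) {y : G} (hyz : y * z = z * y)
    (hyb : y * b = b * y) (hyp : y ^ p ∈ coreC b)
    (hya : h.D.a 4 * y * (h.D.a 4)⁻¹ * y ∈ coreC b) (hy : y ∉ coreC b) :
    ∃ x, x * z = z * x ∧ (∀ u ∈ fixU S b k, x * u = u * x) ∧
      h.D.a 4 * x * (h.D.a 4)⁻¹ = x⁻¹ ∧ (∃ i, x ^ p ^ i = 1) ∧ x ∉ coreC b := by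
  obtain ⟨r, hr, hrz, hrU⟩ := Cyc.exists_lift_U h hb hk hyb (C0 := centralizer ({z} : Set G))
    (mem_centralizer_singleton_iff.2 hyz)
    (fun u hu => mem_centralizer_singleton_iff.2 (h.A_comm hb hu.1 (h.zA hb)))
  set x1 := r * y with hx1
  have hx1z : x1 * z = z * x1 :=
    (Commute.mul_left (mem_centralizer_singleton_iff.1 hrz : Commute r z) hyz).eq
  have hx1b : x1 * b = b * x1 := hrU b (Cyc.bU h hb hk)
  have hrb : r * b = b * r := mem_centralizer_singleton_iff.1 (CfsgLib.A8Three.coreC_le b hr)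
  have e1 : bar hx1b = bar hyb := by
    rw [← bar_mul hrb hyb, (mem_theta_iff hrb).1 hr, one_mul]
  have hab := h.ab hb
  have hinv : bar hab * bar hyb * (bar hab)⁻¹ = (bar hyb)⁻¹ := (bar_inverted_iff hyb hab).2 hya
  set x2 := x1 * (h.D.a 4 * x1 * (h.D.a 4)⁻¹)⁻¹ with hx2
  have hx2z : x2 * z = z * x2 :=
    (Commute.mul_left (hx1z : Commute x1 z) (Commute.inv_left (commute_conj_of' (h.ac 4) hx1z))).eq
  have hx2U : ∀ u ∈ fixU S b k, x2 * u = u * x2 := fun u hu =>
    (Commute.mul_left (hrU u hu : Commute x1 u)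
      (Commute.inv_left (commute_conj_of' (h.A_comm hb (h.aA hb) hu.1) (hrU u hu)))).eq
  have hx2b : x2 * b = b * x2 := hx2U b (Cyc.bU h hb hk)
  have hx2a : h.D.a 4 * x2 * (h.D.a 4)⁻¹ = x2⁻¹ := inverted_mul (n := x1) (h.D.sq 4)
  have e2 : bar hx2b = bar hyb * bar hyb := by
    have e' : bar hx2b = bar hx1b * (bar hab * bar hx1b * (bar hab)⁻¹)⁻¹ := by
      simp only [bar_inv, bar_mul]
    rw [e', e1, hinv, inv_inv]
  have hord : orderOf (bar hyb) = p := orderOf_eq_prime
    (by rw [bar_pow, ← mem_theta_iff]; exact hyp) fun e => hy ((mem_theta_iff hyb).2 e)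
  obtain ⟨e, m, hm, hem⟩ := Nat.exists_eq_pow_mul_and_not_dvd (orderOf_pos x2).ne' p (Fact.out : p.Prime).ne_one
  refine ⟨x2 ^ m, (Commute.pow_left (hx2z : Commute x2 z) m).eq,
    fun u hu => (Commute.pow_left (hx2U u hu : Commute x2 u) m).eq,
    by rw [← conj_pow, hx2a, inv_pow], ⟨e, ?_⟩, fun hin => ?_⟩
  · rw [← pow_mul, mul_comm, ← hem, pow_orderOf_eq_one]
  · rw [mem_theta_iff ((Commute.pow_left (hx2b : Commute x2 b) m).eq), ← bar_pow hx2b, e2,
      ← pow_two, ← pow_mul, ← orderOf_dvd_iff_pow_eq_one, hord] at hin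
    rcases (Fact.out : p.Prime).dvd_mul.1 hin with h2 | h2
    · exact hp ((Nat.prime_dvd_prime_iff_eq Fact.out Nat.prime_two).1 h2)
    · exact hm h2

end Hyp

end CfsgLib.J2Sylow
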