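import Mathlib.GroupTheory.PGroup
import Mathlib.GroupTheory.OrderOfElement
import Mathlib.GroupTheory.SpecificGroups.Cyclic
import Mathlib.Algebra.Group.Subgroup.Map
import Mathlib.Algebra.Group.End
import Mathlib.Tactic.Group
import Mathlib.Tactic.Abel

/-!
# A four-group with one-dimensional weight spaces and a cycled unipotent element

A group acting on an elementary abelian `p`-group, `p` odd, so that the four-group `⟨z, a⟩` has three
one-dimensional weight spaces cycled by `k`, and containing a `p`-element `x` which commutes with `z`,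
is inverted by `a` and fixes the weight space of `z`, contains an element of order divisible by four
or one of the three involutions acts trivially.
-/

set_option autoImplicit false
set_option linter.unusedSectionVars false

namespace CfsgLib.J2Sylow

variable {Γ M : Type*} [Group Γ] [CommGroup M] (ρ : Γ →* MulAut M) {p : ℕ} [Fact p.Prime]

theorem rho_mul (g h : Γ) (m : M) : ρ (g * h) m = ρ g (ρ h m) := by rw [map_mul, MulAut.mul_apply]

theorem rho_pow_fix {g : Γ} {m : M} (h : ρ g m = m) (n : ℕ) : ρ (g ^ n) m = m := by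
  induction n with
  | zero => simp
  | succ n ih => rw [pow_succ, rho_mul, h, ih]

theorem rho_inv_fix {g : Γ} {m : M} (h : ρ g m = m) : ρ g⁻¹ m = m := by
  conv_lhs => rw [← h, ← rho_mul, inv_mul_cancel, map_one, MulAut.one_apply]

theorem rho_comm {g h : Γ} (e : g * h = h * g) (m : M) : ρ g (ρ h m) = ρ h (ρ g m) := by
  rw [← rho_mul, e, rho_mul]

/-- In a group of exponent `p ≠ 2` an element equal to its inverse is trivial. -/
theorem eq_one_of_inv (hp : p ≠ 2) (hexp : ∀ m : M, m ^ p = 1) {m : M} (h : m⁻¹ = m) : m = 1 := by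
  have h2 : m ^ 2 = 1 := by rw [pow_two]; exact inv_eq_iff_mul_eq_one.1 h
  have hg := pow_gcd_eq_one.2 ⟨h2, hexp m⟩
  rwa [(Nat.coprime_primes Nat.prime_two Fact.out).2 (Ne.symm hp), pow_one] at hg

/-- A group of exponent `p` in which any element of a cyclic set is a power of any other. -/
theorem exists_pow_of_fix (hexp : ∀ m : M, m ^ p = 1) {e : M} {P : M → Prop}
    (hgen : ∀ m, P m → m ∈ Subgroup.zpowers e) {f m : M} (hf : P f) (hf1 : f ≠ 1) (hm : P m) :
    ∃ n : ℕ, m = f ^ n := by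
  have he : orderOf e = p := by
    refine orderOf_eq_prime (hexp e) fun h => hf1 ?_
    have := hgen f hf
    rwa [h, Subgroup.zpowers_one_eq_bot, Subgroup.mem_bot] at this
  have h1 : Subgroup.zpowers f = Subgroup.zpowers e := by
    have hle : Subgroup.zpowers f ≤ Subgroup.zpowers e := Subgroup.zpowers_le.2 (hgen f hf)
    haveI : Finite (Subgroup.zpowers e) := Nat.finite_of_card_ne_zero (by
      rw [Nat.card_zpowers, he]; exact (Fact.out : p.Prime).ne_zero)
    refine Subgroup.eq_of_le_of_card_ge hle (le_of_eq ?_)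
    rw [Nat.card_zpowers, Nat.card_zpowers, he, orderOf_eq_prime (hexp f) hf1]
  have h2 := hgen m hm
  have hfo : IsOfFinOrder f := isOfFinOrder_iff_pow_eq_one.2 ⟨p, (Fact.out : p.Prime).pos, hexp f⟩
  rw [← h1, ← hfo.mem_powers_iff_mem_zpowers] at h2
  obtain ⟨n, hn⟩ := h2
  exact ⟨n, hn.symm⟩

/-- The hypotheses on the weights. -/
structure Weights (z a k : Γ) (p : ℕ) : Prop where
  exp : ∀ m : M, m ^ p = 1
  za : z * a = a * z
  aa : a * a = 1
  kz : k * z * k⁻¹ = a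
  ka : k * a * k⁻¹ = z * a
  fix2 : ∀ m : M, ρ z m = m → ρ a m = m → m = 1
  cyc : ∃ e : M, e ≠ 1 ∧ ρ z e = e ∧ ∀ m, ρ z m = m → m ∈ Subgroup.zpowers e

namespace Weights

variable {ρ} {z a k : Γ} (W : Weights ρ z a k p)
include W

theorem za_za : z * a * (z * a) = z * z := by
  calc z * a * (z * a) = z * (a * z) * a := by group
    _ = z * z * (a * a) := by rw [← W.za]; group
    _ = z * z := by rw [W.aa, mul_one]

/-- The two weight spaces of `z` and `a`. -/
theorem fix_za {m : M} (h1 : ρ (z * a) m = m) (h2 : ρ a m = m) : m = 1 :=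
  W.fix2 m (by rwa [rho_mul, h2] at h1) h2

theorem neg_of_z (hp : p ≠ 2) {m : M} (h : ρ z m = m) : ρ a m = m⁻¹ := by
  have h1 : m * ρ a m = 1 := W.fix2 _ (by rw [map_mul, h, rho_comm ρ W.za, h])
    (by rw [map_mul, ← rho_mul, W.aa, map_one, MulAut.one_apply, mul_comm])
  exact eq_inv_of_mul_eq_one_right h1

theorem k_map {m : M} (h : ρ z m = m) : ρ a (ρ k m) = ρ k m := by
  rw [← W.kz, ← rho_mul, inv_mul_cancel_right, rho_mul, h]

theorem k_map' {m : M} (h : ρ a m = m) : ρ (z * a) (ρ k m) = ρ k m := by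
  rw [← W.ka, ← rho_mul, inv_mul_cancel_right, rho_mul, h]

theorem k_cube (hzz : z * z = 1) : k * (z * a) * k⁻¹ = z := by
  rw [show k * (z * a) * k⁻¹ = (k * z * k⁻¹) * (k * a * k⁻¹) by group, W.kz, W.ka, ← mul_assoc,
    ← W.za, mul_assoc, W.aa, mul_one]

theorem k_map'' (hzz : z * z = 1) {m : M} (h : ρ (z * a) m = m) : ρ z (ρ k m) = ρ k m := by
  conv_lhs => rw [← W.k_cube hzz, ← rho_mul, inv_mul_cancel_right, rho_mul, h]

theorem gen_a {f m : M} (hf : ρ a f = f) (hf1 : f ≠ 1) (hm : ρ a m = m) : ∃ n : ℕ, m = f ^ n := by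
  obtain ⟨e, -, -, hgen⟩ := W.cyc
  have hback : ∀ {t : M}, ρ a t = t → ρ z (ρ k⁻¹ t) = ρ k⁻¹ t := fun {t} ht => by
    rw [← rho_mul, show z * k⁻¹ = k⁻¹ * (k * z * k⁻¹) by group, W.kz, rho_mul, ht]
  obtain ⟨n, hn⟩ := exists_pow_of_fix W.exp (P := fun t => ρ z t = t) hgen (hback hf)
    (fun h => hf1 (by simpa using congrArg (ρ k) h)) (hback hm)
  exact ⟨n, by simpa using congrArg (ρ k) hn⟩

theorem gen_za {f m : M} (hf : ρ (z * a) f = f) (hf1 : f ≠ 1) (hm : ρ (z * a) m = m) :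
    ∃ n : ℕ, m = f ^ n := by
  have hback : ∀ {t : M}, ρ (z * a) t = t → ρ a (ρ k⁻¹ t) = ρ k⁻¹ t := fun {t} ht => by
    rw [← rho_mul, show a * k⁻¹ = k⁻¹ * (k * a * k⁻¹) by group, W.ka, rho_mul, ht]
  obtain ⟨n, hn⟩ := W.gen_a (hback hf) (fun h => hf1 (by simpa using congrArg (ρ k) h)) (hback hm)
  exact ⟨n, by simpa using congrArg (ρ k) hn⟩

/-- The case in which `x` fixes the weight space of `a`. -/
theorem false_of_fix (hp : p ≠ 2) (hzz : z * z = 1) {x : Γ} (hxz : x * z = z * x)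
    (hxa : a * x * a⁻¹ = x⁻¹) (hxo : Odd (orderOf x)) (hx0 : ∀ m, ρ z m = m → ρ x m = m)
    (hxA : ∀ m, ρ a m = m → ρ x m = m) {e : M} (he : ρ (z * a) e = e) (hxe : ρ x e ≠ e)
    (hord : ∀ g : Γ, ∃ q : ℕ, Odd q ∧ g ^ (2 * q) = 1) : False := by
  obtain ⟨f, hf1, hfz, -⟩ := W.cyc
  have hai : a⁻¹ = a := inv_eq_of_mul_eq_one_left W.aa
  have he1 : e ≠ 1 := fun h => hxe (by rw [h, map_one])
  -- `x` maps `e` to `e` times an element fixed by `a`
  have hze : ∀ {m : M}, ρ (z * a) m = m → ρ z m = m⁻¹ ∧ ρ a m = m⁻¹ := by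
    intro m hm
    have h1 : m * ρ a m = 1 := W.fix_za (by
      rw [map_mul, hm, ← rho_mul, show z * a * a = a * (z * a) by rw [← mul_assoc, ← W.za],
        rho_mul, hm]) (by rw [map_mul, ← rho_mul, W.aa, map_one, MulAut.one_apply, mul_comm])
    have h2 := eq_inv_of_mul_eq_one_right h1
    refine ⟨?_, h2⟩
    have h3 : ρ z (ρ a m) = m := by rw [← rho_mul]; exact hm
    rw [h2, map_inv] at h3
    exact inv_eq_iff_eq_inv.1 h3
  obtain ⟨hez, hea⟩ := hze he
  set d := ρ x e * e⁻¹ with hd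
  have hdz : ρ z d = d⁻¹ := by rw [hd, map_mul, map_inv, ← rho_comm ρ hxz, hez, map_inv, mul_inv]
  have hax : ∀ m, ρ a (ρ x m) = ρ x⁻¹ (ρ a m) := fun m => by
    rw [← rho_mul, ← hxa, hai, ← rho_mul, mul_assoc, W.aa, mul_one]
  have hxd : ρ x d = d := by
    have hP : ρ a (ρ x e * ρ a (ρ x e)) = ρ x e * ρ a (ρ x e) := by
      rw [map_mul, ← rho_mul (g := a) (h := a), W.aa, map_one, MulAut.one_apply, mul_comm]
    have h1 := hxA _ hP
    rw [hax, hea, map_inv] at h1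
    -- `(x + 1) (x - 1) (x - 1) e = 0`
    have h2 : ρ x (ρ x d * d⁻¹) = (ρ x d * d⁻¹)⁻¹ := by
      have e1 : ρ x (ρ x e) * e⁻¹ = ρ x e * (ρ x⁻¹ e)⁻¹ := by
        rwa [map_mul, map_inv, ← rho_mul (g := x) (h := x⁻¹), mul_inv_cancel, map_one,
          MulAut.one_apply] at h1
      have e2 := congrArg (ρ x) e1
      rw [map_mul, map_mul, map_inv, map_inv, ← rho_mul (g := x) (h := x⁻¹), mul_inv_cancel, map_one,
        MulAut.one_apply] at e2
      simp only [hd, map_mul, map_inv, mul_inv, inv_inv]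
      set A := ρ x (ρ x (ρ x e))
      set B := ρ x (ρ x e)
      set C := ρ x e
      have e3 : A = B * e⁻¹ * C := by rw [← e2]; simp
      rw [e3]
      apply Additive.ofMul.injective
      simp only [ofMul_mul, ofMul_inv]
      abel
    have h3 : ∀ n : ℕ, ρ (x ^ n) (ρ x d * d⁻¹) = (ρ x d * d⁻¹) ^ ((-1 : ℤ) ^ n) := by
      intro n
      induction n with
      | zero => simp
      | succ n ih => rw [pow_succ', rho_mul, ih, map_zpow, h2, ← zpow_neg_one, ← zpow_mul, pow_succ', neg_one_mul]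
    have h4 := h3 (orderOf x)
    rw [pow_orderOf_eq_one, map_one, MulAut.one_apply, hxo.neg_one_pow, zpow_neg_one] at h4
    exact mul_inv_eq_one.1 (eq_one_of_inv hp W.exp h4.symm)
  have hda : ρ a d = d := by
    have hxad : ρ x (ρ a d) = ρ a d := by
      rw [← rho_mul, show x * a = a * x⁻¹ by rw [← hxa, ← mul_assoc, hai, ← mul_assoc, W.aa, one_mul],
        rho_mul, rho_inv_fix ρ hxd]
    set q := d * (ρ a d)⁻¹ with hq
    have hxq : ρ x q = q := by rw [hq, map_mul, map_inv, hxd, hxad]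
    have hqc : ρ (z * a) q = q := by
      rw [hq, map_mul, map_inv, rho_mul, rho_mul, ← rho_mul (g := a) (h := a), W.aa, map_one,
        MulAut.one_apply, hdz, rho_comm ρ W.za, hdz, map_inv, inv_inv, mul_comm]
    by_contra hne
    have hq1 : q ≠ 1 := fun h => hne (mul_inv_eq_one.1 h).symm
    obtain ⟨n, hn⟩ := W.gen_za hqc hq1 he
    exact hxe (by rw [hn, map_pow, hxq])
  have hd1 : d ≠ 1 := fun h => hxe (mul_inv_eq_one.1 h)
  -- the conjugates of `x`
  obtain ⟨y, hy⟩ : ∃ y, y = k * x * k⁻¹ := ⟨_, rfl⟩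
  obtain ⟨w, hw⟩ : ∃ w, w = k * y * k⁻¹ := ⟨_, rfl⟩
  have hyk : ∀ m, ρ y (ρ k m) = ρ k (ρ x m) := fun m => by
    rw [← rho_mul, hy, inv_mul_cancel_right, rho_mul]
  have hwk : ∀ m, ρ w (ρ k m) = ρ k (ρ y m) := fun m => by
    rw [← rho_mul, hw, inv_mul_cancel_right, rho_mul]
  have hback_z : ∀ {t : M}, ρ z t = t → ρ (z * a) (ρ k⁻¹ t) = ρ k⁻¹ t := fun {t} ht => by
    rw [← rho_mul, show z * a * k⁻¹ = k⁻¹ * (k * (z * a) * k⁻¹) by group, W.k_cube hzz, rho_mul, ht]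
  have hback_a : ∀ {t : M}, ρ a t = t → ρ z (ρ k⁻¹ t) = ρ k⁻¹ t := fun {t} ht => by
    rw [← rho_mul, show z * k⁻¹ = k⁻¹ * (k * z * k⁻¹) by group, W.kz, rho_mul, ht]
  have hback_c : ∀ {t : M}, ρ (z * a) t = t → ρ a (ρ k⁻¹ t) = ρ k⁻¹ t := fun {t} ht => by
    rw [← rho_mul, show a * k⁻¹ = k⁻¹ * (k * a * k⁻¹) by group, W.ka, rho_mul, ht]
  have hkk : ∀ t : M, ρ k (ρ k⁻¹ t) = t := fun t => by
    rw [← rho_mul, mul_inv_cancel, map_one, MulAut.one_apply]
  have hyA : ∀ m, ρ a m = m → ρ y m = m := fun m hm => by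
    rw [← hkk m, hyk, hx0 _ (hback_a hm)]
  have hyC : ∀ m, ρ (z * a) m = m → ρ y m = m := fun m hm => by
    rw [← hkk m, hyk, hxA _ (hback_c hm)]
  have hwC : ∀ m, ρ (z * a) m = m → ρ w m = m := fun m hm => by
    rw [← hkk m, hwk, hyA _ (hback_c hm)]
  have hwZ : ∀ m, ρ z m = m → ρ w m = m := fun m hm => by
    rw [← hkk m, hwk, hyC _ (hback_z hm)]
  -- the weight vectors
  set g₁ := ρ k d
  have hg₁ : ρ (z * a) g₁ = g₁ := W.k_map' hda
  have hg₁1 : g₁ ≠ 1 := fun h => hd1 ((ρ k).injective (by rw [map_one]; exact h))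
  have hye : ρ y (ρ k e) = ρ k e * g₁ := by
    rw [hyk, ← map_mul, hd, mul_left_comm, mul_inv_cancel, mul_one]
  obtain ⟨n₁, hn₁⟩ := W.gen_za hg₁ hg₁1 he
  obtain ⟨r, hr⟩ : ∃ r : ℕ, ρ k e = f ^ r := by
    obtain ⟨e', -, -, hgen⟩ := W.cyc
    exact exists_pow_of_fix W.exp (P := fun t => ρ z t = t) hgen hfz hf1 (W.k_map'' hzz he)
  set ψ := ρ y f * f⁻¹ with hψ
  have hψpow : ψ ^ r = g₁ := by
    rw [hψ, mul_pow, ← map_pow, inv_pow, ← hr, hye, mul_comm, inv_mul_cancel_left]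
  have hψ1 : ψ ≠ 1 := fun h => hg₁1 (by rw [← hψpow, h, one_pow])
  have hψc : ρ (z * a) ψ = ψ := by
    have hpr : ¬ p ∣ r := fun ⟨j, hj⟩ => hg₁1 (by rw [← hψpow, hj, pow_mul, W.exp, one_pow])
    obtain ⟨j, hj⟩ := Nat.exists_mul_mod_eq_one_of_coprime
      ((Fact.out : p.Prime).coprime_iff_not_dvd.2 hpr).symm (Fact.out : p.Prime).one_lt
    replace hj := hj.2
    have : ψ = g₁ ^ j := by
      rw [← hψpow, ← pow_mul, ← Nat.div_add_mod (r * j) p, hj, pow_add, pow_mul, W.exp, one_pow,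
        one_mul, pow_one]
    rw [this, map_pow, hg₁]
  obtain ⟨j₁, hj₁⟩ := W.gen_za he he1 hψc
  set η := ρ x ψ * ψ⁻¹ with hη
  have hη' : η = d ^ j₁ := by
    rw [hη, hj₁, map_pow, ← inv_pow, ← mul_pow, hd]
  have hηa : ρ a η = η := by rw [hη', map_pow, hda]
  have hη1 : η ≠ 1 := fun h => by
    have hxψ : ρ x ψ = ψ := mul_inv_eq_one.1 (hη ▸ h)
    obtain ⟨n, hn⟩ := W.gen_za hψc hψ1 he
    exact hxe (by rw [hn, map_pow, hxψ])
  -- the commutator moves `f` by `η`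
  obtain ⟨u, hu⟩ : ∃ u, u = x * y * x⁻¹ * y⁻¹ := ⟨_, rfl⟩
  have hxη : ρ x η = η := hxA _ hηa
  have hyη : ρ y η = η := hyA _ hηa
  have hyψ : ρ y ψ = ψ := hyC _ hψc
  have hxf : ρ x f = f := hx0 _ hfz
  have hyf : ρ y f = f * ψ := by rw [hψ, mul_left_comm, mul_inv_cancel, mul_one]
  have hxψ : ρ x ψ = ψ * η := by rw [hη, mul_left_comm, mul_inv_cancel, mul_one]
  have hyi : ρ y⁻¹ f = f * ψ⁻¹ := by
    apply (ρ y).injective
    rw [← rho_mul, mul_inv_cancel, map_one, MulAut.one_apply, map_mul, map_inv, hyf, hyψ,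
      mul_inv_cancel_right]
  have hxi : ρ x⁻¹ ψ = ψ * η⁻¹ := by
    apply (ρ x).injective
    rw [← rho_mul, mul_inv_cancel, map_one, MulAut.one_apply, map_mul, map_inv, hxψ, hxη,
      mul_inv_cancel_right]
  have huf : ρ u f = f * η := by
    rw [hu, rho_mul ρ (x * y * x⁻¹) y⁻¹, rho_mul ρ (x * y) x⁻¹, rho_mul ρ x y, hyi, map_mul (ρ x⁻¹), map_inv (ρ x⁻¹), hxi, rho_inv_fix ρ hxf, map_mul (ρ y), map_inv (ρ y),
      map_mul (ρ y), map_inv (ρ y), hyf, hyψ, hyη]
    rw [mul_inv, inv_inv, mul_assoc f, mul_inv_cancel_left, map_mul (ρ x), hxf, hxη]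
  have huη : ρ u η = η := by
    rw [hu, rho_mul ρ (x * y * x⁻¹) y⁻¹, rho_mul ρ (x * y) x⁻¹, rho_mul ρ x y, rho_inv_fix ρ hyη, rho_inv_fix ρ hxη, hyη, hxη]
  -- a power of `w` moves `η` by `f`
  set δ := ρ w η * η⁻¹ with hδ
  obtain ⟨t, ht⟩ : ∃ t : ℕ, δ = f ^ t := by
    obtain ⟨t₂, ht₂⟩ : ∃ t₂ : ℕ, ρ k⁻¹ η = f ^ t₂ := by
      obtain ⟨e', -, -, hgen⟩ := W.cyc
      exact exists_pow_of_fix W.exp (P := fun t => ρ z t = t) hgen hfz hf1 (hback_a hηa)
    obtain ⟨e', -, -, hgen⟩ := W.cyc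
    refine exists_pow_of_fix W.exp (P := fun t => ρ z t = t) hgen hfz hf1 ?_
    have : δ = ρ k (ψ ^ t₂) := by
      rw [hδ, ← hkk η, hwk, ht₂, map_pow (ρ y), hyf, mul_pow, map_mul, mul_comm, inv_mul_cancel_left]
    rw [this]
    exact W.k_map'' hzz (by rw [map_pow, hψc])
  have hwf : ρ w f = f := hwZ _ hfz
  have hwη : ∀ n : ℕ, ρ (w ^ n) η = η * δ ^ n := by
    intro n
    induction n with
    | zero => simp
    | succ n ih =>
      rw [pow_succ', rho_mul, ih, map_mul, map_pow, show ρ w δ = δ by rw [ht, map_pow, hwf],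
        show ρ w η = η * δ by rw [hδ, mul_left_comm, mul_inv_cancel, mul_one], mul_assoc, ← pow_succ']
  have hpt : ¬ p ∣ t := by
    rintro ⟨j, hj⟩
    have hδ1 : δ = 1 := by rw [ht, hj, pow_mul, W.exp, one_pow]
    have hwη' : ρ w η = η := mul_inv_eq_one.1 (hδ ▸ hδ1)
    obtain ⟨n, hn⟩ : ∃ n : ℕ, ρ k⁻¹ η = f ^ n := by
      obtain ⟨e', -, -, hgen⟩ := W.cyc
      exact exists_pow_of_fix W.exp (P := fun t => ρ z t = t) hgen hfz hf1 (hback_a hηa)
    have h1 : ρ y (ρ k⁻¹ η) = ρ k⁻¹ η := by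
      apply (ρ k).injective
      rw [← hwk, hkk, hwη']
    rw [hn, map_pow, hyf, mul_pow, mul_eq_left] at h1
    have hn' : ¬ p ∣ n := fun ⟨i, hi⟩ => hη1 (by
      rw [← hkk η, hn, hi, pow_mul, W.exp, one_pow, map_one])
    exact hψ1 (by
      have hg := pow_gcd_eq_one.2 ⟨W.exp ψ, h1⟩
      rwa [Nat.Coprime.gcd_eq_one ((Fact.out : p.Prime).coprime_iff_not_dvd.2 hn'), pow_one] at hg)
  obtain ⟨l, hl⟩ := Nat.exists_mul_mod_eq_one_of_coprime
    ((Fact.out : p.Prime).coprime_iff_not_dvd.2 hpt).symm (Fact.out : p.Prime).one_lt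
  replace hl := hl.2
  obtain ⟨v, hv⟩ : ∃ v, v = w ^ l := ⟨_, rfl⟩
  have hvη : ρ v η = η * f := by
    rw [hv, hwη, ht, ← pow_mul, ← Nat.div_add_mod (t * l) p, hl, pow_add, pow_mul, W.exp, one_pow,
      one_mul, pow_one]
  have hvf : ρ v f = f := hv ▸ rho_pow_fix ρ hwf l
  have hui : ρ u⁻¹ f = f * η⁻¹ := by
    apply (ρ u).injective
    rw [← rho_mul, mul_inv_cancel, map_one, MulAut.one_apply, map_mul, map_inv, huf, huη,
      mul_inv_cancel_right]
  -- an element of order divisible by four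
  obtain ⟨g, hg⟩ : ∃ g, g = v * u⁻¹ * v := ⟨_, rfl⟩
  have hgf : ρ g f = η⁻¹ := by
    rw [hg, rho_mul ρ (v * u⁻¹) v, rho_mul ρ v u⁻¹, hvf, hui, map_mul, map_inv, hvf, hvη, mul_inv, mul_left_comm,
      mul_inv_cancel, mul_one]
  have hgη : ρ g η = f := by
    rw [hg, rho_mul ρ (v * u⁻¹) v, rho_mul ρ v u⁻¹, hvη, map_mul, rho_inv_fix ρ huη, hui, mul_left_comm, mul_inv_cancel,
      mul_one, hvf]
  have hg2 : ρ (g ^ 2) f = f⁻¹ := by rw [pow_two, rho_mul ρ g g, hgf, map_inv, hgη]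
  obtain ⟨q, hq, hgq⟩ := hord g
  have h2 : ∀ n : ℕ, ρ ((g ^ 2) ^ n) f = f ^ ((-1 : ℤ) ^ n) := by
    intro n
    induction n with
    | zero => simp
    | succ n ih => rw [pow_succ', rho_mul, ih, map_zpow, hg2, ← zpow_neg_one, ← zpow_mul, pow_succ', neg_one_mul]
  have h3 := h2 q
  rw [← pow_mul, hgq, map_one, MulAut.one_apply, hq.neg_one_pow, zpow_neg_one] at h3
  exact hf1 (eq_one_of_inv hp W.exp h3.symm)

end Weights

/-- `x` fixes the weight space of `a` or of `za`. -/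
theorem false_of_no_fix [Finite M] (hp : p ≠ 2) {z a k x : Γ} (W : Weights ρ z a k p) (hzz : z * z = 1)
    (hxz : x * z = z * x) (hxa : a * x * a⁻¹ = x⁻¹) (hxo : ∃ i, x ^ p ^ i = 1) {e₁ e₂ : M}
    (h1 : ρ x e₁ ≠ e₁) (h2 : ρ x e₂ ≠ e₂) (ha : ρ a e₁ = e₁) (hc : ρ (z * a) e₂ = e₂) : False := by
  classical
  have hai : a⁻¹ = a := inv_eq_of_mul_eq_one_left W.aa
  let N : Subgroup M :=
    { carrier := {m | ρ z m = m⁻¹}
      one_mem' := by simp
      mul_mem' := fun {m n} (hm : ρ z m = m⁻¹) (hn : ρ z n = n⁻¹) =>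
        show ρ z (m * n) = (m * n)⁻¹ by rw [map_mul, hm, hn, mul_inv]
      inv_mem' := fun {m} (hm : ρ z m = m⁻¹) => show ρ z m⁻¹ = m⁻¹⁻¹ by rw [map_inv, hm] }
  have hNp : IsPGroup p N := fun m => ⟨1, Subtype.ext (by simpa using W.exp m)⟩
  have he₁N : ρ z e₁ = e₁⁻¹ := by
    refine eq_inv_of_mul_eq_one_right (W.fix2 (e₁ * ρ z e₁) ?_ ?_)
    · rw [map_mul, ← rho_mul, hzz, map_one, MulAut.one_apply, mul_comm]
    · rw [map_mul, ha, rho_comm ρ W.za.symm, ha]
  have he₁1 : e₁ ≠ 1 := fun h => h1 (by rw [h, map_one])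
  let P : Subgroup Γ := Subgroup.zpowers x
  have hcz : ∀ g ∈ P, g * z = z * g := by
    rintro g ⟨i, rfl⟩
    exact ((show Commute x z from hxz).zpow_left i).eq
  letI : MulAction P N :=
    { smul := fun g m => ⟨ρ (g : Γ) m, show ρ z (ρ (g : Γ) m) = (ρ (g : Γ) m)⁻¹ by
        rw [← rho_comm ρ (hcz g g.2), show ρ z (m : M) = (m : M)⁻¹ from m.2, map_inv]⟩
      one_smul := fun m => Subtype.ext (by show ρ 1 (m : M) = m; rw [map_one, MulAut.one_apply])
      mul_smul := fun g g' m => Subtype.ext (rho_mul ρ (g : Γ) (g' : Γ) (m : M)) }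
  have hP : IsPGroup p P := by
    obtain ⟨i, hi⟩ := hxo
    rintro ⟨g, j, rfl⟩
    exact ⟨i, Subtype.ext (by
      show (x ^ j) ^ p ^ i = 1
      rw [← zpow_natCast, ← zpow_mul, mul_comm, zpow_mul, zpow_natCast, hi, one_zpow])⟩
  have hdvd : p ∣ Nat.card N := by
    obtain ⟨n, hn⟩ := IsPGroup.iff_card.1 hNp
    rcases n with _ | n
    · exfalso
      rw [pow_zero] at hn
      haveI := (Nat.card_eq_one_iff_unique.1 hn).1
      exact he₁1 (congrArg Subtype.val (Subsingleton.elim (⟨e₁, he₁N⟩ : N) 1))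
    · rw [hn, pow_succ]; exact dvd_mul_left p _
  obtain ⟨m, hm, hm1⟩ := hP.exists_fixed_point_of_prime_dvd_card_of_fixed_point N hdvd
    (a := (1 : N)) (fun g => Subtype.ext (map_one (ρ (g : Γ))))
  have hxm : ρ x (m : M) = m := congrArg Subtype.val (hm ⟨x, Subgroup.mem_zpowers x⟩)
  have hxam : ρ x (ρ a m) = ρ a m := by
    rw [← rho_mul, show x * a = a * x⁻¹ by rw [← hxa, ← mul_assoc, hai, ← mul_assoc, W.aa, one_mul],
      rho_mul, rho_inv_fix ρ hxm]
  set A := (m : M) * ρ a m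
  set C := (m : M) * (ρ a m)⁻¹
  have hAa : ρ a A = A := by rw [map_mul, ← rho_mul, W.aa, map_one, MulAut.one_apply, mul_comm]
  have hCc : ρ (z * a) C = C := by
    rw [map_mul, map_inv, rho_mul, rho_mul, ← rho_mul (g := a) (h := a), W.aa, map_one,
      MulAut.one_apply, show ρ z (m : M) = (m : M)⁻¹ from m.2, rho_comm ρ W.za,
      show ρ z (m : M) = (m : M)⁻¹ from m.2, map_inv, inv_inv, mul_comm]
  by_cases hA : A = 1
  · have hC : C ≠ 1 := fun hC => hm1 (Subtype.ext (eq_one_of_inv hp W.exp (by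
      have e1 : ρ a (m : M) = (m : M)⁻¹ := eq_inv_of_mul_eq_one_right hA
      have e2 : (m : M) = ρ a m := mul_inv_eq_one.1 hC
      rw [← e1, ← e2])).symm)
    obtain ⟨n, hn⟩ := W.gen_za hCc hC hc
    exact h2 (by rw [hn, map_pow, map_mul, map_inv, hxm, hxam])
  · obtain ⟨n, hn⟩ := W.gen_a hAa hA ha
    exact h1 (by rw [hn, map_pow, map_mul, hxm, hxam])

/-- The contradiction. -/
theorem false_of_weights [Finite M] (hp : p ≠ 2) {z a k x : Γ} (W : Weights ρ z a k p) (hzz : z * z = 1)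
    (hxz : x * z = z * x) (hxa : a * x * a⁻¹ = x⁻¹) (hxo : ∃ i, x ^ p ^ i = 1)
    (hx0 : ∀ m, ρ z m = m → ρ x m = m) (hord : ∀ g : Γ, ∃ q : ℕ, Odd q ∧ g ^ (2 * q) = 1)
    (hgen : ∃ v ∈ Subgroup.closure {x, k * x * k⁻¹, k * (k * x * k⁻¹) * k⁻¹},
      v = z ∨ v = a ∨ v = z * a) : False := by
  classical
  have hodd : Odd (orderOf x) := by
    obtain ⟨i, hi⟩ := hxo
    exact ((Fact.out : p.Prime).odd_of_ne_two hp).pow.of_dvd_nat (orderOf_dvd_of_pow_eq_one hi)
  have hai : a⁻¹ = a := inv_eq_of_mul_eq_one_left W.aa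
  obtain ⟨e, he1, hez, -⟩ := W.cyc
  have hea := W.k_map hez
  have hec := W.k_map' hea
  have ha1 : ρ k e ≠ 1 := fun h => he1 ((ρ k).injective (by rw [map_one]; exact h))
  have hc1 : ρ k (ρ k e) ≠ 1 := fun h => ha1 ((ρ k).injective (by rw [map_one]; exact h))
  -- either `x` fixes all weights or it fixes exactly one of them
  have hA : ρ x (ρ k e) = ρ k e → ∀ m, ρ a m = m → ρ x m = m := fun h m hm => by
    obtain ⟨n, rfl⟩ := W.gen_a hea ha1 hm
    rw [map_pow, h]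
  have hC : ρ x (ρ k (ρ k e)) = ρ k (ρ k e) → ∀ m, ρ (z * a) m = m → ρ x m = m := fun h m hm => by
    obtain ⟨n, rfl⟩ := W.gen_za hec hc1 hm
    rw [map_pow, h]
  by_cases h1 : ρ x (ρ k e) = ρ k e <;> by_cases h2 : ρ x (ρ k (ρ k e)) = ρ k (ρ k e)
  · -- everything is fixed, so one of the involutions acts trivially
    have hall : ∀ m, ρ x m = m := by
      intro m
      set P := m * ρ z m with hP
      set N := m * (ρ z m)⁻¹ with hN
      have hPz : ρ z P = P := by rw [hP, map_mul, ← rho_mul, hzz, map_one, MulAut.one_apply, mul_comm]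
      have hNz : ρ z N = N⁻¹ := by
        rw [hN, map_mul, map_inv, ← rho_mul, hzz, map_one, MulAut.one_apply, mul_inv, inv_inv, mul_comm]
      have hNA : ρ a (N * ρ a N) = N * ρ a N := by
        rw [map_mul, ← rho_mul (g := a) (h := a), W.aa, map_one, MulAut.one_apply, mul_comm]
      have hNC : ρ (z * a) (N * (ρ a N)⁻¹) = N * (ρ a N)⁻¹ := by
        rw [map_mul, map_inv, rho_mul, rho_mul, ← rho_mul (g := a) (h := a), W.aa, map_one,
          MulAut.one_apply, hNz, rho_comm ρ W.za, hNz, map_inv, inv_inv, mul_comm]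
      have e1 := hx0 _ hPz
      have e2 := hA h1 _ hNA
      have e3 := hC h2 _ hNC
      have h4 : ρ x (P * P * (N * ρ a N * (N * (ρ a N)⁻¹))) = P * P * (N * ρ a N * (N * (ρ a N)⁻¹)) := by
        simp only [map_mul] at e1 e2 e3 ⊢
        rw [e1, e2, e3]
      have h5 : P * P * (N * ρ a N * (N * (ρ a N)⁻¹)) = (m ^ 2) ^ 2 := by
        rw [hP, hN, show (m ^ 2) ^ 2 = m * m * (m * m) by rw [pow_two, pow_two]]
        apply Additive.ofMul.injective
        simp only [map_mul, map_inv, ofMul_mul, ofMul_inv]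
        abel
      rw [h5, ← pow_mul, map_pow] at h4
      by_contra hne
      have h6 : (ρ x m * m⁻¹) ^ (2 * 2) = 1 := by rw [mul_pow, h4, inv_pow, mul_inv_cancel]
      have hg := pow_gcd_eq_one.2 ⟨h6, W.exp (ρ x m * m⁻¹)⟩
      rw [Nat.Coprime.gcd_eq_one (Nat.Coprime.mul_left ((Nat.coprime_primes Nat.prime_two Fact.out).2 (Ne.symm hp))
        ((Nat.coprime_primes Nat.prime_two Fact.out).2 (Ne.symm hp))), pow_one] at hg
      exact hne (mul_inv_eq_one.1 hg)
    obtain ⟨v, hv, hv'⟩ := hgen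
    have hx1 : ρ x = 1 := MulEquiv.ext fun m => by rw [hall, MulAut.one_apply]
    have hv1 : ρ v = 1 := by
      refine Subgroup.closure_induction (p := fun t _ => ρ t = 1) ?_ (map_one ρ) ?_ ?_ hv
      · rintro t (rfl | rfl | rfl)
        · exact hx1
        · simp [hx1]
        · simp [hx1]
      · intro s t _ _ hs ht
        rw [map_mul, hs, ht, one_mul]
      · intro s _ hs
        rw [map_inv, hs, inv_one]
    have triv : ∀ m, ρ v m = m := fun m => by rw [hv1, MulAut.one_apply]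
    rcases hv' with rfl | rfl | rfl
    · exact ha1 (W.fix2 _ (triv _) hea)
    · exact he1 (W.fix2 _ hez (triv _))
    · refine he1 (W.fix2 _ hez ?_)
      have h := triv e
      rwa [W.za, rho_mul, hez] at h
  · exact W.false_of_fix hp hzz hxz hxa hodd hx0 (hA h1) hec h2 hord
  · -- interchange `a` and `za`
    have hzi : z⁻¹ = z := inv_eq_of_mul_eq_one_left hzz
    have hkc := W.k_cube hzz
    have W' : Weights ρ z (z * a) (k * k) p :=
      { exp := W.exp
        za := by rw [mul_assoc z a z, ← W.za]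
        aa := by rw [W.za_za, hzz]
        kz := by rw [show k * k * z * (k * k)⁻¹ = k * (k * z * k⁻¹) * k⁻¹ by group, W.kz, W.ka]
        ka := by
          rw [show k * k * (z * a) * (k * k)⁻¹ = k * (k * (z * a) * k⁻¹) * k⁻¹ by group, hkc, W.kz,
            ← mul_assoc, hzz, one_mul]
        fix2 := fun m hz hza => W.fix2 m hz (by
          rwa [rho_mul, rho_comm ρ W.za, hz] at hza)
        cyc := W.cyc }
    have hza : z * (z * a) = a := by rw [← mul_assoc, hzz, one_mul]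
    refine W'.false_of_fix hp hzz hxz ?_ hodd hx0 (hC h2) (e := ρ k e) (by rw [hza]; exact hea) h1 hord
    rw [show z * a * x * (z * a)⁻¹ = z * (a * x * a⁻¹) * z⁻¹ by group, hxa,
      (show Commute z x⁻¹ from (Commute.symm hxz).inv_right).eq, mul_inv_cancel_right]
  · -- a fixed point of `x` in the sum of the two weights
    exact false_of_no_fix ρ hp W hzz hxz hxa hxo h1 h2 hea hec
end CfsgLib.J2Sylow
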