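import Cfsg.Agent.J2Sylow.Tools

/-!
# The action on a section
-/

set_option autoImplicit false
set_option linter.style.haveILetI false
set_option linter.unusedSectionVars false

namespace CfsgLib.J2Sylow

open Subgroup

variable {G : Type*} [Group G] [Finite G]

/-- An element mapping a finite subgroup into itself normalizes it. -/
theorem mem_normalizer_of_conj_mem {R : Subgroup G} {g : G} (hg : ∀ r ∈ R, g * r * g⁻¹ ∈ R) :
    g ∈ normalizer (R : Set G) := by
  rw [mem_normalizer_iff_map_conj_eq]
  refine Subgroup.eq_of_le_of_card_ge ?_ (le_of_eq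
    (Nat.card_congr (R.equivMapOfInjective _ (MulAut.conj g).injective).toEquiv))
  rintro _ ⟨r, hr, rfl⟩
  exact hg r hr

/-- The elements of exponent `p` of a commutative section `J/K` with a group acting by conjugation. -/
theorem exists_action (Γ J K : Subgroup G) [hn : (K.subgroupOf J).Normal]
    (hJ : ∀ g ∈ Γ, ∀ n ∈ J, g * n * g⁻¹ ∈ J) (hK : ∀ g ∈ Γ, ∀ n ∈ K, g * n * g⁻¹ ∈ K) :
    ∃ ρ : Γ →* MulAut (J ⧸ K.subgroupOf J), ∀ (g : Γ) (n : J),
      ρ g (QuotientGroup.mk n) = QuotientGroup.mk ⟨(g : G) * n * (g : G)⁻¹, hJ g g.2 n n.2⟩ := by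
  let c : Γ → J →* J := fun g =>
    { toFun := fun m => ⟨(g : G) * m * (g : G)⁻¹, hJ g g.2 m m.2⟩
      map_one' := Subtype.ext (by simp)
      map_mul' := fun m n => Subtype.ext (by
        show (g : G) * ((m : G) * n) * (g : G)⁻¹ = g * m * (g : G)⁻¹ * (g * n * (g : G)⁻¹)
        group) }
  let f : Γ → (J ⧸ K.subgroupOf J) →* (J ⧸ K.subgroupOf J) := fun g =>
    QuotientGroup.map _ _ (c g) fun m hm => mem_subgroupOf.2 (hK g g.2 m (mem_subgroupOf.1 hm))
  have hf : ∀ g (n : J), f g (QuotientGroup.mk n) = QuotientGroup.mk (c g n) := fun g n => rfl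
  have hmul : ∀ g g' x, f (g * g') x = f g (f g' x) := by
    intro g g' x
    induction x using QuotientGroup.induction_on with
    | H n =>
      rw [hf, hf, hf]
      refine congrArg _ (Subtype.ext ?_)
      show ((g * g' : Γ) : G) * n * ((g * g' : Γ) : G)⁻¹ = g * (g' * n * (g' : G)⁻¹) * (g : G)⁻¹
      rw [Subgroup.coe_mul]; group
  have hone : ∀ x, f 1 x = x := by
    intro x
    induction x using QuotientGroup.induction_on with
    | H n =>
      rw [hf]
      refine congrArg _ (Subtype.ext ?_)
      show ((1 : Γ) : G) * n * ((1 : Γ) : G)⁻¹ = n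
      simp
  exact ⟨{
    toFun := fun g =>
      { toFun := f g
        invFun := f g⁻¹
        left_inv := fun x => by rw [← hmul, inv_mul_cancel, hone]
        right_inv := fun x => by rw [← hmul, mul_inv_cancel, hone]
        map_mul' := map_mul (f g) }
    map_one' := MulEquiv.ext hone
    map_mul' := fun g g' => MulEquiv.ext fun x => hmul g g' x }, hf⟩

end CfsgLib.J2Sylow
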