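import Cfsg.Agent.J2Sylow.Invariant
import Cfsg.Agent.J2Sylow.LiftTor
import Cfsg.Agent.J2Sylow.SectionAction
import Cfsg.Agent.J2Sylow.Module

/-!
# Elements of odd order in the centralizer of an outer involution and an element of the four-group
-/

set_option autoImplicit false
set_option linter.style.haveILetI false
set_option linter.unusedSectionVars false
set_option maxRecDepth 100000
set_option maxHeartbeats 1000000

namespace CfsgLib.J2Sylow

open Subgroup CfsgLib.HallJanko CfsgLib.J2Type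
open CfsgLib.A8Three (coreC IsCompl2)

universe u

variable {G : Type u} [Group G] [Finite G]

/-- The terms of the derived series of `O(C(b))`. -/
def layer (b : G) (i : ℕ) : Subgroup G := (derivedSeries (coreC b) i).map (coreC b).subtype

theorem layer_le (b : G) (i : ℕ) : layer b i ≤ coreC b := map_subtype_le _

theorem layer_zero (b : G) : layer b 0 = coreC b := by
  rw [layer, derivedSeries_zero, ← MonoidHom.range_eq_map, Subgroup.range_subtype]

theorem layer_conj {b y : G} (hy : y * b = b * y) (i : ℕ) : ∀ n ∈ layer b i, y * n * y⁻¹ ∈ layer b i := by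
  rintro _ ⟨n, hn, rfl⟩
  have hyn : y ∈ normalizer (coreC b : Set G) :=
    mem_normalizer_of_conj_mem fun r hr => CfsgLib.A8Three.conj_mem_coreC hy hr
  haveI hd : (derivedSeries (coreC b) i).Characteristic := derivedSeries_characteristic _ i
  have := (characteristic_iff_map_eq.1 hd) (normalizerMonoidHom (coreC b) ⟨y, hyn⟩)
  exact ⟨_, this.le ⟨n, hn, rfl⟩, rfl⟩

theorem layer_is (b : G) (i : ℕ) : Layer b (layer b i) (layer b (i + 1)) where
  le := layer_le b i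
  le1 := map_mono (by
    rw [derivedSeries_succ]
    haveI : (derivedSeries (coreC b) i).Normal := derivedSeries_normal _ i
    exact commutator_le_left _ _)
  conj := fun _ hy => layer_conj hy i
  conj1 := fun _ hy => layer_conj hy (i + 1)
  comm := by
    rintro _ ⟨u, hu, rfl⟩ _ ⟨v, hv, rfl⟩
    refine ⟨u * v * u⁻¹ * v⁻¹, ?_, rfl⟩
    rw [derivedSeries_succ]
    exact commutator_mem_commutator hu hv

namespace Hyp

variable {S : Sylow 2 G} {z : G} (h : Hyp S z)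
include h

variable {b : G} (hb : h.Outside b) {k : G} (hk : h.Cyc b k)
include hb hk

/-- Outside the core there are torus elements. -/
theorem Cyc.exists_torus {n : G} (hnz : n * z = z * n) (hnb : n * b = b * n) (ho : Odd (orderOf n))
    (hn : n ∉ coreC b) :
    ∃ x, x * z = z * x ∧ (∀ u ∈ fixU S b k, x * u = u * x) ∧ Odd (orderOf x) ∧
      h.D.a 4 * x * (h.D.a 4)⁻¹ = x⁻¹ ∧ x ∉ coreC b := by
  obtain ⟨L, U, c, hU⟩ := Cyc.exists_comp h hb hk
  obtain ⟨X, hX, hX1⟩ : ∃ X, Tor (bar (h.zb hb)) (bar (h.ab hb)) X ∧ X ≠ 1 := by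
    by_contra hno
    push Not at hno
    exact hn ((mem_theta_iff hnb).2 (c.eq_one_of_forall_tor hno (odd_orderOf_bar hnb ho) (by
      rw [bar_mul, bar_mul]; exact bar_congr _ _ hnz)))
  obtain ⟨p, hp, hpd⟩ := Nat.exists_prime_and_dvd (show orderOf X ≠ 1 from fun e => hX1 (orderOf_eq_one_iff.1 e))
  haveI := Fact.mk hp
  have hp2 : p ≠ 2 := fun e => hX.1.not_two_dvd_nat (e ▸ hpd)
  set Y := X ^ (orderOf X / p) with hY
  have hYp : orderOf Y = p := orderOf_pow_orderOf_div (orderOf_pos X).ne' hpd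
  have hYz : Commute Y (bar (h.zb hb)) := Commute.pow_left (hX.2.1 : Commute X _) _
  have hYa : bar (h.ab hb) * Y * (bar (h.ab hb))⁻¹ = Y⁻¹ := by
    rw [hY, ← conj_pow, hX.2.2, inv_pow]
  obtain ⟨y0, hy0, hy0Y⟩ := exists_bar_eq Y
  obtain ⟨y, e, hyz⟩ := exists_lift_commute (pr b) (odd_ker_pr b)
    (s := ⟨z, mem_centralizer_singleton_iff.2 (h.zb hb)⟩) (n := ⟨y0, mem_centralizer_singleton_iff.2 hy0⟩)
    (Subtype.ext h.zz) (by
      show bar (h.zb hb) * bar hy0 = bar hy0 * bar (h.zb hb)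
      rw [hy0Y]; exact hYz.eq.symm)
  have hyz' : (y : G) * z = z * y := congrArg Subtype.val hyz.eq.symm
  have hyb := mem_centralizer_singleton_iff.1 y.2
  have hbY : bar hyb = Y := e.trans hy0Y
  obtain ⟨x, hxz, hxU, hxa, ⟨i, hxi⟩, hx⟩ := Cyc.lift_tor h hb hk hp2 hyz' hyb
    (by rw [mem_theta_iff ((Commute.pow_left (hyb : Commute (y : G) b) p).eq), ← bar_pow hyb, hbY, ← hYp,
      pow_orderOf_eq_one])
    ((bar_inverted_iff hyb (h.ab hb)).1 (by rw [hbY]; exact hYa))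
    (fun hin => by
      rw [mem_theta_iff hyb, hbY] at hin
      rw [hin, orderOf_one] at hYp
      exact hp.ne_one hYp.symm)
  exact ⟨x, hxz, hxU, (hp.odd_of_ne_two hp2).pow.of_dvd_nat (orderOf_dvd_of_pow_eq_one hxi), hxa, hx⟩

/-- An element of odd order commuting with `z` and `b` lies in `O(C(b))`. -/
theorem Cyc.key {n : G} (hnz : n * z = z * n) (hnb : n * b = b * n) (ho : Odd (orderOf n)) :
    n ∈ coreC b := by
  classical
  by_contra hn
  obtain ⟨x₀, hx₀z, hx₀U, hx₀o, hx₀a, hx₀⟩ := Cyc.exists_torus h hb hk hnz hnb ho hn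
  obtain ⟨t, htz, hta, htb⟩ := h.exists_shift hb
  have htbz : t * (b * z) * t⁻¹ = b := by
    rw [show t * (b * z) * t⁻¹ = t * b * t⁻¹ * (t * z * t⁻¹) by group, htb, mul_inv_eq_iff_eq_mul.2 htz,
      mul_assoc, h.zz, mul_one]
  have hab := h.ab hb
  have habz : h.D.a 4 * (b * z) = b * z * h.D.a 4 := h.A_comm hb (h.aA hb) (h.bz_mem hb)
  have htai : t⁻¹ * h.D.a 4 = h.D.a 4 * t⁻¹ := (Commute.inv_left (hta : Commute t _)).eq
  -- the predicate
  let P : ℕ → Prop := fun i =>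
    ∃ m ∈ layer b i, m * z = z * m ∧ m * h.D.a 4 * m⁻¹ * (h.D.a 4)⁻¹ ∉ coreC (b * z)
  have hx₀b : x₀ * b = b * x₀ := hx₀U b (Cyc.bU h hb hk)
  have h0 : P 0 := by
    refine ⟨t * x₀ * t⁻¹, ?_, commute_conj_of htz hx₀z, fun hin => hx₀ ?_⟩
    · rw [layer_zero, ← htbz]
      exact CfsgLib.A8Three.map_coreC t _ (Cyc.mem_theta_bz h hb hk hx₀z hx₀U hx₀o hx₀a)
    have hc : t * x₀ * t⁻¹ * (b * z) = b * z * (t * x₀ * t⁻¹) := by
      rw [← htb]; exact conj_comm hx₀b
    have := mem_theta_of_inverted hc habz (by rw [Small.orderOf_conj_eq]; exact hx₀o) hin (by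
      rw [show h.D.a 4 * (t * x₀ * t⁻¹) * (h.D.a 4)⁻¹ = h.D.a 4 * t * x₀ * (h.D.a 4 * t)⁻¹ by group, ← hta,
        show t * h.D.a 4 * x₀ * (t * h.D.a 4)⁻¹ = t * (h.D.a 4 * x₀ * (h.D.a 4)⁻¹) * t⁻¹ by group, hx₀a,
        show t * x₀⁻¹ * t⁻¹ * (t * x₀ * t⁻¹) = 1 by group]
      exact one_mem _)
    have := CfsgLib.A8Three.map_coreC t⁻¹ _ this
    rwa [inv_inv, show t⁻¹ * (t * x₀ * t⁻¹) * t = x₀ by group,
      show t⁻¹ * (b * z) * t = b by rw [← htb]; group] at this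
  haveI : Group.IsSolvable (coreC b) := Cfsg.Agent.S0205.result (CfsgLib.A8Three.odd_coreC b)
  obtain ⟨top, htop⟩ := (Group.isSolvable_def (coreC b)).1 inferInstance
  obtain ⟨i, hi, hi1⟩ : ∃ i, P i ∧ ¬ P (i + 1) := by
    by_contra hno
    push Not at hno
    have hall : ∀ i, P i := fun i => by
      induction i with
      | zero => exact h0
      | succ i ih => exact hno i ih
    obtain ⟨m, hm, -, hm'⟩ := hall top
    rw [layer, htop, Subgroup.map_bot, mem_bot] at hm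
    exact hm' (by simp [hm, one_mem])
  have good : ∀ m ∈ layer b (i + 1), m * z = z * m →
      m * h.D.a 4 * m⁻¹ * (h.D.a 4)⁻¹ ∈ coreC (b * z) := fun m hm hmz => by
    by_contra hbad
    exact hi1 ⟨m, hm, hmz, hbad⟩
  obtain ⟨n₀, hn₀, hn₀z, hn₀bad⟩ := hi
  set J := layer b i
  set J1 := layer b (i + 1)
  have l : Layer b J J1 := layer_is b i
  set K := h.KK l k with hKdef
  have hKJ : K ≤ J := h.KK_le l k
  have hJK : J1 ≤ K := h.J1_le_KK l k
  have hb'z := h.outside_bz hb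
  -- `bz` is cycled
  obtain ⟨k', hk'⟩ : ∃ k', h.Cyc (b * z) k' := by
    refine (h.theta_or_cyc hb'z).resolve_left fun hall => hn₀bad ?_
    have hc : n₀ * (b * z) = b * z * n₀ := (Commute.mul_right (l.cb hn₀ : Commute n₀ b) hn₀z).eq
    rw [show n₀ * h.D.a 4 * n₀⁻¹ * (h.D.a 4)⁻¹ = n₀ * (h.D.a 4 * n₀⁻¹ * (h.D.a 4)⁻¹) by group]
    exact mul_mem (hall n₀ hc (l.odd hn₀))
      (CfsgLib.A8Three.conj_mem_coreC habz (inv_mem (hall n₀ hc (l.odd hn₀))))
  obtain ⟨L', U', c', -⟩ := Cyc.exists_comp h hb'z hk'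
  obtain ⟨T, hT, hTmem⟩ := c'.exists_cyclic
  -- the group acting
  let Γ : Subgroup G := centralizer ({b} : Set G) ⊓ normalizer (K : Set G)
  have hΓb : ∀ g ∈ Γ, g * b = b * g := fun g hg => mem_centralizer_singleton_iff.1 hg.1
  have hΓJ : ∀ g ∈ Γ, ∀ m ∈ J, g * m * g⁻¹ ∈ J := fun g hg => l.conj g (hΓb g hg)
  have hΓK : ∀ g ∈ Γ, ∀ m ∈ K, g * m * g⁻¹ ∈ K := fun g hg m hm => (mem_normalizer_iff.1 hg.2 m).1 hm
  haveI hnK : (K.subgroupOf J).Normal := ⟨fun m hm y => mem_subgroupOf.2 (by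
    show (y : G) * m * (y : G)⁻¹ ∈ K
    rw [show (y : G) * m * (y : G)⁻¹ = ((y : G) * m * (y : G)⁻¹ * (m : G)⁻¹) * m by group]
    exact mul_mem (hJK (l.comm y y.2 m m.2)) (mem_subgroupOf.1 hm))⟩
  let M := J ⧸ K.subgroupOf J
  letI : CommGroup M :=
    { (inferInstance : Group M) with
      mul_comm := fun a c => by
        induction a using QuotientGroup.induction_on with
        | H u =>
          induction c using QuotientGroup.induction_on with
          | H v =>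
            refine QuotientGroup.eq.2 (mem_subgroupOf.2 (hJK ?_))
            show ((u : G) * v)⁻¹ * ((v : G) * u) ∈ J1
            rw [mul_inv_rev]
            have := l.comm (v : G)⁻¹ (inv_mem v.2) (u : G)⁻¹ (inv_mem u.2)
            rw [inv_inv, inv_inv] at this
            rwa [show (v : G)⁻¹ * (u : G)⁻¹ * ((v : G) * u) = (v : G)⁻¹ * (u : G)⁻¹ * v * u by group] }
  obtain ⟨ρ₀, hρ₀⟩ := exists_action Γ J K hΓJ hΓK
  let cls : ∀ m, m ∈ J → M := fun m hm => QuotientGroup.mk ⟨m, hm⟩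
  have hcls : ∀ {m} (hm : m ∈ J), cls m hm = 1 ↔ m ∈ K := fun hm =>
    (QuotientGroup.eq_one_iff _).trans mem_subgroupOf
  have hMo : ∀ X : M, Odd (orderOf X) := by
    intro X
    induction X using QuotientGroup.induction_on with
    | H m =>
      refine (l.odd m.2).of_dvd_nat ?_
      rw [Subgroup.orderOf_coe]
      exact orderOf_map_dvd (QuotientGroup.mk' _) m
  have hsqrt : ∀ X : M, X * X = 1 → X = 1 := fun X hX =>
    CfsgLib.A8Three.eq_one_of_two_pow (k := 1) (by rw [pow_one, pow_two]; exact hX) (hMo X)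
  -- the elements of the four-group in `Γ`
  have memA : ∀ y ∈ centS S b, y ∈ Γ := fun y hy => ⟨h.A_le hb hy, mem_normalizer_of_conj_mem fun r hr =>
    Cyc.KK_conj h hb hk l (mem_centS.1 hy).2
      (fun v hv => by rwa [mul_assoc, ← h.A_comm hb hy hv.1, inv_mul_cancel_left])
      (fun v hv => ⟨by rwa [mul_assoc, ← h.A_comm hb hy (h.four_mem_A hb hv), inv_mul_cancel_left],
        by rwa [h.A_comm hb hy (h.four_mem_A hb hv), mul_inv_cancel_right]⟩) hr⟩
  have memk : k ∈ Γ := ⟨mem_centralizer_singleton_iff.2 hk.comm, mem_normalizer_of_conj_mem fun r hr =>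
    Cyc.KK_conj h hb hk l hk.comm
      (fun v hv => by
        rwa [mul_assoc, mem_centralizer_singleton_iff.1 hv.2, inv_mul_cancel_left])
      (fun v hv => ⟨Cyc.four_back h hb hk hv, h.maps_four hb hk.norm hv⟩) hr⟩
  let gz : Γ := ⟨z, memA z (h.zA hb)⟩
  let ga : Γ := ⟨h.D.a 4, memA _ (h.aA hb)⟩
  have hzJ : ∀ {m}, m ∈ J → z * m * z⁻¹ ∈ J := fun hm => l.conj z (h.zb hb) _ hm
  -- lifting fixed points
  have hfix : ∀ X : M, ρ₀ gz X = X → ∃ f, ∃ hf : f ∈ J, f * z = z * f ∧ cls f hf = X * X := by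
    intro X hX
    induction X using QuotientGroup.induction_on with
    | H m =>
      obtain ⟨f, hf, hfz, hfj⟩ := l.fixed_part le_rfl h.zz (fun r hr => hzJ hr) m.2
      refine ⟨f, hf, hfz.symm, ?_⟩
      rw [hρ₀] at hX
      have e : cls f hf = QuotientGroup.mk (m * ⟨z * (m : G) * z⁻¹, hzJ m.2⟩) :=
        (QuotientGroup.eq.2 (mem_subgroupOf.2 (hJK hfj))).symm
      rw [e, QuotientGroup.mk_mul]
      exact congrArg _ hX
  have hfix2 : ∀ X : M, ρ₀ gz X = X → ρ₀ ga X = X → X = 1 := by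
    intro X hz ha
    obtain ⟨f, hf, hfz, hfe⟩ := hfix X hz
    have hfaX : ρ₀ ga (cls f hf) = cls f hf := by rw [hfe, map_mul, ha]
    rw [hρ₀] at hfaX
    let B := J ⊓ centralizer ({z} : Set G)
    obtain ⟨g, hg, hga, hgj⟩ := l.fixed_part (B := B) inf_le_left (h.D.sq 4)
      (fun r hr => mem_inf.2 ⟨l.conj _ hab r hr.1, mem_centralizer_singleton_iff.2
        (commute_conj_of (h.ac 4) (mem_centralizer_singleton_iff.1 hr.2))⟩)
      (mem_inf.2 ⟨hf, mem_centralizer_singleton_iff.2 hfz⟩)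
    have hgK : g ∈ K := Cyc.centV_le_KK h hb hk l good hg.1 (mem_centralizer_singleton_iff.1 hg.2) hga.symm
    have e : cls f hf * cls f hf = 1 := by
      conv_lhs => arg 2; rw [← hfaX]
      rw [← (hcls (mul_mem hf (l.conj _ hab f hf))).2 (by
        have := mul_mem hgK (inv_mem (hJK hgj))
        rwa [mul_inv_rev, inv_inv, mul_inv_cancel_left] at this)]
      rfl
    exact hsqrt _ (hfe ▸ hsqrt _ e)
  have hρρ : ρ₀ ga * ρ₀ ga = 1 := by
    rw [← map_mul, show ga * ga = 1 from Subtype.ext (h.D.sq 4), map_one]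
  have hazc : gz * ga = ga * gz := Subtype.ext (h.ac 4).symm
  have hneg : ∀ X : M, ρ₀ gz X = X → ρ₀ ga X = X⁻¹ := by
    intro X hX
    refine eq_inv_of_mul_eq_one_right (hfix2 _ ?_ ?_)
    · rw [map_mul, hX, rho_comm ρ₀ hazc, hX]
    · rw [map_mul, ← MulAut.mul_apply, hρρ, MulAut.one_apply, mul_comm]
  -- a prime
  set X₀ : M := cls n₀ hn₀ with hX₀
  have hX₀1 : X₀ ≠ 1 := fun e =>
    hn₀bad ((Cyc.KK_fix_z h hb hk l good ((hcls hn₀).1 e) hn₀z).2.2 _ (Or.inr (Or.inr (Or.inl rfl))))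
  have hX₀z : ρ₀ gz X₀ = X₀ := by
    rw [hX₀, hρ₀]
    refine congrArg QuotientGroup.mk (Subtype.ext ?_)
    show z * n₀ * z⁻¹ = n₀
    rw [← hn₀z, mul_inv_cancel_right]
  obtain ⟨p, hp, hpd⟩ := Nat.exists_prime_and_dvd (show orderOf X₀ ≠ 1 from fun e => hX₀1 (orderOf_eq_one_iff.1 e))
  haveI := Fact.mk hp
  have hp2 : p ≠ 2 := fun e => (hMo X₀).not_two_dvd_nat (e ▸ hpd)
  let N : Subgroup M := (powMonoidHom p).ker
  have memN : ∀ {X : M}, X ∈ N ↔ X ^ p = 1 := MonoidHom.mem_ker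
  let ρ : Γ →* MulAut N :=
    { toFun := fun g =>
        { toFun := fun X => ⟨ρ₀ g (X : M), memN.2 (by rw [← map_pow, memN.1 X.2, map_one])⟩
          invFun := fun X => ⟨(ρ₀ g).symm (X : M), memN.2 (by rw [← map_pow, memN.1 X.2, map_one])⟩
          left_inv := fun X => Subtype.ext ((ρ₀ g).symm_apply_apply (X : M))
          right_inv := fun X => Subtype.ext ((ρ₀ g).apply_symm_apply (X : M))
          map_mul' := fun X Y => Subtype.ext (map_mul (ρ₀ g) (X : M) (Y : M)) }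
      map_one' := MulEquiv.ext fun X => Subtype.ext (by show ρ₀ 1 (X : M) = X; rw [map_one]; rfl)
      map_mul' := fun g g' => MulEquiv.ext fun X => Subtype.ext (by
        show ρ₀ (g * g') (X : M) = ρ₀ g (ρ₀ g' (X : M))
        rw [map_mul]; rfl) }
  have hρ : ∀ g (X : N), ρ g X = X ↔ ρ₀ g (X : M) = (X : M) := fun g X => Subtype.ext_iff
  -- torus lifts of fixed elements of exponent `p`
  have tor : ∀ X : M, ρ₀ gz X = X → X ^ p = 1 → ∃ f, ∃ hf : f ∈ J, f * z = z * f ∧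
      cls f hf = X ^ 4 ∧ h.D.a 4 * f * (h.D.a 4)⁻¹ = f⁻¹ ∧ f ^ p ∈ coreC (b * z) := by
    intro X hX hXp
    obtain ⟨f, hf, hfz, hfe⟩ := hfix X hX
    have hfa : h.D.a 4 * f * (h.D.a 4)⁻¹ ∈ J := l.conj _ hab f hf
    set t' := f * (h.D.a 4 * f * (h.D.a 4)⁻¹)⁻¹ with ht'
    have ht'J : t' ∈ J := mul_mem hf (inv_mem hfa)
    have ht'z : t' * z = z * t' :=
      (Commute.mul_left (hfz : Commute f z) (Commute.inv_left (commute_conj_of' (h.ac 4) hfz))).eq
    have ht'a : h.D.a 4 * t' * (h.D.a 4)⁻¹ = t'⁻¹ := inverted_mul (n := f) (h.D.sq 4)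
    have e : cls t' ht'J = X ^ 4 := by
      have e1 : cls t' ht'J = cls f hf * (ρ₀ ga (cls f hf))⁻¹ := by rw [hρ₀]; rfl
      rw [e1, hfe, map_mul, hneg X hX, mul_inv, inv_inv, pow_succ, pow_succ, pow_succ, pow_one]
      exact (mul_assoc _ _ _).symm
    refine ⟨t', ht'J, ht'z, e, ht'a, ?_⟩
    have hK : t' ^ p ∈ K := (hcls (pow_mem ht'J p)).1 (by
      show cls _ _ = _
      rw [show cls (t' ^ p) (pow_mem ht'J p) = (cls t' ht'J) ^ p from rfl, e, ← pow_mul, mul_comm, pow_mul,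
        hXp, one_pow])
    have hc : t' ^ p * z = z * t' ^ p := (Commute.pow_left (ht'z : Commute t' z) p).eq
    refine mem_theta_of_inverted
      ((Commute.mul_right (l.cb (pow_mem ht'J p) : Commute (t' ^ p) b) hc).eq) habz (l.odd (pow_mem ht'J p))
      ((Cyc.KK_fix_z h hb hk l good hK hc).2.2 _ (Or.inr (Or.inr (Or.inl rfl)))) ?_
    rw [← conj_pow, ht'a, inv_pow, inv_mul_cancel]
    exact one_mem _
  have cl4 : ∀ {X : M}, X ^ p = 1 → X ^ 4 = 1 → X = 1 := fun {X} h1 h2 => by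
    refine hsqrt X (hsqrt _ ?_)
    rw [← h2]; simp [pow_succ, mul_assoc]
  have hX₀' : ∀ n : ℕ, ρ₀ gz (X₀ ^ n) = X₀ ^ n := fun n => by rw [map_pow, hX₀z]
  set E₀ := X₀ ^ (orderOf X₀ / p) with hE₀
  have hE₀o : orderOf E₀ = p := orderOf_pow_orderOf_div (orderOf_pos X₀).ne' hpd
  have hE₀p : E₀ ^ p = 1 := hE₀o ▸ pow_orderOf_eq_one E₀
  have hE₀1 : E₀ ≠ 1 := fun e => hp.ne_one (by rw [← hE₀o, e, orderOf_one])
  obtain ⟨f₁, hf₁, hf₁z, hf₁e, hf₁a, hf₁p⟩ := tor E₀ (hX₀' _) hE₀p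
  have hf₁c : f₁ * (b * z) = b * z * f₁ := (Commute.mul_right (l.cb hf₁ : Commute f₁ b) hf₁z).eq
  have hbad : ∀ {f} (hf : f ∈ J), f * z = z * f → f ∈ coreC (b * z) → cls f hf = 1 := by
    intro f hf hfz hθ
    refine (hcls hf).2 (h.PV_le_KK hb l (Or.inr (Or.inl rfl)) h.z1 (h.inP_z hb l hf hfz ?_))
    rw [show f * h.D.a 4 * f⁻¹ * (h.D.a 4)⁻¹ = f * (h.D.a 4 * f⁻¹ * (h.D.a 4)⁻¹) by group]
    exact mul_mem hθ (CfsgLib.A8Three.conj_mem_coreC habz (inv_mem hθ))
  have hf₁θ : f₁ ∉ coreC (b * z) := fun hθ =>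
    hE₀1 (cl4 hE₀p (hf₁e.symm.trans (hbad hf₁ hf₁z hθ)))
  have hTor : ∀ {f} (hf : f ∈ J) (hfz : f * z = z * f), h.D.a 4 * f * (h.D.a 4)⁻¹ = f⁻¹ →
      Tor (bar (h.zb hb'z)) (bar (h.ab hb'z)) (bar (z := b * z) (x := f)
        ((Commute.mul_right (l.cb hf : Commute f b) hfz).eq)) := fun {f} hf hfz hfa => by
    refine ⟨odd_orderOf_bar _ (l.odd hf), by rw [bar_mul, bar_mul]; exact bar_congr _ _ hfz, ?_⟩
    rw [bar_inverted_iff, hfa, inv_mul_cancel]
    exact one_mem _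
  have W : Weights ρ gz ga ⟨k, memk⟩ p :=
    { exp := fun X => Subtype.ext (memN.1 X.2)
      za := hazc
      aa := Subtype.ext (h.D.sq 4)
      kz := Subtype.ext hk.kz
      ka := Subtype.ext (hk.ka.trans (h.ac 4))
      fix2 := fun X h1 h2 => Subtype.ext (hfix2 _ ((hρ _ _).1 h1) ((hρ _ _).1 h2))
      cyc := by
        refine ⟨⟨E₀, memN.2 hE₀p⟩, fun e => hE₀1 (congrArg Subtype.val e), (hρ _ _).2 (hX₀' _), fun X hX => ?_⟩
        obtain ⟨f, hf, hfz, hfe, hfa, hfp⟩ := tor X ((hρ _ _).1 hX) (memN.1 X.2)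
        have hfc : f * (b * z) = b * z * f := (Commute.mul_right (l.cb hf : Commute f b) hfz).eq
        haveI := hT
        have hm1 := hTmem _ (hTor hf₁ hf₁z hf₁a)
        have hm2 := hTmem _ (hTor hf hfz hfa)
        have hpow : ∀ {g} (hg : g * (b * z) = b * z * g), g ^ p ∈ coreC (b * z) → (bar hg) ^ p = 1 :=
          fun hg e => by rw [bar_pow hg, ← mem_theta_iff]; exact e
        obtain ⟨j, hj⟩ := (mem_zpowers_iff.1 (mem_zpowers_of_pow_prime (T := T) (x := ⟨_, hm1⟩) (y := ⟨_, hm2⟩)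
          (Subtype.ext (hpow hf₁c hf₁p)) (Subtype.ext (hpow hfc hfp))
          (fun e => hf₁θ ((mem_theta_iff hf₁c).2 (congrArg Subtype.val e)))))
        have hj' : (bar hf₁c) ^ j = bar hfc := congrArg Subtype.val hj
        have hgJ : (f₁ ^ j)⁻¹ * f ∈ J := mul_mem (inv_mem (zpow_mem hf₁ j)) hf
        have hgz : (f₁ ^ j)⁻¹ * f * z = z * ((f₁ ^ j)⁻¹ * f) :=
          (Commute.mul_left (Commute.inv_left (Commute.zpow_left (hf₁z : Commute f₁ z) j)) hfz).eq
        have hjc : f₁ ^ j * (b * z) = b * z * f₁ ^ j := (Commute.zpow_left (hf₁c : Commute f₁ _) j).eq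
        have hθ : (f₁ ^ j)⁻¹ * f ∈ coreC (b * z) := by
          refine (bar_eq_iff hjc hfc).1 ?_
          rw [← hj']
          exact (pr (b * z)).map_zpow ⟨f₁, mem_centralizer_singleton_iff.2 hf₁c⟩ j
        have e := hbad hgJ hgz hθ
        have e' : ((E₀ ^ j)⁻¹ * (X : M)) ^ 4 = 1 := by
          have e0 : ((cls f₁ hf₁) ^ j)⁻¹ * cls f hf = 1 := e
          rw [hf₁e, hfe] at e0
          rw [mul_pow, inv_pow, show (E₀ ^ j) ^ 4 = (E₀ ^ 4) ^ j by
            rw [← zpow_natCast, ← zpow_natCast, ← zpow_mul, ← zpow_mul, mul_comm]]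
          exact e0
        have e'' := cl4 (by rw [mul_pow, inv_pow, memN.1 X.2, ← zpow_natCast (E₀ ^ j), ← zpow_mul, mul_comm j,
          zpow_mul, zpow_natCast, hE₀p, one_zpow, inv_one, one_mul]) e'
        exact mem_zpowers_iff.2 ⟨j, Subtype.ext (inv_mul_eq_one.1 e'')⟩ }
  -- the unipotent element
  have hyb : t * f₁ * t⁻¹ * b = b * (t * f₁ * t⁻¹) := by
    have := conj_comm (g := t) hf₁c
    rwa [htbz] at this
  obtain ⟨x, hxz, hxU, hxa, ⟨e, hxe⟩, hx⟩ := Cyc.lift_tor h hb hk hp2 (commute_conj_of htz hf₁z) hyb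
    (by rw [conj_pow, ← htbz]; exact CfsgLib.A8Three.map_coreC t _ hf₁p)
    (by
      rw [show h.D.a 4 * (t * f₁ * t⁻¹) * (h.D.a 4)⁻¹ = h.D.a 4 * t * f₁ * (h.D.a 4 * t)⁻¹ by group, ← hta,
        show t * h.D.a 4 * f₁ * (t * h.D.a 4)⁻¹ = t * (h.D.a 4 * f₁ * (h.D.a 4)⁻¹) * t⁻¹ by group, hf₁a,
        show t * f₁⁻¹ * t⁻¹ * (t * f₁ * t⁻¹) = 1 by group]
      exact one_mem _)
    (fun hin => hf₁θ (by
      have := CfsgLib.A8Three.map_coreC t⁻¹ _ hin
      rwa [inv_inv, show t⁻¹ * (t * f₁ * t⁻¹) * t = f₁ by group,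
        show t⁻¹ * b * t = b * z by
          calc t⁻¹ * b * t = t⁻¹ * (t * (b * z) * t⁻¹) * t := by rw [htbz]
            _ = b * z := by group] at this))
  have hxo : Odd (orderOf x) := (hp.odd_of_ne_two hp2).pow.of_dvd_nat (orderOf_dvd_of_pow_eq_one hxe)
  have hxb : x * b = b * x := hxU b (Cyc.bU h hb hk)
  have hxθ := Cyc.mem_theta_bz h hb hk hxz hxU hxo hxa
  obtain ⟨b', hb', hb'1, hb'b⟩ := Cyc.exists_other h hb hk (u := b)
  have memx : x ∈ Γ := ⟨mem_centralizer_singleton_iff.2 hxb, mem_normalizer_of_conj_mem fun r hr =>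
    Cyc.KK_conj_x h hb hk l good hb' hb'1 hb'b hxz hxU hxθ hr⟩
  have hx0 : ∀ X : N, ρ gz X = X → ρ ⟨x, memx⟩ X = X := by
    intro X hX
    rw [hρ] at hX ⊢
    obtain ⟨f, hf, hfz, hfe⟩ := hfix X hX
    have hxf : ρ₀ ⟨x, memx⟩ (cls f hf) = cls f hf := by
      rw [hρ₀]
      have hJ' : x * f * x⁻¹ * f⁻¹ ∈ J := mul_mem (l.conj x hxb f hf) (inv_mem hf)
      have e := hbad hJ' (Commute.mul_left (commute_conj_of' hxz hfz) (Commute.inv_left (hfz : Commute f z))).eq
        (by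
          rw [show x * f * x⁻¹ * f⁻¹ = x * (f * x⁻¹ * f⁻¹) by group]
          exact mul_mem hxθ (CfsgLib.A8Three.conj_mem_coreC
            ((Commute.mul_right (l.cb hf : Commute f b) hfz).eq) (inv_mem hxθ)))
      exact mul_inv_eq_one.1 e
    rw [hfe, map_mul] at hxf
    exact mul_inv_eq_one.1 (hsqrt _ (by rw [mul_mul_mul_comm, hxf, ← mul_inv, mul_inv_cancel]))
  have hord : ∀ g : Γ, ∃ q : ℕ, Odd q ∧ g ^ (2 * q) = 1 := by
    intro g
    obtain ⟨e, q, hq, hqe⟩ := Nat.exists_eq_two_pow_mul_odd (orderOf_pos (g : G)).ne'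
    refine ⟨q, hq, Subtype.ext ?_⟩
    haveI : Fact (Nat.Prime 2) := ⟨Nat.prime_two⟩
    have h2 : IsPGroup 2 (zpowers ((g : G) ^ q)) := by
      obtain ⟨j, -, hj⟩ := (Nat.dvd_prime_pow Nat.prime_two).1
        (orderOf_dvd_of_pow_eq_one (show ((g : G) ^ q) ^ 2 ^ e = 1 by
          rw [← pow_mul, mul_comm, ← hqe, pow_orderOf_eq_one]))
      exact IsPGroup.of_card (n := j) (by rw [Nat.card_zpowers, hj])
    obtain ⟨c, -, hc⟩ := h.conj_into_A hb h2 (zpowers_le.2 (pow_mem g.2.1 q))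
    have := h.A_sq hb (hc _ (mem_zpowers _))
    rw [show c * (g : G) ^ q * c⁻¹ * (c * (g : G) ^ q * c⁻¹) = c * ((g : G) ^ q * (g : G) ^ q) * c⁻¹ by group,
      conj_eq_one_iff] at this
    rw [Subgroup.coe_pow, OneMemClass.coe_one, two_mul, pow_add, this]
  -- the group generated by the conjugates of `x`
  set x₁ := k * x * k⁻¹ with hx₁def
  set x₂ := k * x₁ * k⁻¹ with hx₂def
  let G₀ : Subgroup G := Subgroup.closure {x, x₁, x₂}
  obtain ⟨v, hvG, hv, hv1⟩ : ∃ v ∈ G₀, Four z (h.D.a 4) v ∧ v ≠ 1 := by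
    have hG₀b : ∀ g ∈ G₀, g * b = b * g := fun g hg => mem_centralizer_singleton_iff.1
      ((closure_le _).2 (by
        rintro g (rfl | rfl | rfl)
        exacts [mem_centralizer_singleton_iff.2 hxb,
          mem_centralizer_singleton_iff.2 (commute_conj_of hk.comm hxb),
          mem_centralizer_singleton_iff.2 (commute_conj_of hk.comm (commute_conj_of hk.comm hxb))]) hg)
    -- `A` normalizes the set of generators up to inverses
    have hyx : ∀ y ∈ centS S b, y * x * y⁻¹ = x ∨ y * x * y⁻¹ = x⁻¹ := by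
      intro y hy
      obtain ⟨u, hu, hf⟩ := Cyc.exists_dec h hb hk hy
      rw [show y = u * (u * y) by rw [← mul_assoc, h.A_sq hb hu.1, one_mul]]
      have hux : ∀ w, (w = x ∨ w = x⁻¹) → u * w * u⁻¹ = x ∨ u * w * u⁻¹ = x⁻¹ := by
        rintro w (rfl | rfl)
        · exact Or.inl (by rw [← hxU u hu, mul_inv_cancel_right])
        · exact Or.inr (by rw [← (Commute.inv_left (hxU u hu : Commute x u)).eq, mul_inv_cancel_right])
      rw [show u * (u * y) * x * (u * (u * y))⁻¹ = u * (u * y * x * (u * y)⁻¹) * u⁻¹ by group]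
      refine hux _ ?_
      rcases hf with e | e | e | e <;> rw [e]
      · exact Or.inl (by group)
      · exact Or.inl (by rw [← hxz, mul_inv_cancel_right])
      · exact Or.inr hxa
      · refine Or.inr ?_
        rw [show h.D.a 4 * z * x * (h.D.a 4 * z)⁻¹ = h.D.a 4 * (z * x * z⁻¹) * (h.D.a 4)⁻¹ by group, ← hxz,
          mul_inv_cancel_right, hxa]
    have hkinv : ∀ y ∈ centS S b, k⁻¹ * y * k ∈ centS S b := fun y hy => by
      have := hk.norm _ (hk.norm _ hy)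
      rwa [show k * (k * y * k⁻¹) * k⁻¹ = k⁻¹ * (k * (k * (k * y * k⁻¹) * k⁻¹) * k⁻¹) * k by group,
        Cyc.cube h hb hk hy] at this
    have hstep : ∀ w, (∀ y ∈ centS S b, y * w * y⁻¹ = w ∨ y * w * y⁻¹ = w⁻¹) →
        ∀ y ∈ centS S b, y * (k * w * k⁻¹) * y⁻¹ = k * w * k⁻¹ ∨
          y * (k * w * k⁻¹) * y⁻¹ = (k * w * k⁻¹)⁻¹ := by
      intro w hw y hy
      rw [show y * (k * w * k⁻¹) * y⁻¹ = k * ((k⁻¹ * y * k) * w * (k⁻¹ * y * k)⁻¹) * k⁻¹ by group]
      rcases hw _ (hkinv y hy) with e | e <;> rw [e]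
      · exact Or.inl rfl
      · exact Or.inr (by group)
    have hnorm : centS S b ≤ normalizer (G₀ : Set G) := fun y hy => mem_normalizer_of_conj_mem fun r hr => by
      have hle : G₀ ≤ G₀.comap (MulAut.conj y).toMonoidHom := (closure_le _).2 (by
        rintro g (rfl | rfl | rfl)
        all_goals
          show y * _ * y⁻¹ ∈ G₀
        · rcases hyx y hy with e | e <;> rw [e]
          exacts [subset_closure (Or.inl rfl), inv_mem (subset_closure (Or.inl rfl))]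
        · rcases hstep x hyx y hy with e | e <;> rw [e]
          exacts [subset_closure (Or.inr (Or.inl rfl)), inv_mem (subset_closure (Or.inr (Or.inl rfl)))]
        · rcases hstep _ (hstep x hyx) y hy with e | e <;> rw [e]
          exacts [subset_closure (Or.inr (Or.inr rfl)), inv_mem (subset_closure (Or.inr (Or.inr rfl)))])
      exact hle hr
    by_cases hodd : Odd (Nat.card G₀)
    · exfalso
      obtain ⟨L, U, cc, -⟩ := Cyc.exists_comp h hb hk
      let C := centralizer ({b} : Set G)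
      let R := (G₀.subgroupOf C).map (pr b)
      have hRo : Odd (Nat.card R) := hodd.of_dvd_nat ((Subgroup.card_map_dvd _ _).trans
        (Nat.card_congr (subgroupOfEquivOfLe (H := G₀) (K := C)
          fun g hg => mem_centralizer_singleton_iff.2 (hG₀b g hg)).toEquiv).dvd)
      have hRn : ∀ {y : G} (hy : y ∈ centS S b), bar (mem_centS.1 hy).2 ∈ normalizer (R : Set (Bar b)) :=
        fun {y} hy => le_normalizer_map (pr b) ⟨⟨y, h.A_le hb hy⟩, mem_normalizer_iff.2 fun r => by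
          simp only [mem_subgroupOf, Subgroup.coe_mul, InvMemClass.coe_inv]
          exact mem_normalizer_iff.1 (hnorm hy) r, rfl⟩
      have hx₁b : x₁ * b = b * x₁ := commute_conj_of hk.comm hxb
      have hx₁o : Odd (orderOf x₁) := by rw [hx₁def, Small.orderOf_conj_eq]; exact hxo
      have hx₁a : x₁ * h.D.a 4 = h.D.a 4 * x₁ := by rw [← hk.kz]; exact conj_comm hxz
      have hx₁z : z * x₁ * z⁻¹ = x₁⁻¹ := by
        have hcx : h.D.a 4 * z * x * (h.D.a 4 * z)⁻¹ = x⁻¹ := by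
          rw [show h.D.a 4 * z * x * (h.D.a 4 * z)⁻¹ = h.D.a 4 * (z * x * z⁻¹) * (h.D.a 4)⁻¹ by group, ← hxz,
            mul_inv_cancel_right, hxa]
        have hc := Cyc.kc h hb hk
        calc z * x₁ * z⁻¹ = k * (h.D.a 4 * z) * k⁻¹ * (k * x * k⁻¹) * (k * (h.D.a 4 * z) * k⁻¹)⁻¹ := by rw [hc]
          _ = k * (h.D.a 4 * z * x * (h.D.a 4 * z)⁻¹) * k⁻¹ := by group
          _ = x₁⁻¹ := by rw [hcx, hx₁def]; group
      refine cc.no_two_tori hRo (hRn (h.zA hb)) (hRn (h.aA hb)) (x := bar hxb) (y := bar hx₁b)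
        ⟨_, mem_subgroupOf.2 (subset_closure (Or.inl rfl)), rfl⟩
        ⟨_, mem_subgroupOf.2 (subset_closure (Or.inr (Or.inl rfl))), rfl⟩ ?_ ?_
        (fun e => hx ((mem_theta_iff hxb).2 e))
        (fun e => hx ?_)
      · exact ⟨odd_orderOf_bar hxb hxo, by rw [bar_mul, bar_mul]; exact bar_congr _ _ hxz,
          (bar_inverted_iff hxb hab).2 (by rw [hxa, inv_mul_cancel]; exact one_mem _)⟩
      · exact ⟨odd_orderOf_bar hx₁b hx₁o, by rw [bar_mul, bar_mul]; exact bar_congr _ _ hx₁a,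
          (bar_inverted_iff hx₁b (h.zb hb)).2 (by rw [hx₁z, inv_mul_cancel]; exact one_mem _)⟩
      · have := CfsgLib.A8Three.map_coreC k⁻¹ b ((mem_theta_iff hx₁b).2 e)
        rwa [inv_inv, hx₁def, show k⁻¹ * (k * x * k⁻¹) * k = x by group,
          show k⁻¹ * b * k = b by rw [mul_assoc, ← hk.comm, inv_mul_cancel_left]] at this
    · haveI : Fact (Nat.Prime 2) := ⟨Nat.prime_two⟩
      obtain ⟨L, hL⟩ := Cyc.exists_ker h hb hk
      have hG₀L : G₀ ≤ L := (closure_le _).2 (by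
        have h1 : x ∈ L := hL.odd_mem x hxb hxo
        rintro g (rfl | rfl | rfl)
        exacts [h1, hL.conj k hk.comm x h1, hL.conj k hk.comm _ (hL.conj k hk.comm x h1)])
      obtain ⟨q, hq⟩ := exists_prime_orderOf_dvd_card' (G := G₀) 2
        (even_iff_two_dvd.1 (Nat.not_odd_iff_even.1 hodd))
      let R := centS S b ⊔ G₀
      have hRb : R ≤ centralizer ({b} : Set G) :=
        sup_le (h.A_le hb) fun g hg => mem_centralizer_singleton_iff.2 (hG₀b g hg)
      obtain ⟨c, hc, hcA⟩ := conj_into (P := centS S b) (H := R) (h.isPGroup_A hb) le_sup_left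
        (fun W hW hle => h.card_le_A hb hW (hle.trans hRb))
        (W := zpowers (q : G)) (IsPGroup.of_card (n := 1) (by
          rw [Nat.card_zpowers, Subgroup.orderOf_coe, hq, pow_one]))
        (zpowers_le.2 (mem_sup_right q.2))
      have hnG : R ≤ normalizer (G₀ : Set G) := sup_le hnorm le_normalizer
      refine ⟨c * q * c⁻¹, (mem_normalizer_iff.1 (hnG hc) _).1 q.2,
        hL.inter _ (hG₀L ((mem_normalizer_iff.1 (hnG hc) _).1 q.2)) (hcA _ (mem_zpowers _)), fun e => ?_⟩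
      rw [conj_eq_one_iff] at e
      rw [show q = 1 from Subtype.ext e, orderOf_one] at hq
      omega
  refine false_of_weights ρ hp2 W (x := ⟨x, memx⟩) (Subtype.ext h.zz) (Subtype.ext hxz) (Subtype.ext hxa)
    ⟨e, Subtype.ext hxe⟩ hx0 hord ?_
  have hgen : G₀ ≤ (Subgroup.closure ({⟨x, memx⟩, ⟨k, memk⟩ * ⟨x, memx⟩ * ⟨k, memk⟩⁻¹,
      ⟨k, memk⟩ * (⟨k, memk⟩ * ⟨x, memx⟩ * ⟨k, memk⟩⁻¹) * ⟨k, memk⟩⁻¹} : Set Γ)).map Γ.subtype := by
    rw [MonoidHom.map_closure]
    refine closure_mono ?_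
    rintro g (rfl | rfl | rfl)
    exacts [⟨_, Or.inl rfl, rfl⟩, ⟨_, Or.inr (Or.inl rfl), rfl⟩, ⟨_, Or.inr (Or.inr rfl), rfl⟩]
  obtain ⟨v', hv', rfl⟩ := hgen hvG
  refine ⟨v', hv', ?_⟩
  rcases hv with e | e | e | e
  · exact absurd e hv1
  · exact Or.inl (Subtype.ext e)
  · exact Or.inr (Or.inl (Subtype.ext e))
  · exact Or.inr (Or.inr (Subtype.ext (e.trans (h.ac 4))))

end Hyp

end CfsgLib.J2Sylow
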