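import Cfsg.Agent.J2Sylow.Shift

/-!
# An abelian section of `O(C(b))` and its distinguished subgroup
-/

set_option autoImplicit false
set_option linter.style.haveILetI false
set_option linter.unusedSectionVars false
set_option maxRecDepth 100000

namespace CfsgLib.J2Sylow

open Subgroup CfsgLib.HallJanko CfsgLib.J2Type
open CfsgLib.A8Three (coreC IsCompl2)

universe u

variable {G : Type u} [Group G] [Finite G]

/-- A layer: `J/J1` is an abelian section of `O(C(b))` invariant under `C(b)`. -/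
structure Layer (b : G) (J J1 : Subgroup G) : Prop where
  le : J ≤ coreC b
  le1 : J1 ≤ J
  conj : ∀ y, y * b = b * y → ∀ n ∈ J, y * n * y⁻¹ ∈ J
  conj1 : ∀ y, y * b = b * y → ∀ n ∈ J1, y * n * y⁻¹ ∈ J1
  comm : ∀ u ∈ J, ∀ v ∈ J, u * v * u⁻¹ * v⁻¹ ∈ J1

namespace Layer

variable {b : G} {J J1 : Subgroup G} (l : Layer b J J1)
include l

theorem cb {n : G} (hn : n ∈ J) : n * b = b * n :=
  mem_centralizer_singleton_iff.1 (CfsgLib.A8Three.coreC_le b (l.le hn))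

theorem odd {n : G} (hn : n ∈ J) : Odd (orderOf n) :=
  CfsgLib.A8Three.odd_orderOf_of_mem (CfsgLib.A8Three.odd_coreC b) (l.le hn)

theorem conjJ {u n : G} (hu : u ∈ J) (hn : n ∈ J1) : u * n * u⁻¹ ∈ J1 := l.conj1 u (l.cb hu) n hn

/-- A subgroup containing a square of an element of `J` contains the element. -/
theorem mem_of_sq {T : Subgroup G} {n : G} (hn : n ∈ J) (h : n * n ∈ T) : n ∈ T := by
  obtain ⟨j, hj⟩ := l.odd hn
  have e : (n * n) ^ (j + 1) = n := by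
    rw [← sq, ← pow_mul, show 2 * (j + 1) = orderOf n + 1 by omega, pow_succ, pow_orderOf_eq_one, one_mul]
  exact e ▸ pow_mem h _

/-- The fixed part of an element under an involution. -/
theorem fixed_part {B : Subgroup G} (hBJ : B ≤ J) {s : G} (hs : s * s = 1)
    (hB : ∀ m ∈ B, s * m * s⁻¹ ∈ B) {n : G} (hn : n ∈ B) :
    ∃ f ∈ B, s * f = f * s ∧ (n * (s * n * s⁻¹))⁻¹ * f ∈ J1 := by
  set M := s * n * s⁻¹ with hM
  have hMs : s * M * s⁻¹ = n := by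
    rw [hM, show s * (s * n * s⁻¹) * s⁻¹ = s * s * n * (s * s)⁻¹ by group, hs, one_mul, inv_one, mul_one]
  have e : (n * M)⁻¹ * (s * (n * M) * s⁻¹) = M⁻¹ * n⁻¹ * M * n := by
    rw [show s * (n * M) * s⁻¹ = s * n * s⁻¹ * (s * M * s⁻¹) by group, ← hM, hMs]
    group
  have hmem : (n * M)⁻¹ * (s * (n * M) * s⁻¹) ∈ B ⊓ J1 := by
    rw [e]
    refine mem_inf.2 ⟨mul_mem (mul_mem (mul_mem (inv_mem (hB n hn)) (inv_mem hn)) (hB n hn)) hn, ?_⟩
    have := l.comm M⁻¹ (inv_mem (hBJ (hB n hn))) n⁻¹ (inv_mem (hBJ hn))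
    rwa [inv_inv, inv_inv] at this
  obtain ⟨r, hr, hc⟩ := exists_fixed_lift (R := B ⊓ J1) ((CfsgLib.A8Three.odd_coreC b).of_dvd_nat
    (card_dvd_of_le ((inf_le_left.trans hBJ).trans l.le))) hs hmem
  exact ⟨n * M * r, mul_mem (mul_mem hn (hB n hn)) hr.1, hc.eq, by rw [inv_mul_cancel_left]; exact hr.2⟩

/-- An element lies in `T ⊇ J1` if its fixed and inverted parts do. -/
theorem mem_of_parts {T : Subgroup G} (hT : J1 ≤ T) {n M f : G} (hn : n ∈ J) (hM : M ∈ J)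
    (hf : (n * M)⁻¹ * f ∈ J1) (h1 : f ∈ T) (h2 : n * M⁻¹ ∈ T) : n ∈ T := by
  refine l.mem_of_sq hn ?_
  have hg : n * M ∈ T := by
    have := mul_mem h1 (inv_mem (hT hf))
    rwa [mul_inv_rev, inv_inv, mul_inv_cancel_left] at this
  have hc : n⁻¹ * (M * n * M⁻¹ * n⁻¹)⁻¹ * n ∈ J1 := by
    have := l.conjJ (inv_mem hn) (inv_mem (l.comm M hM n hn))
    rwa [inv_inv] at this
  rw [show n * n = n * M * (n * M⁻¹) * (n⁻¹ * (M * n * M⁻¹ * n⁻¹)⁻¹ * n) by group]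
  exact mul_mem (mul_mem hg h2) (hT hc)

omit l in
theorem inverted_part {s n : G} (hs : s * s = 1) :
    s * (n * (s * n * s⁻¹)⁻¹) * s⁻¹ = (n * (s * n * s⁻¹)⁻¹)⁻¹ := by
  have hsi : s⁻¹ = s := inv_eq_of_mul_eq_one_left hs
  rw [show (s * n * s⁻¹)⁻¹ = s * n⁻¹ * s⁻¹ by group, mul_inv_rev,
    show (s * n⁻¹ * s⁻¹)⁻¹ = s * n * s⁻¹ by group, hsi]
  calc s * (n * (s * n⁻¹ * s)) * s = s * n * s * n⁻¹ * (s * s) := by group
    _ = s * n * s * n⁻¹ := by rw [hs, mul_one]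

/-- The fixed part of an element inverted by a commuting involution is inverted modulo `J1`. -/
theorem neg_fixed {s t d f : G} (hst : s * t = t * s) (hsb : s * b = b * s) (htb : t * b = b * t)
    (hd : d ∈ J) (hf : f ∈ J) (hdt : t * d * t⁻¹ = d⁻¹) (hfd : (d * (s * d * s⁻¹))⁻¹ * f ∈ J1) :
    t * f * t⁻¹ * f ∈ J1 := by
  set D := s * d * s⁻¹ with hD
  set r := (d * D)⁻¹ * f with hr
  have hDJ : D ∈ J := l.conj s hsb d hd
  have hDt : t * D * t⁻¹ = D⁻¹ := by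
    rw [hD, show t * (s * d * s⁻¹) * t⁻¹ = t * s * d * (t * s)⁻¹ by group, ← hst,
      show s * t * d * (s * t)⁻¹ = s * (t * d * t⁻¹) * s⁻¹ by group, hdt]
    group
  have hfe : f = d * D * r := by rw [hr]; group
  have e : t * f * t⁻¹ * f =
      (d⁻¹ * D⁻¹ * d⁻¹⁻¹ * D⁻¹⁻¹) * ((d * D)⁻¹ * (t * r * t⁻¹) * (d * D) * r) := by
    rw [show t * f * t⁻¹ = (t * d * t⁻¹) * (t * D * t⁻¹) * (t * r * t⁻¹) by rw [hfe]; group, hdt, hDt, hfe]
    group
  rw [e]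
  refine mul_mem (l.comm _ (inv_mem hd) _ (inv_mem hDJ)) (mul_mem ?_ hfd)
  have := l.conjJ (inv_mem (mul_mem hd hDJ)) (l.conj1 t htb r hfd)
  rwa [inv_inv] at this

end Layer

namespace Hyp

variable {S : Sylow 2 G} {z : G} (h : Hyp S z)

/-- The elements of `J` fixed by `v` and centralizing the four-group in `C(bv)` modulo the core. -/
def InP (b : G) (J : Subgroup G) (v n : G) : Prop :=
  n ∈ J ∧ n * v = v * n ∧ ∀ w, Four z (h.D.a 4) w → n * w * n⁻¹ * w⁻¹ ∈ coreC (b * v)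

variable {b : G} {J J1 : Subgroup G}

/-- The subgroup of these elements. -/
def PV (l : Layer b J J1) (v : G) : Subgroup G where
  carrier := {n | h.InP b J v n}
  one_mem' := ⟨one_mem _, (Commute.one_left v).eq, fun w _ => by
    rw [one_mul, inv_one, mul_one, mul_inv_cancel]; exact one_mem _⟩
  mul_mem' := by
    rintro m n ⟨hm, hmv, hm'⟩ ⟨hn, hnv, hn'⟩
    refine ⟨mul_mem hm hn, (Commute.mul_left (hmv : Commute m v) hnv).eq, fun w hw => ?_⟩
    have := mul_mem (CfsgLib.A8Three.conj_mem_coreC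
      ((Commute.mul_right (l.cb hm : Commute m b) hmv).eq) (hn' w hw)) (hm' w hw)
    rwa [show m * (n * w * n⁻¹ * w⁻¹) * m⁻¹ * (m * w * m⁻¹ * w⁻¹) = m * n * w * (m * n)⁻¹ * w⁻¹ by group]
      at this
  inv_mem' := by
    rintro n ⟨hn, hnv, hn'⟩
    refine ⟨inv_mem hn, (Commute.inv_left (hnv : Commute n v)).eq, fun w hw => ?_⟩
    have := CfsgLib.A8Three.conj_mem_coreC
      ((Commute.inv_left (Commute.mul_right (l.cb hn : Commute n b) hnv)).eq) (inv_mem (hn' w hw))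
    rwa [show n⁻¹ * (n * w * n⁻¹ * w⁻¹)⁻¹ * n⁻¹⁻¹ = n⁻¹ * w * n⁻¹⁻¹ * w⁻¹ by group] at this

theorem mem_PV {l : Layer b J J1} {v n : G} : n ∈ h.PV l v ↔ h.InP b J v n := Iff.rfl

/-- The distinguished subgroup `K`. -/
def KK (l : Layer b J J1) (k : G) : Subgroup G :=
  J1 ⊔ (J ⊓ centralizer (fixU S b k : Set G)) ⊔ h.PV l z ⊔ h.PV l (h.D.a 4) ⊔ h.PV l (h.D.a 4 * z)

theorem J1_le_KK (l : Layer b J J1) (k : G) : J1 ≤ h.KK l k :=
  le_sup_of_le_left (le_sup_of_le_left (le_sup_of_le_left le_sup_left))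

theorem centU_le_KK (l : Layer b J J1) (k : G) : J ⊓ centralizer (fixU S b k : Set G) ≤ h.KK l k :=
  le_sup_of_le_left (le_sup_of_le_left (le_sup_of_le_left le_sup_right))

theorem KK_le (l : Layer b J J1) (k : G) : h.KK l k ≤ J :=
  sup_le (sup_le (sup_le (sup_le l.le1 inf_le_left) fun _ hn => hn.1) fun _ hn => hn.1) fun _ hn => hn.1

include h

variable (hb : h.Outside b) {k : G} (hk : h.Cyc b k) (l : Layer b J J1)
include hb

theorem PV_le_KK {v : G} (hv : Four z (h.D.a 4) v) (hv1 : v ≠ 1) : h.PV l v ≤ h.KK l k := by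
  rcases hv with e | rfl | rfl | rfl
  · exact absurd e hv1
  · exact le_sup_of_le_left (le_sup_of_le_left le_sup_right)
  · exact le_sup_of_le_left le_sup_right
  · exact le_sup_right

/-- An element of `J ∩ C(z)` centralizing `a` modulo `O(C(bz))`. -/
theorem inP_z {n : G} (hn : n ∈ J) (hnz : n * z = z * n)
    (hna : n * h.D.a 4 * n⁻¹ * (h.D.a 4)⁻¹ ∈ coreC (b * z)) : n ∈ h.PV l z := by
  have hzb : z * (b * z) = b * z * z := h.A_comm hb (h.zA hb) (h.bz_mem hb)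
  refine ⟨hn, hnz, ?_⟩
  rintro w (rfl | rfl | rfl | rfl)
  · simp [one_mem]
  · rw [hnz]; simp [one_mem]
  · exact hna
  · rw [show n * (h.D.a 4 * z) * n⁻¹ * (h.D.a 4 * z)⁻¹ =
      (n * h.D.a 4 * n⁻¹ * (h.D.a 4)⁻¹) * (h.D.a 4 * (n * z * n⁻¹ * z⁻¹) * (h.D.a 4)⁻¹) by group, hnz]
    simpa using hna

/-- Transport by an element of `C(b)` permuting the four-group. -/
theorem PV_conj {y v n : G} (hy : y * b = b * y)
    (hy4 : ∀ w, Four z (h.D.a 4) w → Four z (h.D.a 4) (y⁻¹ * w * y)) (hn : n ∈ h.PV l v) :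
    y * n * y⁻¹ ∈ h.PV l (y * v * y⁻¹) := by
  refine ⟨l.conj y hy n hn.1, conj_comm hn.2.1, fun w hw => ?_⟩
  have := CfsgLib.A8Three.map_coreC y (b * v) (hn.2.2 _ (hy4 w hw))
  rwa [show y * (b * v) * y⁻¹ = y * b * y⁻¹ * (y * v * y⁻¹) by group, mul_inv_eq_iff_eq_mul.2 hy,
    show y * (n * (y⁻¹ * w * y) * n⁻¹ * (y⁻¹ * w * y)⁻¹) * y⁻¹ = y * n * y⁻¹ * w * (y * n * y⁻¹)⁻¹ * w⁻¹ by group]
    at this

/-- `A` normalizes each of these subgroups. -/
theorem PV_conj_A {y v n : G} (hy : y ∈ centS S b) (hv : Four z (h.D.a 4) v) (hn : n ∈ h.PV l v) :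
    y * n * y⁻¹ ∈ h.PV l v := by
  have := h.PV_conj hb l (mem_centS.1 hy).2 (fun w hw => by
    rwa [mul_assoc, ← h.A_comm hb hy (h.four_mem_A hb hw), inv_mul_cancel_left]) hn
  rwa [h.A_comm hb hy (h.four_mem_A hb hv), mul_inv_cancel_right] at this

/-- An element inverted by `z` in these subgroups lies in `O(C(bv))`. -/
theorem mem_theta_of_PV {v n : G} (hv : Four z (h.D.a 4) v) (hn : n ∈ h.PV l v)
    (hnz : z * n * z⁻¹ = n⁻¹) : n ∈ coreC (b * v) := by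
  refine mem_theta_of_inverted ((Commute.mul_right (l.cb hn.1 : Commute n b) hn.2.1).eq)
    (h.A_comm hb (h.zA hb) (mul_mem (h.bA hb) (h.four_mem_A hb hv))) (l.odd hn.1)
    (hn.2.2 z (Or.inr (Or.inl rfl))) ?_
  rw [hnz, inv_mul_cancel]
  exact one_mem _

include hk

theorem Cyc.four_back {w : G} (hw : Four z (h.D.a 4) w) : Four z (h.D.a 4) (k⁻¹ * w * k) := by
  have e1 : k⁻¹ * z * k = h.D.a 4 * z := by
    calc k⁻¹ * z * k = k⁻¹ * (k * (h.D.a 4 * z) * k⁻¹) * k := by rw [Cyc.kc h hb hk]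
      _ = _ := by group
  have e2 : k⁻¹ * h.D.a 4 * k = z := by
    calc k⁻¹ * h.D.a 4 * k = k⁻¹ * (k * z * k⁻¹) * k := by rw [hk.kz]
      _ = _ := by group
  have e3 : k⁻¹ * (h.D.a 4 * z) * k = h.D.a 4 := by
    calc k⁻¹ * (h.D.a 4 * z) * k = k⁻¹ * (k * h.D.a 4 * k⁻¹) * k := by rw [hk.ka]
      _ = _ := by group
  rcases hw with rfl | rfl | rfl | rfl
  · exact Or.inl (by group)
  · exact Or.inr (Or.inr (Or.inr e1))
  · exact Or.inr (Or.inl e2)
  · exact Or.inr (Or.inr (Or.inl e3))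

theorem Cyc.PV_step {v n : G} (hn : n ∈ h.PV l v) : k * n * k⁻¹ ∈ h.PV l (k * v * k⁻¹) :=
  h.PV_conj hb l hk.comm (fun _ hw => Cyc.four_back h hb hk hw) hn

/-- The elements of `J1` fixed by `v` belong to `PV v`, if this holds for `z`. -/
theorem Cyc.J1_PV (good : ∀ n ∈ J1, n * z = z * n → n * h.D.a 4 * n⁻¹ * (h.D.a 4)⁻¹ ∈ coreC (b * z))
    {v n : G} (hv : Four z (h.D.a 4) v) (hv1 : v ≠ 1) (hn : n ∈ J1) (hnv : n * v = v * n) :
    n ∈ h.PV l v := by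
  have base : ∀ m ∈ J1, m * z = z * m → m ∈ h.PV l z := fun m hm hmz =>
    h.inP_z hb l (l.le1 hm) hmz (good m hm hmz)
  have hki : k⁻¹ * b = b * k⁻¹ := (Commute.inv_left (hk.comm : Commute k b)).eq
  have step : ∀ v', (∀ m ∈ J1, m * v' = v' * m → m ∈ h.PV l v') →
      ∀ m ∈ J1, m * (k * v' * k⁻¹) = k * v' * k⁻¹ * m → m ∈ h.PV l (k * v' * k⁻¹) := by
    intro v' ih m hm hmv
    have h1 : k⁻¹ * m * k ∈ J1 := by simpa using l.conj1 k⁻¹ hki m hm
    have := Cyc.PV_step h hb hk l (ih _ h1 (commute_conj_iff.2 hmv))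
    rwa [show k * (k⁻¹ * m * k) * k⁻¹ = m by group] at this
  have sa := step z base
  rw [hk.kz] at sa
  have sc := step _ sa
  rw [hk.ka] at sc
  rcases hv with e | rfl | rfl | rfl
  · exact absurd e hv1
  exacts [base n hn hnv, sa n hn hnv, sc n hn hnv]

end Hyp

end CfsgLib.J2Sylow
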