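import Cfsg.Agent.J2Sylow.Signal

/-!
# The centralizer of an involution outside `Q` that is not conjugate to `z`
-/

set_option autoImplicit false
set_option linter.style.haveILetI false
set_option linter.unusedSectionVars false
set_option maxRecDepth 100000

namespace CfsgLib.J2Sylow

open Subgroup CfsgLib.HallJanko CfsgLib.J2Type
open CfsgLib.A8Three (coreC IsCompl2)

universe u

variable {G : Type u} [Group G] [Finite G]

/-- The centralizer of `b` in `S`. -/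
def centS (S : Sylow 2 G) (b : G) : Subgroup G := (S : Subgroup G) ⊓ centralizer ({b} : Set G)

theorem mem_centS {S : Sylow 2 G} {b x : G} : x ∈ centS S b ↔ x ∈ (S : Subgroup G) ∧ x * b = b * x :=
  mem_inf.trans (and_congr_right fun _ => mem_centralizer_singleton_iff)

/-- A four-group of involutions has all its elements among `1, z, a, az`. -/
def Four (z a x : G) : Prop := x = 1 ∨ x = z ∨ x = a ∨ x = a * z

/-- The four-group as a function. -/
def fourFun (z a : G) : Fin 4 → G := ![1, z, a, a * z]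

theorem four_fun (z a : G) (j : Fin 4) : Four z a (fourFun z a j) := by
  fin_cases j
  exacts [Or.inl rfl, Or.inr (Or.inl rfl), Or.inr (Or.inr (Or.inl rfl)), Or.inr (Or.inr (Or.inr rfl))]

namespace Hyp

variable {S : Sylow 2 G} {z : G} (h : Hyp S z)

/-- The element `b` is an involution of `S` outside `Q` not conjugate to `z`. -/
structure Outside (b : G) : Prop where
  mem : b ∈ (S : Subgroup G)
  sq : b * b = 1
  notQ : b ∉ h.D.Q
  nc : ¬ IsConj z b

include h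

theorem sq_a4z : h.D.a 4 * z * (h.D.a 4 * z) = 1 := h.az_sq 4

theorem four_mem_Q {x : G} (hx : Four z (h.D.a 4) x) : x ∈ h.D.Q := by
  rcases hx with rfl | rfl | rfl | rfl
  exacts [one_mem _, h.D.zQ, h.D.mem 4, mul_mem (h.D.mem 4) h.D.zQ]

theorem four_sq {x : G} (hx : Four z (h.D.a 4) x) : x * x = 1 := by
  rcases hx with rfl | rfl | rfl | rfl
  exacts [one_mul 1, h.zz, h.D.sq 4, h.az_sq 4]

theorem four_conj {x : G} (hx : Four z (h.D.a 4) x) (hx1 : x ≠ 1) : IsConj z x := by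
  rcases hx with e | rfl | rfl | rfl
  · exact absurd e hx1
  · exact IsConj.refl _
  · exact h.conj_of_Eqz (j := 4) (Or.inl rfl)
  · exact h.conj_of_Eqz (j := 4) (Or.inr rfl)

variable {b : G} (hb : h.Outside b)
include hb

theorem b1 : b ≠ 1 := fun e => hb.notQ (e ▸ one_mem _)

theorem outside_all {x : G} (hx : x ∈ (S : Subgroup G)) (hx2 : x * x = 1) (hxQ : x ∉ h.D.Q) :
    h.Outside x := ⟨hx, hx2, hxQ, fun e => by
  obtain ⟨c, -, hc⟩ := h.exists_outside_conj hx hx2 hxQ hb.mem hb.sq hb.notQ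
  exact hb.nc (e.trans (isConj_iff.2 ⟨c, hc⟩))⟩

theorem card_A : Nat.card (centS S b) = 16 := h.D.cent_card b hb.mem hb.sq hb.notQ

theorem A_sq {x : G} (hx : x ∈ centS S b) : x * x = 1 :=
  (h.outside_facts hb.mem hb.sq hb.notQ).2 x hx.1 (mem_centS.1 hx).2

theorem A_comm {x y : G} (hx : x ∈ centS S b) (hy : y ∈ centS S b) : x * y = y * x := by
  calc x * y = (x * y)⁻¹ := (inv_eq_of_mul_eq_one_left (h.A_sq hb (mul_mem hx hy))).symm
    _ = y * x := by
      rw [mul_inv_rev, inv_eq_of_mul_eq_one_left (h.A_sq hb hx), inv_eq_of_mul_eq_one_left (h.A_sq hb hy)]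

theorem bA : b ∈ centS S b := mem_centS.2 ⟨hb.mem, rfl⟩
theorem zA : z ∈ centS S b := mem_centS.2 ⟨h.zS, (h.Sc hb.mem).symm⟩
theorem aA : h.D.a 4 ∈ centS S b :=
  mem_centS.2 ⟨h.D.Q_le (h.D.mem 4), (h.outside_facts hb.mem hb.sq hb.notQ).1⟩

theorem four_mem_A {x : G} (hx : Four z (h.D.a 4) x) : x ∈ centS S b := by
  rcases hx with rfl | rfl | rfl | rfl
  exacts [one_mem _, h.zA hb, h.aA hb, mul_mem (h.aA hb) (h.zA hb)]

theorem four_of_mem_Q {x : G} (hx : x ∈ centS S b) (hxQ : x ∈ h.D.Q) : Four z (h.D.a 4) x := by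
  rcases h.D.cent_Q hb.mem hb.sq hb.notQ hxQ (mem_centS.1 hx).2 with (e | e) | (e | e)
  · exact Or.inl e
  · exact Or.inr (Or.inl (e.trans (one_mul z)))
  · exact Or.inr (Or.inr (Or.inl e))
  · exact Or.inr (Or.inr (Or.inr e))

/-- The elements conjugate to `z` in `A` form the four-group. -/
theorem four_of_conj {x : G} (hx : x ∈ centS S b) (hc : IsConj z x) : Four z (h.D.a 4) x :=
  h.four_of_mem_Q hb hx (by_contra fun hxQ => (h.outside_all hb hx.1 (h.A_sq hb hx) hxQ).nc hc)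

theorem cent_eq {x : G} (hxA : x ∈ centS S b) (hxQ : x ∉ h.D.Q) : centS S x = centS S b := by
  have hx := h.outside_all hb hxA.1 (h.A_sq hb hxA) hxQ
  refine (Subgroup.eq_of_le_of_card_ge
    (show centS S b ≤ centS S x from fun y hy => mem_centS.2 ⟨hy.1, h.A_comm hb hy hxA⟩) ?_).symm
  rw [h.card_A hx, h.card_A hb]

/-- A 2-subgroup centralizing `b` has order at most 16. -/
theorem card_le_A {P : Subgroup G} (hP : IsPGroup 2 P) (hPb : P ≤ centralizer ({b} : Set G)) :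
    Nat.card P ≤ Nat.card (centS S b) := by
  haveI : Fact (Nat.Prime 2) := ⟨Nat.prime_two⟩
  have hbp : IsPGroup 2 (zpowers b) := IsPGroup.of_card (n := 1) (by
    rw [Nat.card_zpowers, orderOf_eq_prime (by rw [pow_two, hb.sq]) (h.b1 hb), pow_one])
  have hbn : zpowers b ≤ normalizer (P : Set G) := zpowers_le.2
    (centralizer_le_normalizer _ (mem_centralizer_iff.2 fun p hp => mem_centralizer_singleton_iff.1 (hPb hp)))
  obtain ⟨R, hR⟩ := (hP.to_sup_of_normal_left' hbp hbn).exists_le_sylow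
  obtain ⟨g, hg⟩ := MulAction.exists_smul_eq G R S
  have hmem : ∀ x ∈ P ⊔ zpowers b, g * x * g⁻¹ ∈ (S : Subgroup G) := fun x hx => by
    rw [← hg]; exact ⟨x, hR hx, rfl⟩
  have hb' := hmem b (mem_sup_right (mem_zpowers b))
  have hb2 : g * b * g⁻¹ * (g * b * g⁻¹) = 1 := by
    rw [show g * b * g⁻¹ * (g * b * g⁻¹) = g * (b * b) * g⁻¹ by group, hb.sq, mul_one, mul_inv_cancel]
  have hb'Q : g * b * g⁻¹ ∉ h.D.Q := h.not_mem_Q_of_not_conj hb' hb2
    (fun e => h.b1 hb (conj_eq_one_iff.1 e)) fun e => hb.nc (e.trans (isConj_iff.2 ⟨g, rfl⟩).symm)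
  rw [h.card_A hb, ← card_conjSub g P, ← h.D.cent_card _ hb' hb2 hb'Q]
  refine Subgroup.card_le_of_le fun x hx => ?_
  rw [mem_conjSub] at hx
  have e := hmem _ (mem_sup_left hx)
  rw [show g * (g⁻¹ * x * g) * g⁻¹ = x by group] at e
  exact ⟨e, mem_centralizer_singleton_iff.2 (commute_conj_iff.1 (mem_centralizer_singleton_iff.1 (hPb hx)))⟩

theorem A_le : centS S b ≤ centralizer ({b} : Set G) := inf_le_right

theorem isPGroup_A : IsPGroup 2 (centS S b) := S.isPGroup'.to_le inf_le_left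

/-- A 2-subgroup of `C(b)` is conjugate into `A`. -/
theorem conj_into_A {P : Subgroup G} (hP : IsPGroup 2 P) (hPb : P ≤ centralizer ({b} : Set G)) :
    ∃ c, c * b = b * c ∧ ∀ p ∈ P, c * p * c⁻¹ ∈ centS S b := by
  obtain ⟨c, hc, hcP⟩ := conj_into (h.isPGroup_A hb) (h.A_le hb)
    (fun W hW hle => h.card_le_A hb hW hle) hP hPb
  exact ⟨c, mem_centralizer_singleton_iff.1 hc, hcP⟩

omit hb in
/-- `C(w) ∩ C(u) = (O(C(w)) ∩ C(u)) E` for `w` conjugate to `z`, `u` not, `E` elementary of order 16. -/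
theorem decomp {w u : G} (hw : IsConj z w) (hu2 : u * u = 1) (hu1 : u ≠ 1) (hu : ¬ IsConj z u)
    {E : Subgroup G} (hE : Nat.card E = 16) (hEsq : ∀ x ∈ E, x * x = 1) (huE : u ∈ E)
    (hEw : ∀ x ∈ E, x * w = w * x) {y : G} (hyw : y * w = w * y) (hyu : y * u = u * y) :
    ∃ α ∈ E, y * α⁻¹ ∈ coreC w ∧ y * α⁻¹ * u = u * (y * α⁻¹) := by
  classical
  obtain ⟨g, rfl⟩ := isConj_iff.1 hw
  obtain ⟨QX, hP, hc, -⟩ := h.quot'
  have hpull : ∀ {x : G}, x * (g * z * g⁻¹) = g * z * g⁻¹ * x → g⁻¹ * x * g * z = z * (g⁻¹ * x * g) :=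
    fun {x} e => commute_conj_iff.2 e
  have huw := hEw u huE
  have hu' := hpull huw
  have hu'2 : g⁻¹ * u * g * (g⁻¹ * u * g) = 1 := by
    rw [show g⁻¹ * u * g * (g⁻¹ * u * g) = g⁻¹ * (u * u) * g by group, hu2, mul_one, inv_mul_cancel]
  have houtX : bar hu' ∉ QX := by
    intro hin
    obtain ⟨r, -, l, e⟩ := h.exists_conj_a hP hc hu' hu'2
      (fun e => hu1 (by rw [show u = g * (g⁻¹ * u * g) * g⁻¹ by group, e]; group))
      (fun e => hu (isConj_iff.2 ⟨g, by rw [show g * z * g⁻¹ = g * (g⁻¹ * u * g) * g⁻¹ by rw [e]]; group⟩)) hin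
    exact hu ((h.conj_of_Eqz e).trans (isConj_iff.2 ⟨g * r⁻¹, by group⟩))
  have hsq' : bar hu' * bar hu' = 1 := by
    rw [bar_mul, ← mem_theta_iff]; show g⁻¹ * u * g * (g⁻¹ * u * g) ∈ _; rw [hu'2]; exact one_mem _
  have h16 := card_centralizer_outside hP hc hsq' houtX
  have hcom : ∀ x ∈ E, ∀ x' ∈ E, x * x' = x' * x := fun x hx x' hx' => by
    calc x * x' = (x * x')⁻¹ := (inv_eq_of_mul_eq_one_left (hEsq _ (mul_mem hx hx'))).symm
      _ = x' * x := by
        rw [mul_inv_rev, inv_eq_of_mul_eq_one_left (hEsq x hx), inv_eq_of_mul_eq_one_left (hEsq x' hx')]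
  let f : E → centralizer ({bar hu'} : Set (Bar z)) := fun x => ⟨bar (hpull (hEw x x.2)),
    mem_centralizer_singleton_iff.2 (by
      rw [bar_mul, bar_mul]
      refine bar_congr _ _ ?_
      rw [show g⁻¹ * (x : G) * g * (g⁻¹ * u * g) = g⁻¹ * ((x : G) * u) * g by group, hcom x x.2 u huE]
      group)⟩
  have hinj : Function.Injective f := by
    intro x x' e
    have e1 : bar (hpull (hEw x x.2)) = bar (hpull (hEw x' x'.2)) := congrArg Subtype.val e
    have h1 := A8Three.map_coreC g z ((bar_eq_iff _ _).1 e1)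
    rw [show g * ((g⁻¹ * (x : G) * g)⁻¹ * (g⁻¹ * x' * g)) * g⁻¹ = (x : G)⁻¹ * x' by group] at h1
    exact Subtype.ext (inv_mul_eq_one.1 (eq_one_of_sq_theta h1
      (hEsq _ (mul_mem (inv_mem x.2) x'.2))))
  have hsurj := (Function.Injective.bijective_of_nat_card_le hinj (by rw [h16, hE])).surjective
  obtain ⟨α, hα⟩ := hsurj ⟨bar (hpull hyw), mem_centralizer_singleton_iff.2 (by
    rw [bar_mul, bar_mul]
    refine bar_congr _ _ ?_
    rw [show g⁻¹ * y * g * (g⁻¹ * u * g) = g⁻¹ * (y * u) * g by group, hyu]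
    group)⟩
  have e1 : bar (hpull (hEw α α.2)) = bar (hpull hyw) := congrArg Subtype.val hα
  have h1 := A8Three.map_coreC g z ((bar_eq_iff _ _).1 e1)
  rw [show g * ((g⁻¹ * (α : G) * g)⁻¹ * (g⁻¹ * y * g)) * g⁻¹ = (α : G)⁻¹ * y by group] at h1
  refine ⟨α, α.2, ?_, ((Commute.mul_left (a := y) hyu
    (Commute.inv_left (a := (α : G)) (hcom α α.2 u huE)))).eq⟩
  have h2 := A8Three.conj_mem_coreC (u := g * z * g⁻¹) (hEw α α.2) h1
  rwa [show (α : G) * ((α : G)⁻¹ * y) * (α : G)⁻¹ = y * (α : G)⁻¹ by group] at h2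

/-- Decomposition of the centralizer of `b` and an element of the four-group. -/
theorem decomp_A {w : G} (hw : Four z (h.D.a 4) w) (hw1 : w ≠ 1) {y : G} (hyw : y * w = w * y)
    (hyb : y * b = b * y) :
    ∃ α ∈ centS S b, y * α⁻¹ ∈ coreC w ∧ y * α⁻¹ * b = b * (y * α⁻¹) :=
  h.decomp (h.four_conj hw hw1) hb.sq (h.b1 hb) hb.nc (h.card_A hb) (fun x hx => h.A_sq hb hx) (h.bA hb)
    (fun x hx => h.A_comm hb hx (h.four_mem_A hb hw)) hyw hyb

/-- An element normalizing `A` which centralizes an element of the four-group centralizes `A`. -/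
theorem centralizes_of_fix {n w : G} (hnb : n * b = b * n) (hn : ∀ x ∈ centS S b, n * x * n⁻¹ ∈ centS S b)
    (hw : Four z (h.D.a 4) w) (hw1 : w ≠ 1) (hnw : n * w = w * n) :
    ∀ x ∈ centS S b, n * x = x * n := by
  obtain ⟨α, hα, hr, -⟩ := h.decomp_A hb hw hw1 hnw hnb
  intro x hx
  have h1 : n * α⁻¹ * x * (n * α⁻¹)⁻¹ ∈ centS S b := by
    have := hn _ hx
    rwa [show n * α⁻¹ * x * (n * α⁻¹)⁻¹ = n * (α⁻¹ * x * α) * n⁻¹ by group,
      show α⁻¹ * x * α = x by rw [mul_assoc, h.A_comm hb hx hα, inv_mul_cancel_left]]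
  have h2 : n * α⁻¹ * x * (n * α⁻¹)⁻¹ * x⁻¹ ∈ coreC w := by
    rw [show n * α⁻¹ * x * (n * α⁻¹)⁻¹ * x⁻¹ = n * α⁻¹ * (x * (n * α⁻¹)⁻¹ * x⁻¹) by group]
    exact mul_mem hr (A8Three.conj_mem_coreC (h.A_comm hb hx (h.four_mem_A hb hw)) (inv_mem hr))
  have h3 := eq_one_of_sq_theta h2 (h.A_sq hb (mul_mem h1 (inv_mem hx)))
  rw [mul_inv_eq_one, mul_inv_eq_iff_eq_mul] at h3
  calc n * x = n * α⁻¹ * (α * x) := by group
    _ = n * α⁻¹ * x * α := by rw [h.A_comm hb hα hx]; group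
    _ = x * (n * α⁻¹) * α := by rw [h3]
    _ = x * n := by group

/-- An element cycling the four-group. -/
structure Cyc (b k : G) : Prop where
  comm : k * b = b * k
  norm : ∀ x ∈ centS S b, k * x * k⁻¹ ∈ centS S b
  kz : k * z * k⁻¹ = h.D.a 4
  ka : k * h.D.a 4 * k⁻¹ = h.D.a 4 * z

theorem maps_four {n w : G} (hn : ∀ x ∈ centS S b, n * x * n⁻¹ ∈ centS S b) (hw : Four z (h.D.a 4) w) :
    Four z (h.D.a 4) (n * w * n⁻¹) := by
  by_cases hw1 : w = 1
  · exact Or.inl (by rw [hw1, mul_one, mul_inv_cancel])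
  · exact h.four_of_conj hb (hn _ (h.four_mem_A hb hw))
      ((h.four_conj hw hw1).trans (isConj_iff.2 ⟨n, rfl⟩))

theorem cz : h.D.a 4 ≠ z ∧ h.D.a 4 * z ≠ z ∧ h.D.a 4 * z ≠ h.D.a 4 ∧ h.D.a 4 * z ≠ 1 :=
  ⟨h.D.ne_z 4, fun e => h.D.ne_one 4 (mul_eq_right.1 e), fun e => h.z1 (mul_eq_left.1 e), fun e =>
    h.D.ne_z 4 ((eq_inv_of_mul_eq_one_left e).trans (inv_eq_of_mul_eq_one_left h.zz))⟩

theorem four_inj : Function.Injective (fourFun z (h.D.a 4)) := by
  obtain ⟨h1, h2, h3, h4⟩ := h.cz hb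
  intro j j' e
  fin_cases j <;> fin_cases j' <;> simp [fourFun] at e ⊢ <;>
    first
    | exact h.z1 e.symm
    | exact h.z1 e
    | exact h.D.ne_one 4 e.symm
    | exact h.D.ne_one 4 e
    | exact h4 e.symm
    | exact h4 e
    | exact h1 e
    | exact h1 e.symm
    | exact h2 e
    | exact h2 e.symm
    | exact h3 e
    | exact h3 e.symm

/-- An element of `C(b)` normalizing `A` centralizes it, or it or its square cycles the four-group. -/
theorem norm_cases {n : G} (hnb : n * b = b * n) (hn : ∀ x ∈ centS S b, n * x * n⁻¹ ∈ centS S b) :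
    (∀ x ∈ centS S b, n * x = x * n) ∨ h.Cyc b n ∨ (h.Cyc b (n * n) ∧ n * n * n * z = z * (n * n * n)) := by
  by_cases hc : ∀ x ∈ centS S b, n * x = x * n
  · exact Or.inl hc
  push Not at hc
  obtain ⟨x, hx, hnx⟩ := hc
  right
  have hfix : ∀ w, Four z (h.D.a 4) w → w ≠ 1 → n * w * n⁻¹ ≠ w := fun w hw hw1 e =>
    hnx (h.centralizes_of_fix hb hnb hn hw hw1 (mul_inv_eq_iff_eq_mul.1 e) x hx)
  obtain ⟨h1, h2, h3, h4⟩ := h.cz hb
  have hne1 : ∀ {s : G}, s ≠ 1 → n * s * n⁻¹ ≠ 1 := fun hs e => hs (conj_eq_one_iff.1 e)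
  have fz : Four z (h.D.a 4) z := Or.inr (Or.inl rfl)
  have fa : Four z (h.D.a 4) (h.D.a 4) := Or.inr (Or.inr (Or.inl rfl))
  have fc : Four z (h.D.a 4) (h.D.a 4 * z) := Or.inr (Or.inr (Or.inr rfl))
  rcases h.maps_four hb hn fz with e | e | e | e
  · exact absurd e (hne1 h.z1)
  · exact absurd e (hfix z fz h.z1)
  · refine Or.inl ⟨hnb, hn, e, ?_⟩
    rcases h.maps_four hb hn fa with e' | e' | e' | e'
    · exact absurd e' (hne1 (h.D.ne_one 4))
    · exfalso
      refine hfix _ fc h4 ?_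
      rw [show n * (h.D.a 4 * z) * n⁻¹ = (n * h.D.a 4 * n⁻¹) * (n * z * n⁻¹) by group, e', e, ← h.ac 4]
    · exact absurd e' (hfix _ fa (h.D.ne_one 4))
    · exact e'
  · have e' : n * (h.D.a 4 * z) * n⁻¹ = h.D.a 4 := by
      rcases h.maps_four hb hn fc with e' | e' | e' | e'
      · exact absurd e' (hne1 h4)
      · exfalso
        refine hfix _ fa (h.D.ne_one 4) ?_
        calc n * h.D.a 4 * n⁻¹ = n * (h.D.a 4 * z * z) * n⁻¹ := by rw [mul_assoc (h.D.a 4), h.zz, mul_one]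
          _ = n * (h.D.a 4 * z) * n⁻¹ * (n * z * n⁻¹) := by group
          _ = h.D.a 4 := by rw [e', e, ← mul_assoc, ← h.ac 4, mul_assoc, h.zz, mul_one]
      · exact e'
      · exact absurd e' (hfix _ fc h4)
    have e'' : n * h.D.a 4 * n⁻¹ = z := by
      calc n * h.D.a 4 * n⁻¹ = n * (h.D.a 4 * z * z) * n⁻¹ := by rw [mul_assoc (h.D.a 4), h.zz, mul_one]
        _ = n * (h.D.a 4 * z) * n⁻¹ * (n * z * n⁻¹) := by group
        _ = z := by rw [e', e, ← mul_assoc, h.D.sq, one_mul]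
    refine Or.inr ⟨⟨(Commute.mul_left (a := n) (b := n) (c := b) hnb hnb).eq, fun x hx => ?_, ?_, ?_⟩, ?_⟩
    · rw [show n * n * x * (n * n)⁻¹ = n * (n * x * n⁻¹) * n⁻¹ by group]
      exact hn _ (hn _ hx)
    · rw [show n * n * z * (n * n)⁻¹ = n * (n * z * n⁻¹) * n⁻¹ by group, e, e']
    · rw [show n * n * h.D.a 4 * (n * n)⁻¹ = n * (n * h.D.a 4 * n⁻¹) * n⁻¹ by group, e'', e]
    · rw [← mul_inv_eq_iff_eq_mul,
        show n * n * n * z * (n * n * n)⁻¹ = n * (n * (n * z * n⁻¹) * n⁻¹) * n⁻¹ by group, e, e', e'']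

/-- The alternatives. -/
theorem alternatives : IsCompl2 (centralizer ({b} : Set G)) (centS S b) (coreC b) ∨ ∃ k, h.Cyc b k := by
  classical
  haveI : Fact (Nat.Prime 2) := ⟨Nat.prime_two⟩
  by_cases hall : ∀ n, n * b = b * n → (∀ x ∈ centS S b, n * x * n⁻¹ ∈ centS S b) →
      ∀ x ∈ centS S b, n * x = x * n
  · left
    obtain ⟨O, hO⟩ := A8Three.exists_compl_of_abelian (h.A_le hb) (h.isPGroup_A hb)
      (fun R hRC hR hle => le_of_eq (Subgroup.eq_of_le_of_card_ge hle (h.card_le_A hb hR hRC)).symm)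
      (fun n hn hns x hx => hall n (mem_centralizer_singleton_iff.1 hn) (fun y hy => (hns y).1 hy) x hx)
    have hOb : O ≤ coreC b := A8Three.le_coreC hO.le hO.odd fun y hy o ho =>
      hO.conj y (mem_centralizer_singleton_iff.2 hy) o ho
    exact
      { le := A8Three.coreC_le b
        odd := A8Three.odd_coreC b
        conj := fun y hy o ho => A8Three.conj_mem_coreC (mem_centralizer_singleton_iff.1 hy) ho
        decomp := fun y hy => by
          obtain ⟨o, ho, q, hq, e⟩ := hO.decomp y hy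
          exact ⟨o, hOb ho, q, hq, e⟩
        mem_of_odd := fun y hy ho => hOb (hO.mem_of_odd y hy ho) }
  · right
    push Not at hall
    obtain ⟨n, hnb, hn, x, hx, hnx⟩ := hall
    rcases h.norm_cases hb hnb hn with e | e | ⟨e, -⟩
    exacts [absurd (e x hx) hnx, ⟨_, e⟩, ⟨_, e⟩]

variable {k : G} (hk : h.Cyc b k)
include hk

theorem Cyc.kc : k * (h.D.a 4 * z) * k⁻¹ = z := by
  rw [show k * (h.D.a 4 * z) * k⁻¹ = (k * h.D.a 4 * k⁻¹) * (k * z * k⁻¹) by group, hk.ka, hk.kz,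
    mul_assoc, ← h.ac 4, ← mul_assoc, h.D.sq, one_mul]

theorem Cyc.cube {x : G} (hx : x ∈ centS S b) : k * (k * (k * x * k⁻¹) * k⁻¹) * k⁻¹ = x := by
  have h3 : k * k * k * z = z * (k * k * k) := by
    rw [← mul_inv_eq_iff_eq_mul, show k * k * k * z * (k * k * k)⁻¹ = k * (k * (k * z * k⁻¹) * k⁻¹) * k⁻¹ by group,
      hk.kz, hk.ka, Cyc.kc h hb hk]
  have := h.centralizes_of_fix hb (n := k * k * k)
    (Commute.mul_left (a := k * k) (b := k) (c := b) (Commute.mul_left (a := k) hk.comm hk.comm) hk.comm).eq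
    (fun y hy => by
      rw [show k * k * k * y * (k * k * k)⁻¹ = k * (k * (k * y * k⁻¹) * k⁻¹) * k⁻¹ by group]
      exact hk.norm _ (hk.norm _ (hk.norm _ hy)))
    (Or.inr (Or.inl rfl)) h.z1 h3 x hx
  calc k * (k * (k * x * k⁻¹) * k⁻¹) * k⁻¹ = k * k * k * x * (k * k * k)⁻¹ := by group
    _ = x := by rw [this, mul_inv_cancel_right]

/-- The fixed points of `k` on `A`. -/
def fixU (S : Sylow 2 G) (b k : G) : Subgroup G := centS S b ⊓ centralizer ({k} : Set G)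

theorem Cyc.disjoint {x : G} (hx : x ∈ fixU S b k) (hxQ : x ∈ h.D.Q) : x = 1 := by
  have hxk : k * x * k⁻¹ = x := mul_inv_eq_iff_eq_mul.2 (mem_centralizer_singleton_iff.1 hx.2).symm
  obtain ⟨h1, h2, h3, -⟩ := h.cz hb
  rcases h.four_of_mem_Q hb hx.1 hxQ with e | rfl | rfl | rfl
  · exact e
  · exact absurd (hk.kz.symm.trans hxk) h1
  · exact absurd (hk.ka.symm.trans hxk) h3
  · exact absurd ((Cyc.kc h hb hk).symm.trans hxk).symm h2

theorem Cyc.bU : b ∈ fixU S b k :=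
  ⟨h.bA hb, mem_centralizer_singleton_iff.2 hk.comm.symm⟩

theorem Cyc.outside {x : G} (hx : x ∈ fixU S b k) (hx1 : x ≠ 1) : x ∉ h.D.Q :=
  fun hQ => hx1 (Cyc.disjoint h hb hk hx hQ)

theorem Cyc.prod_inj : Function.Injective fun p : fixU S b k × Fin 4 =>
    (⟨(p.1 : G) * fourFun z (h.D.a 4) p.2,
      mul_mem p.1.2.1 (h.four_mem_A hb (four_fun z (h.D.a 4) p.2))⟩ : centS S b) := by
  rintro ⟨x, j⟩ ⟨x', j'⟩ e
  have e' : (x : G) * fourFun z (h.D.a 4) j = x' * fourFun z (h.D.a 4) j' := congrArg Subtype.val e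
  have hxx : (x : G)⁻¹ * x' = fourFun z (h.D.a 4) j * (fourFun z (h.D.a 4) j')⁻¹ := by
    rw [eq_mul_inv_iff_mul_eq, mul_assoc, inv_mul_eq_iff_eq_mul, e']
  have h1' : (x : G)⁻¹ * x' = 1 := Cyc.disjoint h hb hk (mul_mem (inv_mem x.2) x'.2)
    (hxx ▸ mul_mem (h.four_mem_Q (four_fun z _ j)) (inv_mem (h.four_mem_Q (four_fun z _ j'))))
  obtain rfl : x = x' := Subtype.ext (inv_mul_eq_one.1 h1')
  exact Prod.ext rfl (h.four_inj hb (mul_left_cancel e'))

theorem Cyc.card_U : Nat.card (fixU S b k) = 4 := by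
  classical
  haveI : Fact (Nat.Prime 3) := ⟨Nat.prime_three⟩
  haveI : Fact (Nat.Prime 2) := ⟨Nat.prime_two⟩
  let A := centS S b
  have hinv : ∀ x ∈ A, k⁻¹ * x * k ∈ A := fun x hx => by
    have := hk.norm _ (hk.norm _ hx)
    rwa [show k * (k * x * k⁻¹) * k⁻¹ = k⁻¹ * (k * (k * (k * x * k⁻¹) * k⁻¹) * k⁻¹) * k by group,
      Cyc.cube h hb hk hx] at this
  let e : A ≃ A :=
    { toFun := fun x => ⟨k * x * k⁻¹, hk.norm _ x.2⟩
      invFun := fun x => ⟨k⁻¹ * x * k, hinv _ x.2⟩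
      left_inv := fun x => Subtype.ext (by show k⁻¹ * (k * (x : G) * k⁻¹) * k = x; group)
      right_inv := fun x => Subtype.ext (by show k * (k⁻¹ * (x : G) * k) * k⁻¹ = x; group) }
  let K : Subgroup (Equiv.Perm A) := zpowers e
  have he3 : e ^ 3 = 1 := Equiv.ext fun x => Subtype.ext (Cyc.cube h hb hk x.2)
  have hK : IsPGroup 3 K := by
    rintro ⟨g, i, rfl⟩
    refine ⟨1, Subtype.ext ?_⟩
    show (e ^ i) ^ 3 ^ 1 = 1
    rw [pow_one, ← zpow_natCast, ← zpow_mul, mul_comm, zpow_mul, zpow_natCast, he3, one_zpow]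
  have hmod := hK.card_modEq_card_fixedPoints (α := A)
  have hfix : Nat.card (MulAction.fixedPoints K A) = Nat.card (fixU S b k) := by
    refine Nat.card_congr
      { toFun := fun x => ⟨(x.1 : G), x.1.2, mem_centralizer_singleton_iff.2 (mul_inv_eq_iff_eq_mul.1
          (congrArg Subtype.val (x.2 ⟨e, mem_zpowers e⟩))).symm⟩
        invFun := fun x => ⟨⟨(x : G), x.2.1⟩, fun g => by
          obtain ⟨g, hg⟩ := g
          have : g ∈ MulAction.stabilizer (Equiv.Perm A) (⟨(x : G), x.2.1⟩ : A) := by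
            refine zpowers_le.2 ?_ hg
            exact Subtype.ext (mul_inv_eq_iff_eq_mul.2 (mem_centralizer_singleton_iff.1 x.2.2).symm)
          exact this⟩
        left_inv := fun x => Subtype.ext (Subtype.ext rfl)
        right_inv := fun x => Subtype.ext rfl }
  rw [hfix, h.card_A hb] at hmod
  have hdvd : Nat.card (fixU S b k) ∣ 2 ^ 4 := by
    rw [show (2 : ℕ) ^ 4 = 16 from rfl, ← h.card_A hb]
    exact card_dvd_of_le inf_le_left
  obtain ⟨i, hi, hic⟩ := (Nat.dvd_prime_pow Nat.prime_two).1 hdvd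
  -- at most four elements: `A ∩ Q` has order at least four
  have hle : Nat.card (fixU S b k) ≤ 4 := by
    have hF := Cyc.prod_inj h hb hk
    have := Nat.card_le_card_of_injective _ hF
    rw [Nat.card_prod, Nat.card_fin, h.card_A hb] at this
    omega
  rw [hic] at hmod hle ⊢
  unfold Nat.ModEq at hmod
  rcases (show i = 0 ∨ i = 1 ∨ i = 2 ∨ i = 3 ∨ i = 4 by omega) with rfl | rfl | rfl | rfl | rfl
  rotate_left
  · norm_num at hmod
  · norm_num
  · norm_num at hle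
  · norm_num at hle
  exfalso
  haveI : Subsingleton (fixU S b k) := (Nat.card_eq_one_iff_unique.1 (hic.trans (pow_zero 2))).1
  exact h.b1 hb (congrArg Subtype.val (Subsingleton.elim (⟨b, Cyc.bU h hb hk⟩ : fixU S b k) 1))

/-- Two cycling elements act alike. -/
theorem Cyc.unique {k' : G} (hk' : h.Cyc b k') {x : G} (hx : x ∈ centS S b) :
    k * x * k⁻¹ = k' * x * k'⁻¹ := by
  have hinv : ∀ y ∈ centS S b, k'⁻¹ * y * k' ∈ centS S b := fun y hy => by
    have := hk'.norm _ (hk'.norm _ hy)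
    rwa [show k' * (k' * y * k'⁻¹) * k'⁻¹ = k'⁻¹ * (k' * (k' * (k' * y * k'⁻¹) * k'⁻¹) * k'⁻¹) * k' by group,
      Cyc.cube h hb hk' hy] at this
  have hz : k'⁻¹ * k * z = z * (k'⁻¹ * k) := by
    rw [← mul_inv_eq_iff_eq_mul, show k'⁻¹ * k * z * (k'⁻¹ * k)⁻¹ = k'⁻¹ * (k * z * k⁻¹) * k' by group,
      hk.kz, ← hk'.kz]
    group
  have := h.centralizes_of_fix hb (n := k'⁻¹ * k)
    (Commute.mul_left (a := k'⁻¹) (Commute.inv_left (a := k') hk'.comm) hk.comm).eq
    (fun y hy => by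
      rw [show k'⁻¹ * k * y * (k'⁻¹ * k)⁻¹ = k'⁻¹ * (k * y * k⁻¹) * k' by group]
      exact hinv _ (hk.norm _ hy))
    (Or.inr (Or.inl rfl)) h.z1 hz x hx
  calc k * x * k⁻¹ = k' * (k'⁻¹ * k * x) * k⁻¹ := by group
    _ = k' * (x * (k'⁻¹ * k)) * k⁻¹ := by rw [this]
    _ = k' * x * k'⁻¹ := by group

/-- The element `k` cycles the four-group for every element of `U`. -/
theorem Cyc.move {x : G} (hx : x ∈ fixU S b k) (hx1 : x ≠ 1) :
    h.Outside x ∧ centS S x = centS S b ∧ h.Cyc x k ∧ fixU S x k = fixU S b k := by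
  have hxQ := Cyc.outside h hb hk hx hx1
  have hA := h.cent_eq hb hx.1 hxQ
  exact ⟨h.outside_all hb hx.1.1 (h.A_sq hb hx.1) hxQ, hA,
    ⟨(mem_centralizer_singleton_iff.1 hx.2).symm, hA.symm ▸ hk.norm, hk.kz, hk.ka⟩,
    by rw [fixU, hA, fixU]⟩

/-- `A` is the product of the fixed points of `k` and the four-group. -/
theorem Cyc.exists_dec {x : G} (hx : x ∈ centS S b) :
    ∃ u ∈ fixU S b k, Four z (h.D.a 4) (u * x) := by
  have hsurj := ((Cyc.prod_inj h hb hk).bijective_of_nat_card_le (by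
    rw [Nat.card_prod, Nat.card_fin, h.card_A hb, Cyc.card_U h hb hk])).surjective
  obtain ⟨⟨u, j⟩, e⟩ := hsurj ⟨x, hx⟩
  have e' : (u : G) * fourFun z (h.D.a 4) j = x := congrArg Subtype.val e
  refine ⟨u, u.2, ?_⟩
  rw [← e', ← mul_assoc, h.A_sq hb u.2.1, one_mul]
  exact four_fun z _ j

end Hyp

end CfsgLib.J2Sylow
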