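import Cfsg.Agent.HallJanko.Invol
import Cfsg.Agent.GW.OSType.Action
import Cfsg.Agent.A8Three.Tools

/-!
# Subgroups of odd order in the centralizer of an involution of `J₂`

`X` is a group with central involution `z` and `PreCore z Q`.  The centralizer of any involution of
`X` normalizes no nontrivial subgroup of odd order inside itself.
-/

set_option autoImplicit false
set_option linter.style.haveILetI false
set_option linter.unusedSectionVars false

namespace CfsgLib.J2Sylow

open Subgroup CfsgLib.HallJanko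

local notation "A5" => alternatingGroup (Fin 5)

theorem a5_cent : ∀ s r : A5, s ≠ 1 → s * s = 1 → r * s = s * r → r * r = 1 := by decide +kernel

theorem a5_four : ∀ s : A5, s * s * (s * s) = 1 → s * s = 1 := by decide +kernel

theorem a5_fix : ∀ j : Fin 5, ∃ s t : A5, s ≠ 1 ∧ t ≠ 1 ∧ s ≠ t ∧ s * s = 1 ∧ t * t = 1 ∧
    s * t = t * s ∧ (s : Equiv.Perm (Fin 5)) j = j ∧ (t : Equiv.Perm (Fin 5)) j = j := by
  decide +kernel

variable {X : Type*} [Group X] [Finite X] {z : X} {Q : Subgroup X}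
  (h : PreCore z Q) (hzc : ∀ x : X, x * z = z * x)

include h hzc in
/-- The map onto `A₅`. -/
theorem exists_hom : ∃ f : X →* A5, Function.Surjective f ∧ ∀ x, f x = 1 ↔ x ∈ Q := by
  obtain ⟨f, hf, hk⟩ := h.hquot
  let ι : X →* centralizer ({z} : Set X) :=
    MonoidHom.mk' (fun x => ⟨x, mem_centralizer_singleton_iff.2 (hzc x)⟩) fun _ _ => Subtype.ext rfl
  refine ⟨f.comp ι, fun g => ?_, fun x => hk (ι x)⟩
  obtain ⟨c, hc⟩ := hf g
  exact ⟨c, by show f (ι c) = g; rwa [show ι (c : X) = c from Subtype.ext rfl]⟩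

include h in
theorem eq_bot_of_le {R : Subgroup X} (hR : Odd (Nat.card R)) (hle : R ≤ Q) : R = ⊥ := by
  refine eq_bot_of_card_eq _ (Nat.eq_one_of_dvd_coprimes (k := Nat.card R)
    (Nat.Coprime.pow_left 5 (Nat.coprime_two_left.2 hR)) ?_ dvd_rfl)
  have := card_dvd_of_le hle
  rw [h.hcard] at this
  norm_num
  exact this

include h hzc in
/-- A subgroup of odd order normalized by a four-group of the quotient is trivial. -/
theorem eq_bot_of_four {f : X →* A5} (hf : ∀ x, f x = 1 ↔ x ∈ Q) {R : Subgroup X}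
    (hR : Odd (Nat.card R)) {c d : X} (hc : f c ≠ 1) (hd : f d ≠ 1) (hcd : f c ≠ f d)
    (hc2 : f c * f c = 1) (hd2 : f d * f d = 1) (hcomm : f c * f d = f d * f c)
    (hcn : c ∈ normalizer (R : Set X)) (hdn : d ∈ normalizer (R : Set X)) : R = ⊥ := by
  refine eq_bot_of_le h hR ?_
  set R' := R.map f
  have hR' : Odd (Nat.card R') := hR.of_dvd_nat (Subgroup.card_map_dvd R f)
  have hn : ∀ {g : X}, g ∈ normalizer (R : Set X) → f g ∈ normalizer (R' : Set A5) := fun {g} hg =>
    le_normalizer_map f ⟨g, hg, rfl⟩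
  have htriv : ∀ {s : A5}, s ≠ 1 → s * s = 1 → ∀ r ∈ R', Commute s r → r ∈ (⊥ : Subgroup A5) :=
    fun {s} hs hs2 r hr hsr => mem_bot.2 (A8Three.eq_one_of_two_pow (k := 1)
      (by rw [pow_one, pow_two]; exact a5_cent s r hs hs2 hsr.eq.symm) (A8Three.odd_orderOf_of_mem hR' hr))
  have hbot : R' ≤ ⊥ := GW.OS.le_of_four (orderOf_eq_prime (by rw [pow_two, hc2]) hc)
    (orderOf_eq_prime (by rw [pow_two, hd2]) hd) hcomm (Ne.symm hcd) hR' (hn hcn) (hn hdn)
    (htriv hc hc2) (htriv hd hd2) (htriv (fun e => hcd (by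
      rw [eq_inv_of_mul_eq_one_left e, inv_eq_of_mul_eq_one_left hd2])) (by
      rw [(show Commute (f d) (f c) from hcomm.symm).mul_mul_mul_comm, hc2, hd2, one_mul]))
  exact fun x hx => (hf x).1 (mem_bot.1 (hbot ⟨x, hx, rfl⟩))

include h hzc in
theorem sq_of_outside {u k : X} (hu : u * u = 1) (huQ : u ∉ Q) (hk : k * u = u * k) : k * k = 1 := by
  obtain ⟨F⟩ := h.exists_frame
  obtain ⟨f, hf, huniq, huf⟩ := F.exists_fixed h (hzc u) hu huQ
  exact (F.cent_outside h (hzc u) hu huQ hf huniq huf (hzc k) hk).1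

include h hzc in
theorem card_centralizer_outside {u : X} (hu : u * u = 1) (huQ : u ∉ Q) :
    Nat.card (centralizer ({u} : Set X)) = 16 := by
  obtain ⟨F⟩ := h.exists_frame
  have := (F.outside_main h (hzc u) hu huQ).1
  rwa [inf_eq_right.2 (fun x _ => mem_centralizer_singleton_iff.2 (hzc x))] at this

include h in
theorem card_le_four {E : Subgroup X} (hE : E ≤ Q) (hsq : ∀ x ∈ E, x * x = 1)
    (hcomm : ∀ x ∈ E, ∀ y ∈ E, x * y = y * x) : Nat.card E ≤ 4 := by
  classical
  obtain ⟨F⟩ := h.exists_frame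
  have hcases : ∀ x ∈ E, Eqz z x 1 ∨ ∃ i, Eqz z x (F.a i) := fun x hx => by
    rcases F.cover x (hE hx) with e | e | ⟨i, j, hij, e⟩
    · exact Or.inl e
    · exact Or.inr e
    · exfalso
      have := h.eqz_sq (Q.mul_mem (F.mem i) (F.mem j)) e
      rw [hsq x hx, F.sq4 h i j hij] at this
      exact h.z_ne_one this.symm
  obtain ⟨i, hi⟩ : ∃ i, ∀ x ∈ E, Eqz z x 1 ∨ Eqz z x (F.a i) := by
    by_cases hex : ∃ x ∈ E, ∃ i, Eqz z x (F.a i)
    · obtain ⟨x, hx, i, hxi⟩ := hex
      refine ⟨i, fun y hy => (hcases y hy).imp id fun ⟨j, hyj⟩ => ?_⟩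
      by_cases hij : j = i
      · exact hij ▸ hyj
      · exfalso
        have e := hcomm y hy x hx
        have e' : F.a j * F.a i = F.a i * F.a j := by
          have hzi := h.hQC _ (F.mem i)
          have hzj := h.hQC _ (F.mem j)
          rcases hyj with rfl | rfl <;> rcases hxi with rfl | rfl
          · exact e
          · rw [mul_assoc (F.a i) z, ← hzj, ← mul_assoc, ← mul_assoc] at e
            exact mul_right_cancel e
          · rw [mul_assoc (F.a j) z, ← hzi, ← mul_assoc, ← mul_assoc] at e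
            exact mul_right_cancel e
          · rw [show F.a j * z * (F.a i * z) = F.a j * (z * F.a i) * z by group, ← hzi,
              show F.a i * z * (F.a j * z) = F.a i * (z * F.a j) * z by group, ← hzj,
              show F.a j * (F.a i * z) * z = F.a j * F.a i * (z * z) by group,
              show F.a i * (F.a j * z) * z = F.a i * F.a j * (z * z) by group, h.zz, mul_one,
              mul_one] at e
            exact e
        have e2 := F.nc i j (Ne.symm hij)
        rw [e', left_eq_mul] at e2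
        exact h.z_ne_one e2
    · exact ⟨0, fun y hy => Or.inl ((hcases y hy).resolve_right fun ⟨j, hj⟩ => hex ⟨y, hy, j, hj⟩)⟩
  let s : Finset X := {1, 1 * z, F.a i, F.a i * z}
  have hsub : (E : Set X) ⊆ s := fun x hx => by
    rcases hi x hx with (e | e) | (e | e) <;> simp [s, e]
  have h1 := Set.ncard_le_ncard hsub (Finset.finite_toSet s)
  rw [Set.ncard_coe_finset, ← Nat.card_coe_set_eq] at h1
  exact h1.trans Finset.card_le_four

include h hzc in
/-- The centralizer of an involution normalizes no nontrivial odd subgroup inside itself. -/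
theorem eq_bot_of_normal_centralizer {u : X} (hu1 : u ≠ 1) (hu : u * u = 1) {R : Subgroup X}
    (hR : Odd (Nat.card R)) (hle : R ≤ centralizer ({u} : Set X))
    (hn : ∀ y, y * u = u * y → y ∈ normalizer (R : Set X)) : R = ⊥ := by
  by_cases huQ : u ∈ Q
  swap
  · refine (eq_bot_iff_forall R).2 fun r hr => A8Three.eq_one_of_two_pow (k := 1) ?_
      (A8Three.odd_orderOf_of_mem hR hr)
    rw [pow_one, pow_two, sq_of_outside h hzc hu huQ (mem_centralizer_singleton_iff.1 (hle hr))]
  obtain ⟨F⟩ := h.exists_frame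
  let ι : X →* centralizer ({z} : Set X) :=
    MonoidHom.mk' (fun x => ⟨x, mem_centralizer_singleton_iff.2 (hzc x)⟩) fun _ _ => Subtype.ext rfl
  let f := F.π.comp ι
  have hf : ∀ x, f x = 1 ↔ x ∈ Q := fun x => F.ker (ι x)
  have hlift : ∀ g : A5, ∃ c : X, f c = g := fun g => by
    obtain ⟨c, hc⟩ := F.surj g
    exact ⟨c, by show F.π (ι c) = g; rwa [show ι (c : X) = c from Subtype.ext rfl]⟩
  have hcase : ∀ g : A5, ∀ j : Fin 5, (g : Equiv.Perm (Fin 5)) j = j →
      (u = z ∨ Eqz z u (F.a j)) → ∃ c, f c = g ∧ c * u = u * c := by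
    intro g j hgj huj
    obtain ⟨c, hc⟩ := hlift g
    rcases huj with rfl | huj
    · exact ⟨c, hc, hzc c⟩
    have hact := F.act (ι c) j
    have hc' : F.π (ι c) = g := hc
    rw [hc', hgj] at hact
    have hact' : Eqz z (c * F.a j * c⁻¹) (F.a j) := hact
    have fin : ∀ c', c' * F.a j = F.a j * c' → c' * u = u * c' := by
      intro c' e
      rcases huj with rfl | rfl
      · exact e
      · exact (Commute.mul_right e (hzc c')).eq
    rcases hact' with e | e
    · exact ⟨c, hc, fin c (mul_inv_eq_iff_eq_mul.1 e)⟩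
    · obtain ⟨k, hk⟩ := exists_ne j
      refine ⟨c * F.a k, by rw [map_mul, hc, (hf _).2 (F.mem k), mul_one], fin _ ?_⟩
      rw [mul_assoc, F.nc k j hk, ← mul_assoc, ← mul_assoc, mul_inv_eq_iff_eq_mul.1 e,
        mul_assoc (F.a j) z c, ← hzc c, show F.a j * (c * z) * F.a k * z = F.a j * c * (z * F.a k) * z by group,
        ← hzc (F.a k), show F.a j * c * (F.a k * z) * z = F.a j * c * F.a k * (z * z) by group, h.zz,
        mul_one, mul_assoc]
  obtain ⟨j, hj⟩ : ∃ j, u = z ∨ Eqz z u (F.a j) := by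
    rcases F.cover u huQ with (e | e) | ⟨i, e⟩ | ⟨i, j, hij, e⟩
    · exact absurd e hu1
    · exact ⟨0, Or.inl (e.trans (one_mul z))⟩
    · exact ⟨i, Or.inr e⟩
    · exfalso
      have := h.eqz_sq (Q.mul_mem (F.mem i) (F.mem j)) e
      rw [hu, F.sq4 h i j hij] at this
      exact h.z_ne_one this.symm
  obtain ⟨s, t, hs, ht, hst, hs2, ht2, hcomm, hsj, htj⟩ := a5_fix j
  obtain ⟨c, rfl, hcu⟩ := hcase s j hsj hj
  obtain ⟨d, rfl, hdu⟩ := hcase t j htj hj
  exact eq_bot_of_four h hzc hf hR hs ht hst hs2 ht2 hcomm (hn c hcu) (hn d hdu)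

include h hzc in
/-- A 2-group with derived group in `⟨u⟩`, `u ≠ z`, has a four-group as image in `A₅`. -/
theorem eq_bot_of_normalized {u : X} (hu : u * u = 1) (hu1 : u ≠ 1) (huz : u ≠ z) {P : Subgroup X}
    (hP : Nat.card P = 16) (hc : ∀ p ∈ P, ∀ q ∈ P, p * q = q * p ∨ p * q = q * p * u)
    (hs : ∀ p ∈ P, p * p = 1 ∨ p * p = u) {R : Subgroup X} (hR : Odd (Nat.card R))
    (hn : P ≤ normalizer (R : Set X)) : R = ⊥ := by
  classical
  obtain ⟨f, -, hf⟩ := exists_hom h hzc
  set φ := f.comp P.subtype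
  have hker : φ.ker.map P.subtype = P ⊓ Q := by
    ext x
    constructor
    · rintro ⟨p, hp, rfl⟩
      exact ⟨p.2, (hf _).1 hp⟩
    · rintro ⟨hxP, hxQ⟩
      exact ⟨⟨x, hxP⟩, (hf x).2 hxQ, rfl⟩
  have hsqE : ∀ x ∈ P ⊓ Q, x * x = 1 := fun x hx => by
    rcases hs x hx.1 with e | e
    · exact e
    · rcases h.hsq x hx.2 with e' | e'
      · exact e'
      · exact absurd (e.symm.trans e') huz
  have h4 : Nat.card (P ⊓ Q : Subgroup X) ≤ 4 := card_le_four h inf_le_right hsqE fun x hx y hy => by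
    rcases hc x hx.1 y hy.1 with e | e
    · exact e
    · rcases h.hcomm x hx.2 y hy.2 with e' | e'
      · exact e'
      · exact absurd (mul_left_cancel (e.symm.trans e')) huz
  rw [← hker, ← Nat.card_congr (φ.ker.equivMapOfInjective _ P.subtype_injective).toEquiv] at h4
  have h16 := φ.ker.card_mul_index
  rw [Subgroup.index_ker, hP] at h16
  have hr4 : 4 ≤ Nat.card φ.range := by nlinarith
  -- the image has exponent two
  have hexp : ∀ x : φ.range, x * x = 1 := by
    rintro ⟨_, p, rfl⟩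
    refine Subtype.ext (a5_four _ ?_)
    show φ p * φ p * (φ p * φ p) = 1
    rw [← map_mul, ← map_mul]
    convert map_one φ
    apply Subtype.ext
    show (p : X) * p * (p * p) = 1
    rcases hs p p.2 with e | e <;> rw [e]
    · rw [one_mul]
    · exact hu
  obtain ⟨s, hs1⟩ : ∃ s : φ.range, s ≠ 1 := by
    by_contra hno
    push Not at hno
    haveI : Subsingleton φ.range := ⟨fun a b => (hno a).trans (hno b).symm⟩
    have := Finite.card_le_one_iff_subsingleton.2 (inferInstance : Subsingleton φ.range)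
    omega
  obtain ⟨t, ht1, hts⟩ : ∃ t : φ.range, t ≠ 1 ∧ t ≠ s := by
    by_contra hno
    push Not at hno
    let g : φ.range → Bool := fun x => decide (x = s)
    have hg : Function.Injective g := fun x y e => by
      simp only [g, decide_eq_decide] at e
      by_cases hx : x = s
      · rw [hx, e.1 hx]
      · have hy : y ≠ s := fun hy => hx (e.2 hy)
        rw [show x = 1 from by_contra fun hh => hx (hno x hh), show y = 1 from by_contra fun hh => hy (hno y hh)]
    have := Nat.card_le_card_of_injective g hg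
    rw [Nat.card_eq_fintype_card (α := Bool), Fintype.card_bool] at this
    omega
  have hcomm : ∀ x y : φ.range, x * y = y * x := fun x y => by
    have hi : ∀ w : φ.range, w⁻¹ = w := fun w => inv_eq_of_mul_eq_one_left (hexp w)
    conv_lhs => rw [← hi (x * y), mul_inv_rev, hi, hi]
  obtain ⟨⟨c, hcP⟩, hc'⟩ := s.2
  obtain ⟨⟨d, hdP⟩, hd'⟩ := t.2
  have hfc : f c = (s : A5) := hc'
  have hfd : f d = (t : A5) := hd'
  refine eq_bot_of_four h hzc hf hR (c := c) (d := d) ?_ ?_ ?_ ?_ ?_ ?_ (hn hcP) (hn hdP)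
  · rw [hfc]; exact fun e => hs1 (Subtype.ext e)
  · rw [hfd]; exact fun e => ht1 (Subtype.ext e)
  · rw [hfc, hfd]; exact fun e => hts (Subtype.ext e.symm)
  · rw [hfc]; exact congrArg Subtype.val (hexp s)
  · rw [hfd]; exact congrArg Subtype.val (hexp t)
  · rw [hfc, hfd]; exact congrArg Subtype.val (hcomm s t)

end CfsgLib.J2Sylow
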