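import Cfsg.Agent.J2Sylow.Tools
import Cfsg.Agent.J2Sylow.Model
import Cfsg.Agent.J2Type.Main
import Cfsg.Agent.A8Three.Criterion
import Cfsg.Agent.ZStar.Theorem

/-!
# Simple groups with a Sylow 2-subgroup of type `J₂`: the centralizer of the central involution

The hypothesis `Hyp S z`: `z` is central in the Sylow 2-subgroup `S`, which carries the structure
`J2Type.Data`, and `C(z)/O(C(z))` has the structure of an involution centralizer of `J₂`.
-/

set_option autoImplicit false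
set_option linter.style.haveILetI false
set_option linter.unusedSectionVars false
set_option maxRecDepth 100000

namespace CfsgLib.J2Sylow

open Subgroup CfsgLib.HallJanko CfsgLib.J2Type
open CfsgLib.A8Three (coreC)

universe u

variable {G : Type u} [Group G] [Finite G]

/-- `C(z)` modulo its odd core. -/
abbrev Bar (z : G) : Type u := ↥(centralizer ({z} : Set G)) ⧸ Cfsg.oddCore ↥(centralizer ({z} : Set G))

/-- The projection onto `C(z)/O(C(z))`. -/
def pr (z : G) : ↥(centralizer ({z} : Set G)) →* Bar z := QuotientGroup.mk' _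

/-- The image of an element commuting with `z`. -/
def bar {z x : G} (hx : x * z = z * x) : Bar z := pr z ⟨x, mem_centralizer_singleton_iff.2 hx⟩

/-- The standing hypotheses. -/
structure Hyp (S : Sylow 2 G) (z : G) where
  D : Data z (S : Subgroup G)
  simple : IsSimpleGroup G
  quot : ∃ (zX : Bar z) (QX : Subgroup (Bar z)), PreCore zX QX ∧ (∀ x, x * zX = zX * x) ∧
    ∃ t, t * t = 1 ∧ t ∉ QX

theorem mem_theta_iff {z x : G} (hx : x * z = z * x) : x ∈ coreC z ↔ bar hx = 1 := by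
  refine Iff.trans ⟨?_, fun h => ⟨_, h, rfl⟩⟩ (QuotientGroup.eq_one_iff _).symm
  rintro ⟨y, hy, rfl⟩
  exact hy

theorem bar_mul {z x y : G} (hx : x * z = z * x) (hy : y * z = z * y) :
    bar hx * bar hy = bar (Commute.mul_left (a := x) (b := y) (c := z) hx hy).eq :=
  ((pr z).map_mul _ _).symm

theorem bar_congr {z x y : G} (hx : x * z = z * x) (hy : y * z = z * y) (e : x = y) : bar hx = bar hy := by
  subst e; rfl

theorem bar_eq_iff {z x y : G} (hx : x * z = z * x) (hy : y * z = z * y) :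
    bar hx = bar hy ↔ x⁻¹ * y ∈ coreC z := by
  have hxy : x⁻¹ * y * z = z * (x⁻¹ * y) :=
    (Commute.mul_left (Commute.inv_left hx) (hy : Commute y z)).eq
  rw [mem_theta_iff hxy, ← inv_mul_eq_one]
  rfl

theorem odd_ker_pr (z : G) : Odd (Nat.card (pr z).ker) := by
  rw [pr, QuotientGroup.ker_mk']
  exact Inv54.odd_card_oddCore

theorem exists_bar_eq {z : G} (X : Bar z) : ∃ (x : G) (hx : x * z = z * x), bar hx = X := by
  obtain ⟨⟨x, hx⟩, rfl⟩ := QuotientGroup.mk'_surjective _ X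
  exact ⟨x, mem_centralizer_singleton_iff.1 hx, rfl⟩

theorem eq_one_of_sq_theta {w x : G} (hx : x ∈ coreC w) (h : x * x = 1) : x = 1 :=
  A8Three.eq_one_of_odd_sq (A8Three.odd_coreC w) hx h

theorem bar_inj {z x y : G} (hx : x * z = z * x) (hy : y * z = z * y) (hx2 : x * x = 1)
    (hy2 : y * y = 1) (hc : x * y = y * x) (h : bar hx = bar hy) : x = y := by
  have h1 := (bar_eq_iff hx hy).1 h
  rw [inv_eq_of_mul_eq_one_left hx2] at h1
  have := eq_one_of_sq_theta h1 (by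
    rw [(show Commute y x from hc.symm).mul_mul_mul_comm, hx2, hy2, one_mul])
  exact (inv_eq_of_mul_eq_one_right this).symm.trans (inv_eq_of_mul_eq_one_left hx2) |>.symm

/-- Elements with the same involutory image are conjugate under the odd core. -/
theorem exists_conj_of_bar {z x y : G} (hx : x * z = z * x) (hy : y * z = z * y) (hx2 : x * x = 1)
    (hy2 : y * y = 1) (h : bar hx = bar hy) : ∃ r ∈ coreC z, r * x * r⁻¹ = y := by
  refine exists_conj_of_congr (A8Three.odd_coreC z) hx2 hy2 ?_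
  have := (bar_eq_iff hx hy).1 h
  rwa [inv_eq_of_mul_eq_one_left hx2] at this

namespace Hyp

variable {S : Sylow 2 G} {z : G} (h : Hyp S z)
include h

theorem zz : z * z = 1 := h.D.zz
theorem z1 : z ≠ 1 := h.D.z1
theorem ordz : orderOf z = 2 := orderOf_eq_prime (by rw [pow_two, h.zz]) h.z1
theorem zS : z ∈ (S : Subgroup G) := h.D.Q_le h.D.zQ
theorem ac (j : Fin 5) : h.D.a j * z = z * h.D.a j := h.D.zS _ (h.D.Q_le (h.D.mem j))
theorem Sc {s : G} (hs : s ∈ (S : Subgroup G)) : s * z = z * s := h.D.zS s hs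
theorem azc (j : Fin 5) : h.D.a j * z * z = z * (h.D.a j * z) := h.Sc (mul_mem (h.D.Q_le (h.D.mem j)) h.zS)

theorem az_sq (j : Fin 5) : h.D.a j * z * (h.D.a j * z) = 1 := by
  rw [(show Commute z (h.D.a j) from (h.ac j).symm).mul_mul_mul_comm, h.D.sq, h.zz, one_mul]

/-- An odd subgroup meets the Sylow subgroup trivially. -/
theorem eq_one_of_theta {w x : G} (hxS : x ∈ (S : Subgroup G)) (hx : x ∈ coreC w) : x = 1 := by
  obtain ⟨n, hn⟩ := S.isPGroup' ⟨x, hxS⟩
  exact A8Three.eq_one_of_two_pow (k := n) (congrArg Subtype.val hn)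
    (A8Three.odd_orderOf_of_mem (A8Three.odd_coreC w) hx)

theorem bar_inj_S {x y : G} (hx : x ∈ (S : Subgroup G)) (hy : y ∈ (S : Subgroup G))
    (e : bar (h.Sc hx) = bar (h.Sc hy)) : x = y :=
  inv_mul_eq_one.1 (h.eq_one_of_theta (mul_mem (inv_mem hx) hy) ((bar_eq_iff _ _).1 e))

/-- The central involution of the quotient is the image of `z`. -/
theorem quot' : ∃ QX : Subgroup (Bar z), PreCore (bar (z := z) (x := z) rfl) QX ∧
    (∀ x : Bar z, x * bar (z := z) (x := z) rfl = bar (z := z) (x := z) rfl * x) ∧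
    ∃ t, t * t = 1 ∧ t ∉ QX := by
  obtain ⟨zX, QX, hP, hc, hout⟩ := h.quot
  have hcent : ∀ x : Bar z, x * bar (z := z) (x := z) rfl = bar (z := z) (x := z) rfl * x := by
    intro X
    obtain ⟨x, hx, rfl⟩ := exists_bar_eq X
    rw [bar_mul, bar_mul]
    exact bar_congr _ _ hx
  have hsq : bar (z := z) (x := z) rfl * bar (z := z) (x := z) rfl = 1 := by
    rw [bar_mul, ← mem_theta_iff]
    simp [h.zz, one_mem]
  have hne : bar (z := z) (x := z) rfl ≠ 1 := fun e =>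
    h.z1 (h.eq_one_of_theta h.zS ((mem_theta_iff rfl).2 e))
  suffices e : bar (z := z) (x := z) rfl = zX by
    refine ⟨QX, ?_, hcent, hout⟩
    rw [e]; exact hP
  have hQ : bar (z := z) (x := z) rfl ∈ QX := by
    by_contra hQ
    have h16 := card_centralizer_outside hP hc hsq hQ
    have htop : centralizer ({bar (z := z) (x := z) rfl} : Set (Bar z)) = ⊤ :=
      eq_top_iff.2 fun x _ => mem_centralizer_singleton_iff.2 (hcent x)
    have htop' : centralizer ({zX} : Set (Bar z)) = ⊤ :=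
      eq_top_iff.2 fun x _ => mem_centralizer_singleton_iff.2 (hc x)
    have h1920 := hP.card_centralizer
    rw [htop', ← htop, h16] at h1920
    norm_num at h1920
  exact (hP.hcenter _ hQ fun p _ => (hcent p).symm).resolve_left hne

/-- The image of an involution centralized by an element whose square is nontrivial lies in `Q`. -/
theorem mem_QX {QX : Subgroup (Bar z)} (hP : PreCore (bar (z := z) (x := z) rfl) QX)
    (hc : ∀ x : Bar z, x * bar (z := z) (x := z) rfl = bar (z := z) (x := z) rfl * x) {x k : G}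
    (hx : x * z = z * x) (hx2 : x * x = 1) (hk : k * z = z * k) (hkx : k * x = x * k)
    (hk2 : k * k ∉ coreC z) : bar hx ∈ QX := by
  by_contra hQ
  refine hk2 ((mem_theta_iff (Commute.mul_left (a := k) (b := k) (c := z) hk hk).eq).2 ?_)
  rw [← bar_mul hk hk]
  refine sq_of_outside hP hc ?_ hQ ?_
  · rw [bar_mul, ← mem_theta_iff]; simp [hx2, one_mem]
  · rw [bar_mul, bar_mul]; exact bar_congr _ _ hkx

/-- An element of order four of `Q` centralizing `a j`. -/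
theorem exists_four (j : Fin 5) : ∃ k ∈ h.D.Q, k * h.D.a j = h.D.a j * k ∧ k * k = z := by
  obtain ⟨b, c, d, e, hb, hc, -, -, hbc, -⟩ := exists_others j
  refine ⟨h.D.a b * h.D.a c, h.D.Q.mul_mem (h.D.mem b) (h.D.mem c), ?_, h.D.sq4 hbc⟩
  have hcz := h.ac c
  have e1 := h.D.nc b j hb
  have e2 := h.D.nc c j hc
  calc h.D.a b * h.D.a c * h.D.a j = h.D.a b * (h.D.a j * h.D.a c * z) := by rw [mul_assoc, e2]
    _ = h.D.a j * h.D.a b * (z * h.D.a c) * z := by rw [← mul_assoc, ← mul_assoc, e1]; group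
    _ = h.D.a j * h.D.a b * h.D.a c * (z * z) := by rw [← hcz]; group
    _ = _ := by rw [h.zz, mul_one, mul_assoc]

theorem z_not_theta {w : G} : z ∉ coreC w := fun e => h.z1 (h.eq_one_of_theta h.zS e)

theorem a_mem_QX {QX : Subgroup (Bar z)} (hP : PreCore (bar (z := z) (x := z) rfl) QX)
    (hc : ∀ x : Bar z, x * bar (z := z) (x := z) rfl = bar (z := z) (x := z) rfl * x) (j : Fin 5) :
    bar (h.ac j) ∈ QX := by
  obtain ⟨k, hk, hkj, hk2⟩ := h.exists_four j
  exact h.mem_QX hP hc _ (h.D.sq j) (h.D.zS k (h.D.Q_le hk)) hkj (by rw [hk2]; exact h.z_not_theta)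

/-- A non-central involution with image in `Q` is conjugate under `O(C(z))` into `{a l, a l z}`. -/
theorem exists_conj_a {QX : Subgroup (Bar z)} (hP : PreCore (bar (z := z) (x := z) rfl) QX)
    (hc : ∀ x : Bar z, x * bar (z := z) (x := z) rfl = bar (z := z) (x := z) rfl * x) {x : G}
    (hx : x * z = z * x) (hx2 : x * x = 1) (hx1 : x ≠ 1) (hxz : x ≠ z) (hxQ : bar hx ∈ QX) :
    ∃ r ∈ coreC z, ∃ l, Eqz z (r * x * r⁻¹) (h.D.a l) := by
  classical
  obtain ⟨F⟩ := hP.exists_frame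
  have hsqb : ∀ {y : G} (hy : y * z = z * y), y * y = 1 → bar hy * bar hy = 1 := fun {y} hy e => by
    rw [bar_mul, ← mem_theta_iff]; simp [e, one_mem]
  have hclass : ∀ {y : G} (hy : y * z = z * y), y * y = 1 → y ≠ 1 → y ≠ z → bar hy ∈ QX →
      ∃ i : Fin 5 × Bool, bar hy = cond i.2 (F.a i.1 * bar (z := z) (x := z) rfl) (F.a i.1) := by
    intro y hy hy2 hy1 hyz hyQ
    rcases F.cover _ hyQ with (e | e) | ⟨i, e | e⟩ | ⟨i, j, hij, e⟩
    · exact absurd (eq_one_of_sq_theta ((mem_theta_iff hy).2 e) hy2) hy1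
    · exact absurd (bar_inj hy rfl hy2 h.zz hy (e.trans (one_mul _))) hyz
    · exact ⟨(i, false), e⟩
    · exact ⟨(i, true), e⟩
    · exfalso
      have := hP.eqz_sq (QX.mul_mem (F.mem i) (F.mem j)) e
      rw [hsqb hy hy2, F.sq4 hP i j hij] at this
      exact hP.z_ne_one this.symm
  let el : Fin 5 × Bool → G := fun i => cond i.2 (h.D.a i.1 * z) (h.D.a i.1)
  have helS : ∀ i, el i ∈ (S : Subgroup G) := fun ⟨i, b⟩ => by
    cases b
    · exact h.D.Q_le (h.D.mem i)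
    · exact mul_mem (h.D.Q_le (h.D.mem i)) h.zS
  have hel2 : ∀ i, el i * el i = 1 := fun ⟨i, b⟩ => by
    cases b
    · exact h.D.sq i
    · exact h.az_sq i
  have hel1 : ∀ i, el i ≠ 1 := fun ⟨i, b⟩ e => by
    cases b
    · exact h.D.ne_one i e
    · exact h.D.ne_z i ((eq_inv_of_mul_eq_one_left e).trans (inv_eq_of_mul_eq_one_left h.zz))
  have helz : ∀ i, el i ≠ z := fun ⟨i, b⟩ e => by
    cases b
    · exact h.D.ne_z i e
    · exact h.D.ne_one i (mul_eq_right.1 e)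
  have helQ : ∀ i, bar (h.Sc (helS i)) ∈ QX := fun ⟨i, b⟩ => by
    cases b
    · exact h.a_mem_QX hP hc i
    · have h1 := QX.mul_mem (h.a_mem_QX hP hc i) hP.hzQ
      rwa [bar_mul] at h1
  choose ψ hψ using fun i => hclass (h.Sc (helS i)) (hel2 i) (hel1 i) (helz i) (helQ i)
  have hinj : Function.Injective ψ := by
    intro i j e
    have h1 : el i = el j := h.bar_inj_S (helS i) (helS j) (by rw [hψ, hψ, e])
    obtain ⟨i, b⟩ := i
    obtain ⟨j, b'⟩ := j
    have hij : i = j := h.D.dist i j (by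
      cases b <;> cases b' <;> simp only [el, cond_true, cond_false] at h1
      · exact Or.inl h1
      · exact Or.inr h1
      · exact Or.inr (by rw [← h1, mul_assoc, h.zz, mul_one])
      · exact Or.inl (mul_right_cancel h1))
    subst hij
    cases b <;> cases b' <;> simp only [el, cond_true, cond_false] at h1
    · rfl
    · exact absurd h1 fun e => h.z1 (left_eq_mul.1 e)
    · exact absurd h1 fun e => h.z1 (mul_eq_left.1 e)
    · rfl
  obtain ⟨i, hi⟩ := hclass hx hx2 hx1 hxz hxQ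
  obtain ⟨l, hl⟩ := (Finite.injective_iff_surjective.1 hinj) i
  have he : bar hx = bar (h.Sc (helS l)) := by rw [hi, hψ, hl]
  obtain ⟨r, hr, e⟩ := exists_conj_of_bar hx _ hx2 (hel2 l) he
  refine ⟨r, hr, l.1, ?_⟩
  obtain ⟨l, b⟩ := l
  cases b
  · exact Or.inl e
  · exact Or.inr e

theorem conj_z {c : G} (hc : c * z = z * c) : c * z * c⁻¹ = z := mul_inv_eq_iff_eq_mul.2 hc

/-- `C(z)` moves any pair to the fourth. -/
theorem exists_conj_a4 {QX : Subgroup (Bar z)} (hP : PreCore (bar (z := z) (x := z) rfl) QX)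
    (hc : ∀ x : Bar z, x * bar (z := z) (x := z) rfl = bar (z := z) (x := z) rfl * x) {x : G}
    (hx : x * z = z * x) (hx2 : x * x = 1) (hx1 : x ≠ 1) (hxz : x ≠ z) (hxQ : bar hx ∈ QX) :
    ∃ c, c * z = z * c ∧ c * x * c⁻¹ = h.D.a 4 := by
  classical
  obtain ⟨F⟩ := hP.exists_frame
  have idx : ∀ {y : G} (hy : y * z = z * y), y * y = 1 → y ≠ 1 → y ≠ z → bar hy ∈ QX →
      ∃ i, Eqz (bar (z := z) (x := z) rfl) (bar hy) (F.a i) := by
    intro y hy hy2 hy1 hyz hyQ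
    rcases F.cover _ hyQ with (e | e) | e | ⟨i, j, hij, e⟩
    · exact absurd (eq_one_of_sq_theta ((mem_theta_iff hy).2 e) hy2) hy1
    · exact absurd (bar_inj hy rfl hy2 h.zz hy (e.trans (one_mul _))) hyz
    · exact e
    · exfalso
      have := hP.eqz_sq (QX.mul_mem (F.mem i) (F.mem j)) e
      rw [bar_mul, F.sq4 hP i j hij] at this
      refine hP.z_ne_one (this.symm.trans ((mem_theta_iff _).1 ?_))
      rw [hy2]; exact one_mem _
  obtain ⟨i, hi⟩ := idx hx hx2 hx1 hxz hxQ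
  obtain ⟨i4, hi4⟩ := idx (h.ac 4) (h.D.sq 4) (h.D.ne_one 4) (h.D.ne_z 4) (h.a_mem_QX hP hc 4)
  obtain ⟨g, hg⟩ := Alt.transitive i i4
  obtain ⟨C, hC⟩ := F.surj g
  obtain ⟨c, hcz, hcC⟩ := exists_bar_eq (C : Bar z)
  have hxc : c * x * c⁻¹ * z = z * (c * x * c⁻¹) :=
    ((Commute.mul_left (a := c) hcz hx).mul_left (Commute.inv_left (a := c) hcz)).eq
  have hact := F.act C i
  rw [hC, hg, ← hcC] at hact
  have e1 : bar hxc = bar hcz * bar hx * (bar hcz)⁻¹ := by
    rw [eq_mul_inv_iff_mul_eq, bar_mul, bar_mul]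
    exact bar_congr _ _ (inv_mul_cancel_right _ _)
  have e2 : Eqz (bar (z := z) (x := z) rfl) (bar hxc) (bar (h.ac 4)) := by
    rw [e1]
    exact hP.eqz_trans (hP.eqz_trans (hP.eqz_conj (hc _) hi) hact) (hP.eqz_symm hi4)
  have hconj2 : c * x * c⁻¹ * (c * x * c⁻¹) = 1 := by
    rw [show c * x * c⁻¹ * (c * x * c⁻¹) = c * (x * x) * c⁻¹ by group, hx2, mul_one, mul_inv_cancel]
  rcases e2 with e2 | e2
  · obtain ⟨r, hr, er⟩ := exists_conj_of_bar hxc (h.ac 4) hconj2 (h.D.sq 4) e2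
    refine ⟨r * c, (Commute.mul_left (a := r) (mem_centralizer_singleton_iff.1 (A8Three.coreC_le z hr)) hcz).eq, ?_⟩
    rw [← er]; group
  · obtain ⟨r, hr, er⟩ := exists_conj_of_bar hxc (h.azc 4) hconj2 (h.az_sq 4)
      (by rw [e2, bar_mul])
    refine ⟨h.D.a 0 * r * c, ((Commute.mul_left (a := h.D.a 0) (h.ac 0)
      (mem_centralizer_singleton_iff.1 (A8Three.coreC_le z hr))).mul_left hcz).eq, ?_⟩
    rw [show h.D.a 0 * r * c * x * (h.D.a 0 * r * c)⁻¹ = h.D.a 0 * (r * (c * x * c⁻¹) * r⁻¹) * (h.D.a 0)⁻¹ by group,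
      er, inv_eq_of_mul_eq_one_left (h.D.sq 0), show h.D.a 0 * (h.D.a 4 * z) * h.D.a 0 =
        h.D.a 0 * h.D.a 4 * (z * h.D.a 0) by group, ← h.ac 0, h.D.nc 0 4 (by decide),
      show h.D.a 4 * h.D.a 0 * z * (h.D.a 0 * z) = h.D.a 4 * (h.D.a 0 * z * (h.D.a 0 * z)) by group,
      h.az_sq 0, mul_one]

/-- Elements of `S` outside `Q` have images outside `Q`. -/
theorem outside_QX {QX : Subgroup (Bar z)} (hP : PreCore (bar (z := z) (x := z) rfl) QX)
    (hc : ∀ x : Bar z, x * bar (z := z) (x := z) rfl = bar (z := z) (x := z) rfl * x) {x : G}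
    (hxS : x ∈ (S : Subgroup G)) (hx2 : x * x = 1) (hxQ : x ∉ h.D.Q) :
    bar (h.Sc hxS) ∉ QX := by
  intro hQ
  have hx1 : x ≠ 1 := fun e => hxQ (e ▸ one_mem _)
  have hxz : x ≠ z := fun e => hxQ (e ▸ h.D.zQ)
  obtain ⟨r, hr, l, e⟩ := h.exists_conj_a hP hc (h.Sc hxS) hx2 hx1 hxz hQ
  have hrxS : r * x * r⁻¹ ∈ (S : Subgroup G) := by
    rcases e with e | e <;> rw [e]
    · exact h.D.Q_le (h.D.mem l)
    · exact mul_mem (h.D.Q_le (h.D.mem l)) h.zS
  have hrz := mem_centralizer_singleton_iff.1 (A8Three.coreC_le z hr)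
  have h1 : r * x * r⁻¹ * x⁻¹ ∈ coreC z := by
    rw [show r * x * r⁻¹ * x⁻¹ = r * (x * r⁻¹ * x⁻¹) by group]
    exact mul_mem hr (A8Three.conj_mem_coreC (h.Sc hxS) (inv_mem hr))
  have h2 := h.eq_one_of_theta (mul_mem hrxS (inv_mem hxS)) h1
  rw [mul_inv_eq_one] at h2
  apply hxQ
  rw [← h2]
  rcases e with e | e <;> rw [e]
  · exact h.D.mem l
  · exact mul_mem (h.D.mem l) h.D.zQ

/-- Involutions of `S` outside `Q` are conjugate in `C(z)`. -/
theorem exists_outside_conj {x y : G} (hxS : x ∈ (S : Subgroup G)) (hx2 : x * x = 1) (hxQ : x ∉ h.D.Q)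
    (hyS : y ∈ (S : Subgroup G)) (hy2 : y * y = 1) (hyQ : y ∉ h.D.Q) :
    ∃ c, c * z = z * c ∧ c * x * c⁻¹ = y := by
  obtain ⟨QX, hP, hc, -⟩ := h.quot'
  obtain ⟨F⟩ := hP.exists_frame
  have hsqb : ∀ {w : G} (hw : w * z = z * w), w * w = 1 → bar hw * bar hw = 1 := fun {w} hw e => by
    rw [bar_mul, ← mem_theta_iff]; simp [e, one_mem]
  obtain ⟨C, -, hC⟩ := (F.outside_main hP (hc _) (hsqb _ hx2) (h.outside_QX hP hc hxS hx2 hxQ)).2.2 _
    (hc _) (hsqb (h.Sc hyS) hy2) (h.outside_QX hP hc hyS hy2 hyQ)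
  obtain ⟨c, hcz, rfl⟩ := exists_bar_eq C
  have hxc : c * x * c⁻¹ * z = z * (c * x * c⁻¹) :=
    ((Commute.mul_left (a := c) hcz (h.Sc hxS)).mul_left (Commute.inv_left (a := c) hcz)).eq
  have e1 : bar hxc = bar (h.Sc hyS) := by
    rw [← hC, eq_mul_inv_iff_mul_eq, bar_mul, bar_mul]
    exact bar_congr _ _ (inv_mul_cancel_right _ _)
  obtain ⟨r, hr, er⟩ := exists_conj_of_bar hxc _ (by
    rw [show c * x * c⁻¹ * (c * x * c⁻¹) = c * (x * x) * c⁻¹ by group, hx2, mul_one, mul_inv_cancel])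
    hy2 e1
  refine ⟨r * c, (Commute.mul_left (a := r) (mem_centralizer_singleton_iff.1 (A8Three.coreC_le z hr)) hcz).eq, ?_⟩
  rw [← er]; group

theorem S_max {W : Subgroup G} (hW : IsPGroup 2 W) (_ : W ≤ centralizer ({z} : Set G)) :
    Nat.card W ≤ Nat.card (S : Subgroup G) := card_le_sylow S hW

/-- A 2-subgroup of `C(z)` is conjugate in `C(z)` into `S`. -/
theorem conj_S {W : Subgroup G} (hW : IsPGroup 2 W) (hWz : W ≤ centralizer ({z} : Set G)) :
    ∃ c, c * z = z * c ∧ ∀ w ∈ W, c * w * c⁻¹ ∈ (S : Subgroup G) := by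
  obtain ⟨c, hc, hcW⟩ := conj_into S.isPGroup' h.D.S_le_C (fun W hW hle => h.S_max hW hle) hW hWz
  exact ⟨c, mem_centralizer_singleton_iff.1 hc, hcW⟩

/-- An involution of `C(z)` is conjugate in `C(z)` into `S`. -/
theorem conj_invol {x : G} (hx : x * z = z * x) (hx2 : x * x = 1) :
    ∃ c, c * z = z * c ∧ c * x * c⁻¹ ∈ (S : Subgroup G) := by
  have hp : IsPGroup 2 (zpowers x) := fun y => ⟨1, by
    obtain ⟨y, i, rfl⟩ := y
    apply Subtype.ext
    show (x ^ i) ^ 2 ^ 1 = 1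
    rw [pow_one, ← zpow_natCast, ← zpow_mul, mul_comm, zpow_mul, zpow_natCast, pow_two, hx2, one_zpow]⟩
  obtain ⟨c, hc, hcW⟩ := h.conj_S hp (zpowers_le.2 (mem_centralizer_singleton_iff.2 hx))
  exact ⟨c, hc, hcW x (mem_zpowers x)⟩

/-- The kinds of involutions of `S`. -/
theorem invol_cases {x : G} (hx : x ∈ (S : Subgroup G)) (hx2 : x * x = 1) :
    x = 1 ∨ x = z ∨ (∃ j, Eqz z x (h.D.a j)) ∨ x ∉ h.D.Q := by
  by_cases hQ : x ∈ h.D.Q
  · rcases h.D.invol_Q hQ hx2 with (e | e) | e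
    · exact Or.inl e
    · exact Or.inr (Or.inl (e.trans (one_mul z)))
    · exact Or.inr (Or.inr (Or.inl e))
  · exact Or.inr (Or.inr (Or.inr hQ))

theorem exists_conj_a' {x : G} {j : Fin 5} (hxj : Eqz z x (h.D.a j)) :
    ∃ c, c * z = z * c ∧ c * x * c⁻¹ = h.D.a 4 := by
  obtain ⟨QX, hP, hc, -⟩ := h.quot'
  rcases hxj with rfl | rfl
  · exact h.exists_conj_a4 hP hc (h.ac j) (h.D.sq j) (h.D.ne_one j) (h.D.ne_z j) (h.a_mem_QX hP hc j)
  · refine h.exists_conj_a4 hP hc (h.azc j) (h.az_sq j) (fun e => h.D.ne_z j ?_)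
      (fun e => h.D.ne_one j (mul_eq_right.1 e)) ?_
    · exact (eq_inv_of_mul_eq_one_left e).trans (inv_eq_of_mul_eq_one_left h.zz)
    · have h1 := QX.mul_mem (h.a_mem_QX hP hc j) hP.hzQ
      rwa [bar_mul] at h1

/-- An elementary subgroup of order 16 of `S` is the centralizer in `S` of one of its elements. -/
theorem exists_mem_outside {E : Subgroup G} (hES : E ≤ (S : Subgroup G)) (hE : Nat.card E = 16)
    (hsq : ∀ x ∈ E, x * x = 1) :
    ∃ v ∈ E, v ∉ h.D.Q ∧ (∀ x : G, x ∈ E ↔ x ∈ (S : Subgroup G) ∧ x * v = v * x) := by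
  have hcomm : ∀ x ∈ E, ∀ y ∈ E, x * y = y * x := fun x hx y hy => by
    calc x * y = (x * y)⁻¹ := (inv_eq_of_mul_eq_one_left (hsq _ (mul_mem hx hy))).symm
      _ = y * x := by rw [mul_inv_rev, inv_eq_of_mul_eq_one_left (hsq x hx), inv_eq_of_mul_eq_one_left (hsq y hy)]
  obtain ⟨v, hvE, hvQ⟩ : ∃ v ∈ E, v ∉ h.D.Q := by
    by_contra hno
    push Not at hno
    classical
    obtain ⟨i, hi⟩ : ∃ i, ∀ x ∈ E, Eqz z x 1 ∨ Eqz z x (h.D.a i) := by
      by_cases hex : ∃ x ∈ E, ∃ i, Eqz z x (h.D.a i)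
      · obtain ⟨x, hx, i, hxi⟩ := hex
        refine ⟨i, fun y hy => (h.D.invol_Q (hno y hy) (hsq y hy)).imp id fun ⟨j, hyj⟩ => ?_⟩
        by_cases hij : j = i
        · exact hij ▸ hyj
        · exfalso
          have e := hcomm y hy x hx
          have e' : h.D.a j * h.D.a i = h.D.a i * h.D.a j := by
            rcases hyj with rfl | rfl <;> rcases hxi with rfl | rfl
            · exact e
            · rw [mul_assoc (h.D.a i) z, ← h.ac j, ← mul_assoc, ← mul_assoc] at e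
              exact mul_right_cancel e
            · rw [mul_assoc (h.D.a j) z, ← h.ac i, ← mul_assoc, ← mul_assoc] at e
              exact mul_right_cancel e
            · rw [show h.D.a j * z * (h.D.a i * z) = h.D.a j * (z * h.D.a i) * z by group, ← h.ac i,
                show h.D.a i * z * (h.D.a j * z) = h.D.a i * (z * h.D.a j) * z by group, ← h.ac j,
                show h.D.a j * (h.D.a i * z) * z = h.D.a j * h.D.a i * (z * z) by group,
                show h.D.a i * (h.D.a j * z) * z = h.D.a i * h.D.a j * (z * z) by group, h.zz, mul_one,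
                mul_one] at e
              exact e
          have e2 := h.D.nc i j (Ne.symm hij)
          rw [e', left_eq_mul] at e2
          exact h.z1 e2
      · exact ⟨0, fun y hy => Or.inl ((h.D.invol_Q (hno y hy) (hsq y hy)).resolve_right
          fun ⟨j, hj⟩ => hex ⟨y, hy, j, hj⟩)⟩
    let s : Finset G := {1, 1 * z, h.D.a i, h.D.a i * z}
    have hsub : (E : Set G) ⊆ s := fun x hx => by
      rcases hi x hx with (e | e) | (e | e) <;> simp [s, e]
    have h1 := Set.ncard_le_ncard hsub (Finset.finite_toSet s)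
    rw [Set.ncard_coe_finset, ← Nat.card_coe_set_eq] at h1
    change Nat.card E ≤ _ at h1
    have := h1.trans Finset.card_le_four
    omega
  refine ⟨v, hvE, hvQ, fun x => ⟨fun hx => ⟨hES hx, hcomm x hx v hvE⟩, fun hx => ?_⟩⟩
  have hle : E ≤ (S : Subgroup G) ⊓ centralizer ({v} : Set G) := fun y hy =>
    ⟨hES hy, mem_centralizer_singleton_iff.2 (hcomm y hy v hvE)⟩
  rw [Subgroup.eq_of_le_of_card_ge hle (by rw [hE, h.D.cent_card v (hES hvE) (hsq v hvE) hvQ])]
  exact ⟨hx.1, mem_centralizer_singleton_iff.2 hx.2⟩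

theorem outside_facts {v : G} (hv : v ∈ (S : Subgroup G)) (hv2 : v * v = 1) (hvQ : v ∉ h.D.Q) :
    h.D.a 4 * v = v * h.D.a 4 ∧ (∀ x ∈ (S : Subgroup G), x * v = v * x → x * x = 1) :=
  ⟨(h.D.comm4 hv hv2 hvQ).symm, fun x hx hxv => (h.D.cent_sq v hv hv2 hvQ x hx hxv).1⟩

/-- If an involution of `S` outside `Q` is conjugate to `z` then so is `a 4`. -/
theorem conj_a4_of_outside {v : G} (hv : v ∈ (S : Subgroup G)) (hv2 : v * v = 1) (hvQ : v ∉ h.D.Q)
    (hzv : IsConj z v) : IsConj z (h.D.a 4) := by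
  obtain ⟨g, hg⟩ := isConj_iff.1 hzv
  -- pull the centralizer of `v` in `S` back into `C(z)`
  let A : Subgroup G := (S : Subgroup G) ⊓ centralizer ({v} : Set G)
  let A' := A.map (MulAut.conj g⁻¹).toMonoidHom
  have hAv : ∀ x ∈ A, x * v = v * x := fun x hx => mem_centralizer_singleton_iff.1 hx.2
  have hA' : A' ≤ centralizer ({z} : Set G) := by
    rintro _ ⟨x, hx, rfl⟩
    rw [mem_centralizer_singleton_iff, ← show g⁻¹ * v * g = z by rw [← hg]; group]
    show g⁻¹ * x * g⁻¹⁻¹ * (g⁻¹ * v * g) = g⁻¹ * v * g * (g⁻¹ * x * g⁻¹⁻¹)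
    calc g⁻¹ * x * g⁻¹⁻¹ * (g⁻¹ * v * g) = g⁻¹ * (x * v) * g := by group
      _ = g⁻¹ * (v * x) * g := by rw [hAv x hx]
      _ = _ := by group
  obtain ⟨c, hcz, hcW⟩ := h.conj_S ((S.isPGroup'.to_le inf_le_left).map _) hA'
  set t := g * c⁻¹ with ht
  have htz : t * z * t⁻¹ = v := by
    rw [ht, show g * c⁻¹ * z * (g * c⁻¹)⁻¹ = g * (c⁻¹ * z * c) * g⁻¹ by group,
      show c⁻¹ * z * c = z by rw [mul_assoc, ← hcz, inv_mul_cancel_left], hg]
  let E := A.map (MulAut.conj t⁻¹).toMonoidHom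
  have hE : ∀ x, x ∈ E ↔ t * x * t⁻¹ ∈ A := fun x => by
    constructor
    · rintro ⟨y, hy, rfl⟩
      show t * (t⁻¹ * y * t⁻¹⁻¹) * t⁻¹ ∈ A
      rwa [show t * (t⁻¹ * y * t⁻¹⁻¹) * t⁻¹ = y by group]
    · intro hx
      exact ⟨_, hx, by show t⁻¹ * (t * x * t⁻¹) * t⁻¹⁻¹ = x; group⟩
  have hES : E ≤ (S : Subgroup G) := by
    intro x hx
    have h1 := hcW _ ⟨_, (hE x).1 hx, rfl⟩
    change c * (g⁻¹ * (t * x * t⁻¹) * g⁻¹⁻¹) * c⁻¹ ∈ (S : Subgroup G) at h1
    rwa [ht, show c * (g⁻¹ * (g * c⁻¹ * x * (g * c⁻¹)⁻¹) * g⁻¹⁻¹) * c⁻¹ = x by group] at h1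
  have hcard : Nat.card E = 16 := by
    rw [← Nat.card_congr (A.equivMapOfInjective _ (MulAut.conj t⁻¹).injective).toEquiv]
    exact h.D.cent_card v hv hv2 hvQ
  have hA2 : ∀ x ∈ A, x * x = 1 := fun x hx => (h.outside_facts hv hv2 hvQ).2 x hx.1 (hAv x hx)
  obtain ⟨w, hwE, hwQ, hEw⟩ := h.exists_mem_outside hES hcard fun x hx => by
    have := hA2 _ ((hE x).1 hx)
    rwa [show t * x * t⁻¹ * (t * x * t⁻¹) = t * (x * x) * t⁻¹ by group, conj_eq_one_iff] at this
  have hw2 : w * w = 1 := by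
    have := hA2 _ ((hE w).1 hwE)
    rwa [show t * w * t⁻¹ * (t * w * t⁻¹) = t * (w * w) * t⁻¹ by group, conj_eq_one_iff] at this
  -- the image of `a 4`
  have h4A : t * h.D.a 4 * t⁻¹ ∈ A := (hE _).1 ((hEw _).2
    ⟨h.D.Q_le (h.D.mem 4), (h.outside_facts (hES hwE) hw2 hwQ).1⟩)
  by_contra hno
  have hout : ∀ x ∈ (S : Subgroup G), x * x = 1 → x ∉ h.D.Q → IsConj z x := fun x hx hx2 hxQ => by
    obtain ⟨c, -, e⟩ := h.exists_outside_conj hv hv2 hvQ hx hx2 hxQ
    exact hzv.trans (isConj_iff.2 ⟨c, e⟩)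
  have he2 := hA2 _ h4A
  have heQ : t * h.D.a 4 * t⁻¹ ∈ h.D.Q := by
    by_contra heQ
    exact hno ((hout _ h4A.1 he2 heQ).trans (isConj_iff.2 ⟨t, rfl⟩ : IsConj (h.D.a 4) _).symm)
  -- its product with `v` is the image of `a 4 * z`, outside `Q`
  have hprod : t * (h.D.a 4 * z) * t⁻¹ = t * h.D.a 4 * t⁻¹ * v := by rw [← htz]; group
  have hz4 : IsConj (h.D.a 4) (h.D.a 4 * z) := isConj_iff.2 ⟨h.D.a 0, by
    rw [inv_eq_of_mul_eq_one_left (h.D.sq 0), h.D.nc 0 4 (by decide),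
      show h.D.a 4 * h.D.a 0 * z * h.D.a 0 = h.D.a 4 * h.D.a 0 * (z * h.D.a 0) by group, ← h.ac 0,
      show h.D.a 4 * h.D.a 0 * (h.D.a 0 * z) = h.D.a 4 * (h.D.a 0 * h.D.a 0) * z by group,
      h.D.sq 0, mul_one]⟩
  refine hno (((hout (t * h.D.a 4 * t⁻¹ * v) (mul_mem h4A.1 hv) ?_ fun hQ => hvQ ?_).trans
    (isConj_iff.2 ⟨t, hprod⟩ : IsConj (h.D.a 4 * z) _).symm).trans hz4.symm)
  · rw [(show Commute v (t * h.D.a 4 * t⁻¹) from (hAv _ h4A).symm).mul_mul_mul_comm, he2, hv2, one_mul]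
  · have h1 := mul_mem (inv_mem heQ) hQ
    rwa [inv_mul_cancel_left] at h1

/-- The fourth pair is fused with `z`. -/
theorem exists_conj_four : ∃ g : G, g * z * g⁻¹ = h.D.a 4 := by
  refine isConj_iff.1 ?_
  haveI := h.simple
  obtain ⟨g, hgc, hgne⟩ : ∃ g : G, Commute z (g * z * g⁻¹) ∧ g * z * g⁻¹ ≠ z := by
    by_contra! hiso
    have hc := ZStar.mem_center_of_isolated ⟨h.ordz, hiso⟩ fun N hN hodd =>
      (IsSimpleGroup.eq_bot_or_eq_top_of_normal N hN).resolve_right fun e => by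
        rw [e, Subgroup.card_top] at hodd
        exact hodd.not_two_dvd_nat (h.ordz ▸ orderOf_dvd_natCard z)
    obtain ⟨v, hv, hv2, hvQ⟩ := h.D.out
    rcases IsSimpleGroup.eq_bot_or_eq_top_of_normal (Subgroup.center G) inferInstance with e | e
    · rw [e, mem_bot] at hc; exact h.z1 hc
    · -- a central `a 0` would commute with `a 4`
      have h0 : h.D.a 0 ∈ Subgroup.center G := e ▸ mem_top _
      have e1 := h.D.nc 0 4 (by decide)
      rw [(Subgroup.mem_center_iff.1 h0 (h.D.a 4)).symm, left_eq_mul] at e1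
      exact h.z1 e1
  obtain ⟨c, hcz, hcS⟩ := h.conj_invol hgc.eq.symm (by
    rw [show g * z * g⁻¹ * (g * z * g⁻¹) = g * (z * z) * g⁻¹ by group, h.zz, mul_one, mul_inv_cancel])
  set u := c * (g * z * g⁻¹) * c⁻¹ with hu
  have hzu : IsConj z u := isConj_iff.2 ⟨c * g, by rw [hu]; group⟩
  have hu2 : u * u = 1 := by
    rw [hu, show c * (g * z * g⁻¹) * c⁻¹ * (c * (g * z * g⁻¹) * c⁻¹) = c * g * (z * z) * (c * g)⁻¹ by group,
      h.zz, mul_one, mul_inv_cancel]
  rcases h.invol_cases hcS hu2 with e | e | ⟨j, e⟩ | e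
  · exfalso
    rw [hu, conj_eq_one_iff, conj_eq_one_iff] at e
    exact h.z1 e
  · exfalso
    apply hgne
    calc g * z * g⁻¹ = c⁻¹ * (c * (g * z * g⁻¹) * c⁻¹) * c := by group
      _ = c⁻¹ * z * c := by rw [← hu, e]
      _ = z := by rw [mul_assoc, ← hcz, inv_mul_cancel_left]
  · obtain ⟨d, -, hd⟩ := h.exists_conj_a' e
    exact hzu.trans (isConj_iff.2 ⟨d, hd⟩)
  · exact h.conj_a4_of_outside hcS hu2 e hzu

/-- An element interchanging `z` and `a 4`. -/
theorem exists_swap : ∃ g : G, g * z * g⁻¹ = h.D.a 4 ∧ g * h.D.a 4 * g⁻¹ = z := by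
  obtain ⟨g, hg⟩ := h.exists_conj_four
  obtain ⟨QX, hP, hc, -⟩ := h.quot'
  obtain ⟨k, hk, hk4, hk2⟩ := h.exists_four 4
  set w := g⁻¹ * z * g with hw
  set k' := g⁻¹ * k * g with hk'
  have hgi : g⁻¹ * h.D.a 4 * g = z := by rw [← hg]; group
  have hwz : w * z = z * w := by
    calc w * z = w * (g⁻¹ * h.D.a 4 * g) := by rw [hgi]
      _ = g⁻¹ * (z * h.D.a 4) * g := by rw [hw]; group
      _ = g⁻¹ * (h.D.a 4 * z) * g := by rw [h.ac 4]
      _ = (g⁻¹ * h.D.a 4 * g) * w := by rw [hw]; group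
      _ = z * w := by rw [hgi]
  have hkz : k' * z = z * k' := by
    calc k' * z = k' * (g⁻¹ * h.D.a 4 * g) := by rw [hgi]
      _ = g⁻¹ * (k * h.D.a 4) * g := by rw [hk']; group
      _ = g⁻¹ * (h.D.a 4 * k) * g := by rw [hk4]
      _ = (g⁻¹ * h.D.a 4 * g) * k' := by rw [hk']; group
      _ = z * k' := by rw [hgi]
  have hkw : k' * w = w * k' := by
    rw [hk', hw, show g⁻¹ * k * g * (g⁻¹ * z * g) = g⁻¹ * (k * z) * g by group, h.D.zS k (h.D.Q_le hk)]
    group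
  have hk'2 : k' * k' = w := by rw [hk', hw, ← hk2]; group
  have hw2 : w * w = 1 := by
    rw [hw, show g⁻¹ * z * g * (g⁻¹ * z * g) = g⁻¹ * (z * z) * g by group, h.zz, mul_one, inv_mul_cancel]
  have hw1 : w ≠ 1 := fun e => h.z1 (by
    calc z = g * w * g⁻¹ := by rw [hw]; group
      _ = 1 := by rw [e]; group)
  have hwne : w ≠ z := fun e => h.D.ne_z 4 (by
    rw [← hg, show g * z * g⁻¹ = g * w * g⁻¹ by rw [e], hw]; group)
  obtain ⟨c, hcz, hcw⟩ := h.exists_conj_a4 hP hc hwz hw2 hw1 hwne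
    (h.mem_QX hP hc hwz hw2 hkz hkw (fun hm => hw1 (eq_one_of_sq_theta (hk'2 ▸ hm) hw2)))
  refine ⟨g * c⁻¹, ?_, ?_⟩
  · rw [show g * c⁻¹ * z * (g * c⁻¹)⁻¹ = g * (c⁻¹ * z * c) * g⁻¹ by group,
      show c⁻¹ * z * c = z by rw [mul_assoc, ← hcz, inv_mul_cancel_left], hg]
  · rw [← hcw, hw]; group

/-- All involutions of `Q` are conjugate to `z`. -/
theorem conj_of_Eqz {x : G} {j : Fin 5} (hxj : Eqz z x (h.D.a j)) : IsConj z x := by
  obtain ⟨g, hg⟩ := h.exists_conj_four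
  obtain ⟨c, -, hc⟩ := h.exists_conj_a' hxj
  exact (isConj_iff.2 ⟨g, hg⟩ : IsConj z _).trans (isConj_iff.2 ⟨c, hc⟩).symm

theorem not_mem_Q_of_not_conj {x : G} (hx : x ∈ (S : Subgroup G)) (hx2 : x * x = 1) (hx1 : x ≠ 1)
    (hn : ¬ IsConj z x) : x ∉ h.D.Q := by
  rcases h.invol_cases hx hx2 with e | e | ⟨j, e⟩ | e
  · exact absurd e hx1
  · exact absurd (e ▸ IsConj.refl z) hn
  · exact absurd (h.conj_of_Eqz e) hn
  · exact e

end Hyp

end CfsgLib.J2Sylow
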