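import Cfsg.Agent.J2Sylow.CompB

/-!
# Elements centralizing `z` and `U`, seen in the centralizer of `bz`
-/

set_option autoImplicit false
set_option linter.style.haveILetI false
set_option linter.unusedSectionVars false
set_option maxRecDepth 100000

namespace CfsgLib.J2Sylow

open Subgroup CfsgLib.HallJanko CfsgLib.J2Type
open CfsgLib.A8Three (coreC IsCompl2 kl kl_spec)

universe u

variable {G : Type u} [Group G] [Finite G]

/-- An element of odd order which is centralized and inverted modulo the core lies in it. -/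
theorem mem_theta_of_inverted {c x v : G} (hx : x * c = c * x) (hv : v * c = c * v) (ho : Odd (orderOf x))
    (h1 : x * v * x⁻¹ * v⁻¹ ∈ coreC c) (h2 : v * x * v⁻¹ * x ∈ coreC c) : x ∈ coreC c := by
  have e1 : bar hx * bar hv = bar hv * bar hx := (bar_comm_iff hx hv).2 h1
  have e2 := (bar_inverted_iff hx hv).2 h2
  rw [← e1, mul_inv_cancel_right] at e2
  exact (mem_theta_iff hx).2 (CfsgLib.A8Three.eq_one_of_two_pow (k := 1)
    (by rw [pow_one, pow_two]; exact mul_eq_one_iff_eq_inv.2 e2) (odd_orderOf_bar hx ho))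

namespace Hyp

variable {S : Sylow 2 G} {z : G} (h : Hyp S z)
include h

variable {b : G} (hb : h.Outside b)
include hb

theorem bz_mem : b * z ∈ centS S b := mul_mem (h.bA hb) (h.zA hb)

theorem bz_notQ : b * z ∉ h.D.Q := fun e => hb.notQ (by
  have := mul_mem e h.D.zQ
  rwa [mul_assoc, h.zz, mul_one] at this)

theorem outside_bz : h.Outside (b * z) :=
  h.outside_all hb (h.bz_mem hb).1 (h.A_sq hb (h.bz_mem hb)) (h.bz_notQ hb)

/-- An element of `Q` centralizing `a` and mapping `b` to `bz`. -/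
theorem exists_shift : ∃ t : G, t * z = z * t ∧ t * h.D.a 4 = h.D.a 4 * t ∧ t * b * t⁻¹ = b * z := by
  obtain ⟨i, hi⟩ := h.D.act b hb.mem
  have hi0 : i ≠ 0 := by
    rintro rfl
    have h00 : ∀ j, kl 0 j = j := by decide +kernel
    exact hb.notQ (h.D.ker b hb.mem fun j => by have e := hi j; rwa [h00] at e)
  have h0 : (0 : Fin 5) ≠ kl i 0 ∧ kl i 0 ≠ 4 :=
    (show ∀ i : Fin 4, i ≠ 0 → (0 : Fin 5) ≠ kl i 0 ∧ kl i 0 ≠ 4 by decide +kernel) i hi0
  set p : Fin 5 := 0 with hp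
  set j : Fin 5 := kl i 0 with hj
  set q := h.D.a p * h.D.a j with hq
  have e := invert hb.sq h.zz (h.Sc hb.mem) (h.ac p) (b := h.D.a j) (hi p)
  have hpj : h.D.a p * h.D.a j = h.D.a j * h.D.a p * z := h.D.nc p j h0.1
  have hzq : q * z = z * q := h.Sc (mul_mem (h.D.Q_le (h.D.mem p)) (h.D.Q_le (h.D.mem j)))
  refine ⟨q, hzq, ?_, ?_⟩
  · rw [hq, mul_assoc, h.D.nc j 4 h0.2, ← mul_assoc, ← mul_assoc,
      h.D.nc p 4 (by rw [hp]; decide), mul_assoc (h.D.a 4 * h.D.a p) z,
      ← h.ac j, ← mul_assoc, mul_assoc (h.D.a 4 * h.D.a p * h.D.a j), h.zz, mul_one, mul_assoc]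
  · have hqq : q * q = z := by
      calc q * q = h.D.a p * (h.D.a j * h.D.a p) * h.D.a j := by rw [hq]; group
        _ = h.D.a p * (h.D.a p * h.D.a j * z) * h.D.a j := by rw [h.D.nc j p h0.1.symm]
        _ = (h.D.a p * h.D.a p) * (h.D.a j * (z * h.D.a j)) := by group
        _ = z := by rw [h.D.sq, one_mul, ← h.ac j, ← mul_assoc, h.D.sq, one_mul]
    have hqi : b * q * b⁻¹ = q⁻¹ := by
      rw [hq, e, mul_inv_rev, inv_eq_of_mul_eq_one_left (h.D.sq p), inv_eq_of_mul_eq_one_left (h.D.sq j)]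
    calc q * b * q⁻¹ = q * b * (b * q * b⁻¹) := by rw [hqi]
      _ = q * (b * b) * q * b⁻¹ := by group
      _ = z * b := by rw [hb.sq, mul_one, hqq, inv_eq_of_mul_eq_one_left hb.sq]
      _ = b * z := (h.Sc hb.mem).symm

variable {k : G} (hk : h.Cyc b k)
include hk

/-- In `C(bz)` an element centralizing `z` and `U` centralizes `a` modulo the core. -/
theorem Cyc.commute_a {n : G} (hnz : n * z = z * n) (hnU : ∀ u ∈ fixU S b k, n * u = u * n)
    (ho : Odd (orderOf n)) : n * h.D.a 4 * n⁻¹ * (h.D.a 4)⁻¹ ∈ coreC (b * z) := by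
  have hb' := h.outside_bz hb
  have hnb : n * b = b * n := hnU b (Cyc.bU h hb hk)
  have hnbz : n * (b * z) = b * z * n := (Commute.mul_right (hnb : Commute n b) hnz).eq
  have habz : h.D.a 4 * (b * z) = b * z * h.D.a 4 := h.A_comm hb (h.aA hb) (h.bz_mem hb)
  rcases h.theta_or_cyc hb' with hall | ⟨k', hk'⟩
  · have hn := hall n hnbz ho
    rw [show n * h.D.a 4 * n⁻¹ * (h.D.a 4)⁻¹ = n * (h.D.a 4 * n⁻¹ * (h.D.a 4)⁻¹) by group]
    exact mul_mem hn (CfsgLib.A8Three.conj_mem_coreC habz (inv_mem hn))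
  have hA : centS S (b * z) = centS S b := h.cent_eq hb (h.bz_mem hb) (h.bz_notQ hb)
  obtain ⟨h1, -, -, -⟩ := h.cz hb
  have hdis : ∀ w, w ∈ fixU S b k → w ∈ fixU S (b * z) k' → w = 1 := by
    intro w hw hw'
    by_contra hw1
    obtain ⟨how, -, hkw, -⟩ := Cyc.move h hb hk hw hw1
    obtain ⟨-, -, hkw', -⟩ := Cyc.move h hb' hk' hw' hw1
    have hwA : centS S w = centS S b := h.cent_eq hb hw.1 (Cyc.outside h hb hk hw hw1)
    have e := Cyc.unique h how hkw hkw' (x := b * z) (hwA.symm ▸ h.bz_mem hb)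
    have e2 : k' * (b * z) * k'⁻¹ = b * z := mul_inv_eq_iff_eq_mul.2 hk'.comm
    rw [e2, show k * (b * z) * k⁻¹ = k * b * k⁻¹ * (k * z * k⁻¹) by group, hk.kz,
      mul_inv_eq_iff_eq_mul.2 hk.comm] at e
    exact h1 (mul_left_cancel e)
  obtain ⟨b', hbU', hb'1, hb'b⟩ := Cyc.exists_other h hb hk (u := b)
  obtain ⟨u, hu, hf⟩ := Cyc.exists_dec h hb' hk' (x := b') (hA.symm ▸ hbU'.1)
  have hu2 := h.A_sq hb' hu.1
  have hnu : u * (b * z) = b * z * u := Cyc.U_comm h hb' hk' hu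
  have hnb'c : b' * (b * z) = b * z * b' := h.A_comm hb hbU'.1 (h.bz_mem hb)
  have hzc : z * (b * z) = b * z * z := h.A_comm hb (h.zA hb) (h.bz_mem hb)
  have cz' : bar hnbz * bar hzc = bar hzc * bar hnbz := by
    rw [bar_mul, bar_mul]; exact bar_congr _ _ hnz
  have cb' : bar hnbz * bar hnb'c = bar hnb'c * bar hnbz := by
    rw [bar_mul, bar_mul]; exact bar_congr _ _ (hnU b' hbU')
  have cu : bar hnbz * bar hnu = bar hnu * bar hnbz :=
    (bar_comm_iff hnbz hnu).2 (Cyc.central h hb' hk' hu hnbz)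
  have hvA : (u * b') * (b * z) = b * z * (u * b') := (Commute.mul_left (hnu : Commute u (b * z)) hnb'c).eq
  have cv : bar hnbz * bar hvA = bar hvA * bar hnbz := by
    have e : bar hvA = bar hnu * bar hnb'c := (bar_mul _ _).symm
    rw [e]; exact (Commute.mul_right (cu : Commute (bar hnbz) (bar hnu)) cb').eq
  rw [← bar_comm_iff hnbz habz]
  rcases hf with e | e | e | e
  · exact absurd (hdis b' hbU' ((eq_inv_of_mul_eq_one_right e).trans (inv_eq_of_mul_eq_one_left hu2) ▸ hu))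
      hb'1
  · exfalso
    have hbb' : b * b' = b * z * u := by
      rw [show b' = u * z by rw [← e, ← mul_assoc, hu2, one_mul], mul_assoc b z u, ← h.Sc hu.1.1]
    have hU' : b * b' ∈ fixU S (b * z) k' := hbb' ▸ mul_mem (Cyc.bU h hb' hk') hu
    have := hdis _ (mul_mem (Cyc.bU h hb hk) hbU') hU'
    exact hb'b (mul_left_cancel (this.trans hb.sq.symm))
  · rw [bar_congr habz hvA e.symm]
    exact cv
  · have e' : h.D.a 4 = u * b' * z := by rw [e, mul_assoc, h.zz, mul_one]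
    have hac : bar habz = bar hvA * bar hzc := by rw [bar_mul]; exact bar_congr _ _ e'
    rw [hac]
    exact (Commute.mul_right (cv : Commute (bar hnbz) (bar hvA)) cz').eq

/-- An element inverted by `a` and centralizing `z` and `U` lies in `O(C(bz))`. -/
theorem Cyc.mem_theta_bz {n : G} (hnz : n * z = z * n) (hnU : ∀ u ∈ fixU S b k, n * u = u * n)
    (ho : Odd (orderOf n)) (hna : h.D.a 4 * n * (h.D.a 4)⁻¹ = n⁻¹) : n ∈ coreC (b * z) := by
  have hnb : n * b = b * n := hnU b (Cyc.bU h hb hk)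
  refine mem_theta_of_inverted ((Commute.mul_right (hnb : Commute n b) hnz).eq)
    (h.A_comm hb (h.aA hb) (h.bz_mem hb)) ho (Cyc.commute_a h hb hk hnz hnU ho) ?_
  rw [hna, inv_mul_cancel]
  exact one_mem _

end Hyp

end CfsgLib.J2Sylow
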