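import Cfsg.Agent.J2Sylow.Setting

/-!
# Subgroups of odd order inside centralizers of conjugates of the central involution
-/

set_option autoImplicit false
set_option linter.style.haveILetI false
set_option linter.unusedSectionVars false
set_option maxRecDepth 100000

namespace CfsgLib.J2Sylow

open Subgroup CfsgLib.HallJanko CfsgLib.J2Type
open CfsgLib.A8Three (coreC)

universe u

variable {G : Type u} [Group G] [Finite G]

/-- The conjugate subgroup. -/
def conjSub (g : G) (R : Subgroup G) : Subgroup G := R.map (MulAut.conj g).toMonoidHom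

theorem mem_conjSub {g x : G} {R : Subgroup G} : x ∈ conjSub g R ↔ g⁻¹ * x * g ∈ R := by
  constructor
  · rintro ⟨y, hy, rfl⟩
    show g⁻¹ * (g * y * g⁻¹) * g ∈ R
    rwa [show g⁻¹ * (g * y * g⁻¹) * g = y by group]
  · intro hx
    exact ⟨_, hx, by show g * (g⁻¹ * x * g) * g⁻¹ = x; group⟩

theorem card_conjSub (g : G) (R : Subgroup G) : Nat.card (conjSub g R) = Nat.card R :=
  (Nat.card_congr (R.equivMapOfInjective _ (MulAut.conj g).injective).toEquiv).symm

theorem coreC_conj (g w : G) : conjSub g (coreC w) = coreC (g * w * g⁻¹) := by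
  ext x
  rw [mem_conjSub]
  constructor
  · intro hx
    have := A8Three.map_coreC g w hx
    rwa [show g * (g⁻¹ * x * g) * g⁻¹ = x by group] at this
  · intro hx
    have := A8Three.map_coreC g⁻¹ (g * w * g⁻¹) hx
    rwa [show g⁻¹ * (g * w * g⁻¹) * g⁻¹⁻¹ = w by group, inv_inv] at this

theorem conj_comm {g x y : G} (e : x * y = y * x) : g * x * g⁻¹ * (g * y * g⁻¹) = g * y * g⁻¹ * (g * x * g⁻¹) := by
  calc g * x * g⁻¹ * (g * y * g⁻¹) = g * (x * y) * g⁻¹ := by group
    _ = g * (y * x) * g⁻¹ := by rw [e]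
    _ = _ := by group

theorem commute_conj_iff {g x y : G} : (g⁻¹ * x * g) * y = y * (g⁻¹ * x * g) ↔ x * (g * y * g⁻¹) = (g * y * g⁻¹) * x := by
  constructor <;> intro e
  · have := conj_comm (g := g) e
    rwa [show g * (g⁻¹ * x * g) * g⁻¹ = x by group] at this
  · have := conj_comm (g := g⁻¹) e
    rwa [inv_inv, show g⁻¹ * (g * y * g⁻¹) * g = y by group] at this

namespace Hyp

variable {S : Sylow 2 G} {z : G} (h : Hyp S z)
include h

/-- An odd subgroup of `C(z) ∩ C(u)` normalized by that centralizer lies in `O(C(z))`. -/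
theorem le_theta_z {u : G} (hu : u * z = z * u) (hu2 : u * u = 1) (hu1 : u ≠ 1) {R : Subgroup G}
    (hR : Odd (Nat.card R)) (hRz : ∀ r ∈ R, r * z = z * r) (hRu : ∀ r ∈ R, r * u = u * r)
    (hn : ∀ y, y * z = z * y → y * u = u * y → ∀ r ∈ R, y * r * y⁻¹ ∈ R) : R ≤ coreC z := by
  obtain ⟨QX, hP, hc, -⟩ := h.quot'
  let C := centralizer ({z} : Set G)
  let R' := (R.subgroupOf C).map (pr z)
  have hmem : ∀ {r} (hr : r ∈ R), bar (hRz r hr) ∈ R' := fun {r} hr => ⟨_, mem_subgroupOf.2 hr, rfl⟩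
  have hR' : Odd (Nat.card R') := hR.of_dvd_nat ((Subgroup.card_map_dvd _ _).trans
    (Nat.card_congr (subgroupOfEquivOfLe (fun r hr => mem_centralizer_singleton_iff.2 (hRz r hr))).toEquiv).dvd)
  have hu' : bar hu ≠ 1 := fun e => hu1 (eq_one_of_sq_theta ((mem_theta_iff hu).2 e) hu2)
  have hbot : R' = ⊥ := by
    refine eq_bot_of_normal_centralizer hP hc hu' ?_ hR' ?_ ?_
    · rw [bar_mul, ← mem_theta_iff]; simp [hu2, one_mem]
    · rintro _ ⟨r, hr, rfl⟩
      rw [mem_centralizer_singleton_iff]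
      show pr z r * pr z _ = pr z _ * pr z r
      rw [← map_mul, ← map_mul]
      exact congrArg _ (Subtype.ext (hRu r (mem_subgroupOf.1 hr)))
    · intro Y hY
      obtain ⟨y, hy, rfl⟩ := exists_bar_eq Y
      obtain ⟨y', e, hyu⟩ := exists_lift_commute (pr z) (odd_ker_pr z)
        (s := ⟨u, mem_centralizer_singleton_iff.2 hu⟩) (n := ⟨y, mem_centralizer_singleton_iff.2 hy⟩)
        (Subtype.ext hu2) hY.symm
      have hyu' : (y' : G) * u = u * y' := congrArg Subtype.val hyu.eq.symm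
      rw [show bar hy = pr z y' from e.symm]
      refine le_normalizer_map (pr z) ⟨y', mem_normalizer_iff.2 fun r => ?_, rfl⟩
      simp only [mem_subgroupOf, Subgroup.coe_mul, InvMemClass.coe_inv]
      refine ⟨hn _ (mem_centralizer_singleton_iff.1 y'.2) hyu' _, fun hr => ?_⟩
      have := hn (y' : G)⁻¹ (Commute.inv_left (mem_centralizer_singleton_iff.1 y'.2))
        (Commute.inv_left (a := (y' : G)) hyu') _ hr
      rwa [inv_inv, show (y' : G)⁻¹ * (y' * r * (y' : G)⁻¹) * y' = r by group] at this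
  intro r hr
  rw [mem_theta_iff (hRz r hr)]
  have := hmem hr
  rwa [hbot, mem_bot] at this

/-- The same for a conjugate of `z`. -/
theorem le_theta {w u : G} (hw : IsConj z w) (hu : u * w = w * u) (hu2 : u * u = 1) (hu1 : u ≠ 1)
    {R : Subgroup G} (hR : Odd (Nat.card R)) (hRw : ∀ r ∈ R, r * w = w * r) (hRu : ∀ r ∈ R, r * u = u * r)
    (hn : ∀ y, y * w = w * y → y * u = u * y → ∀ r ∈ R, y * r * y⁻¹ ∈ R) : R ≤ coreC w := by
  obtain ⟨g, rfl⟩ := isConj_iff.1 hw
  have hmemg : ∀ r, r ∈ conjSub g⁻¹ R ↔ g * r * g⁻¹ ∈ R := fun r => by rw [mem_conjSub, inv_inv]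
  have hu' : g * (g⁻¹ * u * g) * g⁻¹ = u := by group
  have := h.le_theta_z (u := g⁻¹ * u * g) (R := conjSub g⁻¹ R) (commute_conj_iff.2 hu)
    (by rw [show g⁻¹ * u * g * (g⁻¹ * u * g) = g⁻¹ * (u * u) * g by group, hu2, mul_one, inv_mul_cancel])
    (fun e => hu1 (by rw [← hu', e]; group)) (by rwa [card_conjSub])
    (fun r hr => by
      have := commute_conj_iff.2 (hRw _ ((hmemg r).1 hr))
      rwa [show g⁻¹ * (g * r * g⁻¹) * g = r by group] at this)
    (fun r hr => by
      have := conj_comm (g := g⁻¹) (hRu _ ((hmemg r).1 hr))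
      rwa [inv_inv, show g⁻¹ * (g * r * g⁻¹) * g = r by group] at this)
    (fun y hy1 hy2 r hr => by
      rw [hmemg] at hr ⊢
      rw [show g * (y * r * y⁻¹) * g⁻¹ = (g * y * g⁻¹) * (g * r * g⁻¹) * (g * y * g⁻¹)⁻¹ by group]
      refine hn _ (conj_comm hy1) ?_ _ hr
      have := conj_comm (g := g) hy2
      rwa [hu'] at this)
  intro r hr
  rw [← coreC_conj, mem_conjSub]
  exact this ((hmemg _).2 (by rwa [show g * (g⁻¹ * r * g) * g⁻¹ = r by group]))

/-- `O(C(x)) ∩ C(w) ≤ O(C(w))` for a conjugate `w` of `z` and an involution `x` commuting with it. -/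
theorem balance {w x : G} (hw : IsConj z w) (hxw : x * w = w * x) (hx2 : x * x = 1) (hx1 : x ≠ 1) :
    coreC x ⊓ centralizer ({w} : Set G) ≤ coreC w :=
  h.le_theta hw hxw hx2 hx1 ((A8Three.odd_coreC x).of_dvd_nat (card_dvd_of_le inf_le_left))
    (fun r hr => mem_centralizer_singleton_iff.1 hr.2)
    (fun r hr => mem_centralizer_singleton_iff.1 (A8Three.coreC_le x hr.1))
    (fun y hyw hyx r hr => ⟨A8Three.conj_mem_coreC hyx hr.1, mem_centralizer_singleton_iff.2
      ((Commute.mul_left (a := y) hyw (mem_centralizer_singleton_iff.1 hr.2)).mul_left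
        (Commute.inv_left (a := y) hyw)).eq⟩)

/-- The elements of `Q` commuting with `a j`. -/
theorem card_CQ' (j : Fin 5) :
    Nat.card (h.D.Q ⊓ centralizer ({h.D.a j} : Set G) : Subgroup G) = 16 := h.D.card_CQ j

/-- An odd subgroup of `C(w)`, `w ∈ {a j, a j z}`, normalized by `C_Q(a j)` lies in `O(C(w))`. -/
theorem le_theta_Q {w : G} {j : Fin 5} (hwj : Eqz z w (h.D.a j)) {R : Subgroup G}
    (hR : Odd (Nat.card R)) (hRw : ∀ r ∈ R, r * w = w * r)
    (hn : ∀ q ∈ h.D.Q, q * h.D.a j = h.D.a j * q → ∀ r ∈ R, q * r * q⁻¹ ∈ R) : R ≤ coreC w := by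
  obtain ⟨g, hg⟩ := isConj_iff.1 (h.conj_of_Eqz hwj)
  obtain ⟨QX, hP, hc, -⟩ := h.quot'
  have hqw : ∀ q ∈ h.D.Q, q * h.D.a j = h.D.a j * q → q * w = w * q := fun q hq e => by
    rcases hwj with rfl | rfl
    · exact e
    · exact (Commute.mul_right (a := q) e (h.D.zS q (h.D.Q_le hq))).eq
  have hgw : g⁻¹ * w * g = z := by rw [← hg]; group
  have hwz : w * z = z * w := by
    rcases hwj with rfl | rfl
    · exact h.ac j
    · exact h.azc j
  set u := g⁻¹ * z * g with hu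
  have hpull : ∀ {x : G}, x * w = w * x → g⁻¹ * x * g * z = z * (g⁻¹ * x * g) := fun {x} e =>
    commute_conj_iff.2 (by rwa [hg])
  have huz := hpull hwz.symm
  let P₀ : Subgroup G := h.D.Q ⊓ centralizer ({h.D.a j} : Set G)
  let φ : P₀ →* Bar z := MonoidHom.mk'
    (fun q => bar (hpull (hqw q q.2.1 (mem_centralizer_singleton_iff.1 q.2.2)))) fun a b => by
      rw [bar_mul]
      exact bar_congr _ _ (by simp only [Subgroup.coe_mul]; group)
  have hφ : Function.Injective φ := by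
    refine (injective_iff_map_eq_one φ).2 fun q hq => Subtype.ext ?_
    have h1 : g⁻¹ * (q : G) * g ∈ coreC z := (mem_theta_iff (hpull (hqw q q.2.1
      (mem_centralizer_singleton_iff.1 q.2.2)))).2 hq
    have h2 := A8Three.map_coreC g z h1
    rw [hg, show g * (g⁻¹ * (q : G) * g) * g⁻¹ = q by group] at h2
    exact h.eq_one_of_theta (h.D.Q_le q.2.1) h2
  let P := φ.range
  have hPcard : Nat.card P = 16 := by
    rw [← Nat.card_congr (MonoidHom.ofInjective hφ).toEquiv]
    exact h.card_CQ' j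
  have hzP : z ∈ P₀ := ⟨h.D.zQ, mem_centralizer_singleton_iff.2 (h.ac j).symm⟩
  have hφz : φ ⟨z, hzP⟩ = bar huz := rfl
  have hcomm : ∀ p ∈ P, ∀ q ∈ P, p * q = q * p ∨ p * q = q * p * bar huz := by
    rintro _ ⟨a, rfl⟩ _ ⟨b, rfl⟩
    rw [← hφz, ← map_mul, ← map_mul, ← map_mul]
    exact (h.D.comm a a.2.1 b b.2.1).imp (fun e => congrArg φ (Subtype.ext e)) fun e => congrArg φ (Subtype.ext e)
  have hsq : ∀ p ∈ P, p * p = 1 ∨ p * p = bar huz := by
    rintro _ ⟨a, rfl⟩
    rw [← hφz, ← map_mul, ← map_one φ]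
    rcases h.D.cover a a.2.1 with e | ⟨i, e⟩ | ⟨i, k, hik, e⟩
    · exact Or.inl (congrArg φ (Subtype.ext ((h.D.eqz_sq (by simp) e).trans (one_mul 1))))
    · exact Or.inl (congrArg φ (Subtype.ext ((h.D.eqz_sq (h.ac i) e).trans (h.D.sq i))))
    · exact Or.inr (congrArg φ (Subtype.ext ((h.D.eqz_sq (h.D.zQc (h.D.Q.mul_mem (h.D.mem i) (h.D.mem k))) e).trans
        (h.D.sq4 hik))))
  have hu2 : u * u = 1 := by
    rw [hu, show g⁻¹ * z * g * (g⁻¹ * z * g) = g⁻¹ * (z * z) * g by group, h.zz, mul_one, inv_mul_cancel]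
  have hu1 : u ≠ 1 := fun e => h.z1 (by
    calc z = g * u * g⁻¹ := by rw [hu]; group
      _ = 1 := by rw [e]; group)
  have hwne : w ≠ z := by
    rcases hwj with rfl | rfl
    · exact h.D.ne_z j
    · exact fun e => h.D.ne_one j (mul_eq_right.1 e)
  let R₀ := conjSub g⁻¹ R
  have hR₀z : ∀ r ∈ R₀, r * z = z * r := fun r hr => by
    rw [mem_conjSub, inv_inv] at hr
    have := hpull (hRw _ hr)
    rwa [show g⁻¹ * (g * r * g⁻¹) * g = r by group] at this
  let R' := (R₀.subgroupOf (centralizer ({z} : Set G))).map (pr z)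
  have hbot : R' = ⊥ := by
    refine eq_bot_of_normalized hP hc (u := bar huz) ?_ ?_ ?_ hPcard hcomm hsq ?_ ?_
    · rw [bar_mul, ← mem_theta_iff]; show u * u ∈ _; rw [hu2]; exact one_mem _
    · exact fun e => hu1 (eq_one_of_sq_theta ((mem_theta_iff huz).2 e) hu2)
    · intro e
      have h1 := bar_inj huz rfl hu2 h.zz huz e
      apply hwne
      calc w = g * z * g⁻¹ := hg.symm
        _ = g * u * g⁻¹ := congrArg (fun y => g * y * g⁻¹) h1.symm
        _ = z := by rw [hu]; group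
    · exact hR.of_dvd_nat ((Subgroup.card_map_dvd _ _).trans ((Nat.card_congr (subgroupOfEquivOfLe
        (fun r hr => mem_centralizer_singleton_iff.2 (hR₀z r hr))).toEquiv).dvd.trans (card_conjSub g⁻¹ R).dvd))
    · rintro _ ⟨q, rfl⟩
      refine le_normalizer_map (pr z) ⟨⟨g⁻¹ * (q : G) * g, mem_centralizer_singleton_iff.2 (hpull (hqw q q.2.1
        (mem_centralizer_singleton_iff.1 q.2.2)))⟩, mem_normalizer_iff.2 fun r => ?_, rfl⟩
      have key : ∀ (q : G), q ∈ h.D.Q → q * h.D.a j = h.D.a j * q → ∀ r : G,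
          r ∈ R₀ → g⁻¹ * q * g * r * (g⁻¹ * q * g)⁻¹ ∈ R₀ := fun q hq hqa r hr => by
        rw [mem_conjSub, inv_inv] at hr ⊢
        have := hn q hq hqa _ hr
        rwa [show g * (g⁻¹ * q * g * r * (g⁻¹ * q * g)⁻¹) * g⁻¹ = q * (g * r * g⁻¹) * q⁻¹ by group]
      simp only [mem_subgroupOf, Subgroup.coe_mul, InvMemClass.coe_inv]
      refine ⟨key q q.2.1 (mem_centralizer_singleton_iff.1 q.2.2) r, fun hr => ?_⟩
      have := key (q : G)⁻¹ (inv_mem q.2.1)
        (Commute.inv_left (a := (q : G)) (mem_centralizer_singleton_iff.1 q.2.2)) _ hr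
      rwa [show g⁻¹ * (q : G)⁻¹ * g * (g⁻¹ * q * g * r * (g⁻¹ * q * g)⁻¹) * (g⁻¹ * (q : G)⁻¹ * g)⁻¹ = r by group]
        at this
  intro r hr
  have hr₀ : g⁻¹ * r * g ∈ R₀ := by
    rw [mem_conjSub, inv_inv, show g * (g⁻¹ * r * g) * g⁻¹ = r by group]; exact hr
  have h1 : bar (hR₀z _ hr₀) ∈ R' := ⟨_, mem_subgroupOf.2 hr₀, rfl⟩
  rw [hbot, mem_bot, ← mem_theta_iff] at h1
  have h2 := A8Three.map_coreC g z h1
  rwa [hg, show g * (g⁻¹ * r * g) * g⁻¹ = r by group] at h2

end Hyp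

end CfsgLib.J2Sylow
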