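import Cfsg.Agent.GW.OSType.Action
import Cfsg.Agent.A8Three.Tools

/-!
# Coprime lifting for a single involution
-/

set_option autoImplicit false
set_option linter.unusedSectionVars false

namespace CfsgLib.J2Sylow

open Subgroup

variable {G : Type*} [Group G] [Finite G]

/-- A coset of an odd subgroup fixed by an involution contains a fixed element. -/
theorem exists_fixed_lift {R : Subgroup G} (hR : Odd (Nat.card R)) {s n : G} (hs : s * s = 1)
    (h : n⁻¹ * (s * n * s⁻¹) ∈ R) : ∃ r ∈ R, Commute s (n * r) := by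
  have e : n⁻¹ * s * n * s⁻¹ = n⁻¹ * (s * n * s⁻¹) := by group
  obtain ⟨r, hr, hc⟩ := GW.OS.exists_fixed_mul (n := n) hs (by
    rw [e]; exact A8Three.odd_orderOf_of_mem hR h)
  rw [e] at hr
  exact ⟨r, zpowers_le.2 h hr, hc⟩

/-- Involutions congruent modulo an odd subgroup are conjugate by one of its elements. -/
theorem exists_conj_of_congr {R : Subgroup G} (hR : Odd (Nat.card R)) {s t : G} (hs : s * s = 1)
    (ht : t * t = 1) (h : s * t ∈ R) : ∃ r ∈ R, r * s * r⁻¹ = t := by
  obtain ⟨j, hj⟩ := A8Three.odd_orderOf_of_mem hR h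
  have hsi : s⁻¹ = s := inv_eq_of_mul_eq_one_left hs
  have hti : t⁻¹ = t := inv_eq_of_mul_eq_one_left ht
  have hinv : s * (s * t) * s⁻¹ = (s * t)⁻¹ := by
    rw [mul_inv_rev, hti, hsi, ← mul_assoc, hs, one_mul]
  refine ⟨(s * t) ^ j, pow_mem h j, ?_⟩
  have hc : s * ((s * t) ^ j)⁻¹ = (s * t) ^ j * s := by
    have h1 : s * (s * t) ^ j * s⁻¹ = ((s * t) ^ j)⁻¹ := by
      rw [← conj_pow, hinv, inv_pow]
    rw [← h1, hsi, ← mul_assoc, ← mul_assoc, hs, one_mul]
  rw [mul_assoc, hc, ← mul_assoc, ← pow_add, ← two_mul]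
  have h2 : (s * t) ^ (2 * j) * (s * t) = 1 := by rw [← pow_succ, ← hj, pow_orderOf_eq_one]
  calc (s * t) ^ (2 * j) * s = (s * t) ^ (2 * j) * (s * t) * t⁻¹ := by group
    _ = t := by rw [h2, one_mul, hti]

/-- A homomorphism with odd kernel maps centralizers of involutions onto centralizers. -/
theorem exists_lift_commute {X : Type*} [Group X] (π : G →* X) (hker : Odd (Nat.card π.ker)) {s n : G}
    (hs : s * s = 1) (h : π s * π n = π n * π s) : ∃ n', π n' = π n ∧ Commute s n' := by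
  obtain ⟨r, hr, hc⟩ := exists_fixed_lift hker (n := n) hs (by
    rw [MonoidHom.mem_ker, map_mul, map_mul, map_mul, map_inv, map_inv, h]
    group)
  exact ⟨n * r, by rw [map_mul, MonoidHom.mem_ker.1 hr, mul_one], hc⟩

omit [Finite G] in
/-- Conjugation by an element centralizing `c` preserves commuting with `c`. -/
theorem commute_conj_of' {s c m : G} (hsc : s * c = c * s) (hm : m * c = c * m) :
    Commute (s * m * s⁻¹) c :=
  (Commute.mul_left (hsc : Commute s c) hm).mul_left (Commute.inv_left (hsc : Commute s c))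

omit [Finite G] in
/-- The part of an element inverted by an involution. -/
theorem inverted_mul {s n : G} (hs : s * s = 1) :
    s * (n * (s * n * s⁻¹)⁻¹) * s⁻¹ = (n * (s * n * s⁻¹)⁻¹)⁻¹ := by
  have hsi : s⁻¹ = s := inv_eq_of_mul_eq_one_left hs
  rw [show (s * n * s⁻¹)⁻¹ = s * n⁻¹ * s⁻¹ by group, mul_inv_rev,
    show (s * n⁻¹ * s⁻¹)⁻¹ = s * n * s⁻¹ by group, hsi]
  calc s * (n * (s * n⁻¹ * s)) * s = s * n * s * n⁻¹ * (s * s) := by group
    _ = s * n * s * n⁻¹ := by rw [hs, mul_one]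

end CfsgLib.J2Sylow
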