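import Cfsg.Agent.J2Sylow.LocalB
import Cfsg.Agent.J2Sylow.Component

/-!
# Transfer inside the centralizer of an outer involution, and the resulting component
-/

set_option autoImplicit false
set_option linter.style.haveILetI false
set_option linter.unusedSectionVars false
set_option maxRecDepth 100000

namespace CfsgLib.J2Sylow

open Subgroup CfsgLib.HallJanko CfsgLib.J2Type
open CfsgLib.A8Three (coreC IsCompl2)

universe u

variable {G : Type u} [Group G] [Finite G]

/-- The identity in a pair of a four-group. -/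
theorem four_cases_of_card {U : Subgroup G} (hU : Nat.card U = 4) (hsq : ∀ x ∈ U, x * x = 1) {u v : G}
    (hu : u ∈ U) (hv : v ∈ U) (hu1 : u ≠ 1) (hv1 : v ≠ 1) (huv : u ≠ v) {x : G} (hx : x ∈ U) :
    x = 1 ∨ x = u ∨ x = v ∨ x = u * v := by
  classical
  by_contra hno
  simp only [not_or] at hno
  obtain ⟨h1, h2, h3, h4⟩ := hno
  have huv1 : u * v ≠ 1 := fun e => huv (mul_right_cancel (e.trans (hsq v hv).symm))
  let f : Fin 5 → U := ![1, ⟨u, hu⟩, ⟨v, hv⟩, ⟨u * v, mul_mem hu hv⟩, ⟨x, hx⟩]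
  have hf : Function.Injective f := by
    intro i j e
    have e' := congrArg Subtype.val e
    fin_cases i <;> fin_cases j <;> simp [f] at e' ⊢ <;>
      first
      | exact hu1 e'
      | exact hu1 e'.symm
      | exact hv1 e'
      | exact hv1 e'.symm
      | exact huv e'
      | exact huv e'.symm
      | exact huv1 e'
      | exact huv1 e'.symm
      | exact h1 e'
      | exact h1 e'.symm
      | exact h2 e'
      | exact h2 e'.symm
      | exact h3 e'
      | exact h3 e'.symm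
      | exact h4 e'
      | exact h4 e'.symm
  have := Nat.card_le_card_of_injective f hf
  rw [Nat.card_fin, hU] at this
  omega

namespace Hyp

variable {S : Sylow 2 G} {z : G} (h : Hyp S z)

/-- The kernel of the transfer to `U`. -/
structure Ker (b k : G) (L : Subgroup G) : Prop where
  le : ∀ l ∈ L, l * b = b * l
  conj : ∀ y, y * b = b * y → ∀ l ∈ L, y * l * y⁻¹ ∈ L
  four : ∀ x, Four z (h.D.a 4) x → x ∈ L
  inter : ∀ x ∈ L, x ∈ centS S b → Four z (h.D.a 4) x
  eight : ¬ 8 ∣ Nat.card L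
  dec : ∀ y, y * b = b * y → ∃ u ∈ fixU S b k, ∃ l ∈ L, y = u * l
  odd_mem : ∀ y, y * b = b * y → Odd (orderOf y) → y ∈ L

include h

variable {b : G} (hb : h.Outside b)
include hb

/-- Conjugate elements of `A` in `C(b)` are conjugate by an element normalizing `A`. -/
theorem fusion {u g : G} (hu : u ∈ centS S b) (hg : g * b = b * g) (hgu : g * u * g⁻¹ ∈ centS S b) :
    ∃ n, n * b = b * n ∧ (∀ x ∈ centS S b, n * x * n⁻¹ ∈ centS S b) ∧ n * u * n⁻¹ = g * u * g⁻¹ := by
  haveI : Fact (Nat.Prime 2) := ⟨Nat.prime_two⟩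
  let C := centralizer ({b} : Set G)
  let P : Sylow 2 C := ⟨(centS S b).subgroupOf C,
    (h.isPGroup_A hb).comap_of_injective _ Subtype.val_injective,
    fun {R} hR hle => le_antisymm (fun y hy => by
      have hle' : centS S b ≤ R.map C.subtype := fun s hs =>
        ⟨⟨s, h.A_le hb hs⟩, hle (mem_subgroupOf.2 hs), rfl⟩
      rw [mem_subgroupOf, Subgroup.eq_of_le_of_card_ge hle'
        (h.card_le_A hb (hR.map C.subtype) (map_subtype_le R))]
      exact ⟨y, hy, rfl⟩) hle⟩
  haveI : IsMulCommutative ↥(P : Subgroup C) := ⟨⟨fun x y => Subtype.ext (Subtype.ext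
    (h.A_comm hb (mem_subgroupOf.1 x.2) (mem_subgroupOf.1 y.2)))⟩⟩
  obtain ⟨n, hn, e⟩ := P.conj_eq_normalizer_conj_of_mem ⟨u, h.A_le hb hu⟩
    (⟨g, mem_centralizer_singleton_iff.2 hg⟩ : C)⁻¹ (mem_subgroupOf.2 hu)
    (mem_subgroupOf.2 (by simpa using hgu))
  refine ⟨(n : G)⁻¹, (Commute.inv_left (mem_centralizer_singleton_iff.1 n.2 : Commute (n : G) b)).eq,
    fun x hx => mem_subgroupOf.1 ((mem_normalizer_iff.1 (inv_mem hn) ⟨x, h.A_le hb hx⟩).1
      (mem_subgroupOf.2 hx)), ?_⟩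
  have := congrArg Subtype.val e
  simpa using this.symm

variable {k : G} (hk : h.Cyc b k)
include hk

/-- An element normalizing `A` fixes `U`. -/
theorem Cyc.fix_U {n : G} (hnb : n * b = b * n) (hn : ∀ x ∈ centS S b, n * x * n⁻¹ ∈ centS S b) {u : G}
    (hu : u ∈ fixU S b k) : n * u * n⁻¹ = u := by
  have hku : k * u * k⁻¹ = u := mul_inv_eq_iff_eq_mul.2 (mem_centralizer_singleton_iff.1 hu.2).symm
  rcases h.norm_cases hb hnb hn with e | e | ⟨e, e3⟩
  · rw [e u hu.1, mul_inv_cancel_right]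
  · rw [Cyc.unique h hb e hk hu.1, hku]
  · have h2 : n * n * u * (n * n)⁻¹ = u := by rw [Cyc.unique h hb e hk hu.1, hku]
    have h3 := h.centralizes_of_fix hb (n := n * n * n) (Commute.mul_left (a := n * n) e.comm hnb).eq
      (fun y hy => by
        rw [show n * n * n * y * (n * n * n)⁻¹ = n * n * (n * y * n⁻¹) * (n * n)⁻¹ by group]
        exact e.norm _ (hn _ hy)) (Or.inr (Or.inl rfl)) h.z1 e3 u hu.1
    calc n * u * n⁻¹ = n * (n * n * u * (n * n)⁻¹) * n⁻¹ := by rw [h2]
      _ = n * n * n * u * (n * n * n)⁻¹ := by group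
      _ = u := by rw [h3, mul_inv_cancel_right]

/-- Transfer modulo one hyperplane containing the four-group. -/
theorem Cyc.exists_sign {u u' : G} (hu : u ∈ fixU S b k) (hu' : u' ∈ fixU S b k) (hu1 : u ≠ 1)
    (hu'1 : u' ≠ 1) (hne : u ≠ u') :
    ∃ f : centralizer ({b} : Set G) →* ℤˣ, (∀ x : centralizer ({b} : Set G),
      (x : G) ∈ centS S b → (f x = 1 ↔ (x : G) ∈ h.D.Q ∨ u * x ∈ h.D.Q)) ∧
      ∀ x : centralizer ({b} : Set G), (x : G) = u' → f x = -1 := by
  haveI : Fact (Nat.Prime 2) := ⟨Nat.prime_two⟩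
  classical
  have hA := fun {x : G} (hx : x ∈ centS S b) => h.A_sq hb hx
  have hcomm := fun {x y : G} (hx : x ∈ centS S b) (hy : y ∈ centS S b) => h.A_comm hb hx hy
  let R : Subgroup G :=
    { carrier := {x | x ∈ centS S b ∧ (x ∈ h.D.Q ∨ u * x ∈ h.D.Q)}
      one_mem' := ⟨one_mem _, Or.inl (one_mem _)⟩
      mul_mem' := by
        rintro x y ⟨hx, hx'⟩ ⟨hy, hy'⟩
        refine ⟨mul_mem hx hy, ?_⟩
        rcases hx' with hx' | hx' <;> rcases hy' with hy' | hy'
        · exact Or.inl (mul_mem hx' hy')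
        · right
          rw [← mul_assoc, hcomm hu.1 hx, mul_assoc]
          exact mul_mem hx' hy'
        · right
          rw [← mul_assoc]
          exact mul_mem hx' hy'
        · left
          have := mul_mem hx' hy'
          rwa [show u * x * (u * y) = u * (x * u) * y by group, ← hcomm hu.1 hx, ← mul_assoc, hA hu.1,
            one_mul] at this
      inv_mem' := by
        rintro x ⟨hx, hx'⟩
        rw [inv_eq_of_mul_eq_one_left (hA hx)]
        exact ⟨hx, hx'⟩ }
  let C := centralizer ({b} : Set G)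
  let P : Sylow 2 C := ⟨(centS S b).subgroupOf C,
    (h.isPGroup_A hb).comap_of_injective _ Subtype.val_injective,
    fun {T} hT hle => le_antisymm (fun y hy => by
      have hle' : centS S b ≤ T.map C.subtype := fun s hs =>
        ⟨⟨s, h.A_le hb hs⟩, hle (mem_subgroupOf.2 hs), rfl⟩
      rw [mem_subgroupOf, Subgroup.eq_of_le_of_card_ge hle'
        (h.card_le_A hb (hT.map C.subtype) (map_subtype_le T))]
      exact ⟨y, hy, rfl⟩) hle⟩
  -- `u'` is outside
  have hu'R : u' ∉ R := by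
    rintro ⟨-, e | e⟩
    · exact hu'1 (Cyc.disjoint h hb hk hu' e)
    · exact hne (mul_right_cancel ((Cyc.disjoint h hb hk (mul_mem hu hu') e).trans (hA hu'.1).symm))
  have hR2 : ∀ y ∈ centS S b, y ∉ R → y * u' ∈ R := by
    intro y hy hyR
    obtain ⟨u0, hu0, hf⟩ := Cyc.exists_dec h hb hk hy
    have hfQ := h.four_mem_Q hf
    refine ⟨mul_mem hy hu'.1, ?_⟩
    rcases four_cases_of_card (Cyc.card_U h hb hk) (fun x hx => hA hx.1) hu hu' hu1 hu'1 hne hu0 with
      rfl | rfl | rfl | rfl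
    · exact absurd ⟨hy, Or.inl (by simpa using hfQ)⟩ hyR
    · exact absurd ⟨hy, Or.inr hfQ⟩ hyR
    · left
      rwa [hcomm hy hu0.1]
    · right
      rwa [hcomm hy hu'.1, ← mul_assoc]
  have hrel : (R.subgroupOf C).relIndex (P : Subgroup C) = 2 := by
    show (R.subgroupOf C).relIndex ((centS S b).subgroupOf C) = 2
    rw [relIndex_subgroupOf (h.A_le hb)]
    show (R.subgroupOf (centS S b)).index = 2
    rw [index_eq_two_iff]
    refine ⟨⟨u', hu'.1⟩, fun y => ?_⟩
    simp only [mem_subgroupOf, Subgroup.coe_mul]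
    by_cases hy : (y : G) ∈ R
    · refine Or.inr ⟨hy, fun hy' => hu'R ?_⟩
      simpa using mul_mem (inv_mem hy) hy'
    · exact Or.inl ⟨hR2 y y.2 hy, hy⟩
  have hfus : ∀ {x g : G}, x ∈ R → g * b = b * g → g * x * g⁻¹ ∈ centS S b → g * x * g⁻¹ ∈ R := by
    rintro x g ⟨hx, hx'⟩ hg hgx
    obtain ⟨n, hnb, hn, e⟩ := h.fusion hb hx hg hgx
    rw [← e]
    refine ⟨hn x hx, ?_⟩
    have key : ∀ {w : G}, w ∈ centS S b → w ∈ h.D.Q → n * w * n⁻¹ ∈ h.D.Q := fun hw hwQ =>
      h.four_mem_Q (h.maps_four hb hn (h.four_of_mem_Q hb hw hwQ))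
    rcases hx' with hx' | hx'
    · exact Or.inl (key hx hx')
    · right
      have := key (mul_mem hu.1 hx) hx'
      rwa [show n * (u * x) * n⁻¹ = (n * u * n⁻¹) * (n * x * n⁻¹) by group,
        Cyc.fix_U h hb hk hnb hn hu] at this
  obtain ⟨f, hf1, hf2⟩ := CfsgLib.A8Three.exists_sign_hom P (R.subgroupOf C) hrel
  have hout : ∀ x : C, (x : G) ∈ centS S b → (x : G) ∉ R → f x = -1 := fun x hx hxR =>
    hf2 x (Subtype.ext (hA hx)) fun g hg => hxR (by
      have hg' := mem_subgroupOf.1 hg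
      have := hfus hg' ((Commute.inv_left (mem_centralizer_singleton_iff.1 g.2 : Commute (g : G) b)).eq)
        (by simp only [Subgroup.coe_mul, InvMemClass.coe_inv]; group; exact hx)
      simp only [Subgroup.coe_mul, InvMemClass.coe_inv] at this
      group at this
      exact this)
  refine ⟨f, fun x hx => ⟨fun e => ?_, fun e => ?_⟩, fun x e => hout x (e ▸ hu'.1) (e ▸ hu'R)⟩
  · by_contra hno
    have h1 := hout x hx fun hR => hno hR.2
    rw [e] at h1
    exact absurd h1 (by decide)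
  · exact hf1 x (Subtype.ext (hA hx)) fun g hg => mem_subgroupOf.2
      (hfus (x := x) (g := g) ⟨hx, e⟩ (mem_centralizer_singleton_iff.1 g.2)
        (by simpa using mem_subgroupOf.1 hg))

/-- A second element of `U`. -/
theorem Cyc.exists_other {u : G} : ∃ u' ∈ fixU S b k, u' ≠ 1 ∧ u' ≠ u := by
  classical
  by_contra hno
  push Not at hno
  have hcases : ∀ x ∈ fixU S b k, x = 1 ∨ x = u := fun x hx => by
    by_cases hx1 : x = 1
    · exact Or.inl hx1
    · exact Or.inr (hno x hx hx1)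
  have hinj : Function.Injective fun x : fixU S b k => decide ((x : G) = 1) := by
    intro x y e
    simp only [decide_eq_decide] at e
    apply Subtype.ext
    rcases hcases x x.2 with hx | hx
    · rw [hx, e.1 hx]
    · rcases hcases y y.2 with hy | hy
      · rw [hy, e.2 hy]
      · rw [hx, hy]
  have := Nat.card_le_card_of_injective _ hinj
  rw [Cyc.card_U h hb hk, Nat.card_eq_fintype_card, Fintype.card_bool] at this
  omega

/-- The kernel of the transfer. -/
theorem Cyc.exists_ker : ∃ L : Subgroup G, h.Ker b k L := by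
  haveI : Fact (Nat.Prime 2) := ⟨Nat.prime_two⟩
  obtain ⟨b', hb', hb'1, hb'b⟩ := Cyc.exists_other h hb hk (u := b)
  have hbU := Cyc.bU h hb hk
  obtain ⟨f, hf, hf'⟩ := Cyc.exists_sign h hb hk hbU hb' (h.b1 hb) hb'1 (Ne.symm hb'b)
  obtain ⟨g, hg, hg'⟩ := Cyc.exists_sign h hb hk hb' hbU hb'1 (h.b1 hb) hb'b
  let C := centralizer ({b} : Set G)
  let M := f.ker ⊓ g.ker
  have hmem : ∀ {y : G}, y ∈ M.map C.subtype ↔ ∃ hy : y * b = b * y,
      f ⟨y, mem_centralizer_singleton_iff.2 hy⟩ = 1 ∧ g ⟨y, mem_centralizer_singleton_iff.2 hy⟩ = 1 := by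
    intro y
    constructor
    · rintro ⟨y', hy', rfl⟩
      exact ⟨mem_centralizer_singleton_iff.1 y'.2, hy'⟩
    · rintro ⟨hy, h1, h2⟩
      exact ⟨_, ⟨h1, h2⟩, rfl⟩
  have hfb : f ⟨b, h.A_le hb (h.bA hb)⟩ = 1 := (hf _ (h.bA hb)).2 (Or.inr (by
    show b * b ∈ h.D.Q
    rw [hb.sq]; exact one_mem _))
  have hgb' : g ⟨b', h.A_le hb hb'.1⟩ = 1 := (hg _ hb'.1).2 (Or.inr (by
    show b' * b' ∈ h.D.Q
    rw [h.A_sq hb hb'.1]; exact one_mem _))
  have hinter : ∀ x ∈ M.map C.subtype, x ∈ centS S b → Four z (h.D.a 4) x := by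
    intro x hx hxA
    obtain ⟨hxb, h1, h2⟩ := hmem.1 hx
    refine h.four_of_mem_Q hb hxA (by_contra fun hxQ => ?_)
    have e1 := ((hf _ hxA).1 h1).resolve_left hxQ
    have e2 := ((hg _ hxA).1 h2).resolve_left hxQ
    have e3 := mul_mem e1 e2
    rw [show b * x * (b' * x) = b * (x * b') * x by group, h.A_comm hb hxA hb'.1,
      show b * (b' * x) * x = b * b' * (x * x) by group, h.A_sq hb hxA, mul_one] at e3
    exact hb'b (mul_left_cancel (((Cyc.disjoint h hb hk (mul_mem hbU hb') e3)).trans hb.sq.symm))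
  refine ⟨M.map C.subtype,
    { le := fun l hl => (hmem.1 hl).1
      conj := fun y hy l hl => ?_
      four := fun x hx => ?_
      inter := hinter
      eight := fun h8 => ?_
      dec := fun y hy => ?_
      odd_mem := fun y hy ho => hmem.2 ⟨hy,
        CfsgLib.A8Three.map_eq_one_of_odd f CfsgLib.A8Three.isPGroup_units (by rwa [Subgroup.orderOf_mk]),
        CfsgLib.A8Three.map_eq_one_of_odd g CfsgLib.A8Three.isPGroup_units (by rwa [Subgroup.orderOf_mk])⟩ }⟩
  · obtain ⟨l, hl, rfl⟩ := hl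
    haveI : M.Normal := inferInstance
    exact ⟨_, (inferInstance : M.Normal).conj_mem l hl ⟨y, mem_centralizer_singleton_iff.2 hy⟩, rfl⟩
  · have hxA := h.four_mem_A hb hx
    exact hmem.2 ⟨(mem_centS.1 hxA).2, (hf _ hxA).2 (Or.inl (h.four_mem_Q hx)),
      (hg _ hxA).2 (Or.inl (h.four_mem_Q hx))⟩
  · obtain ⟨P, hP⟩ := Sylow.exists_subgroup_card_pow_prime (G := M.map C.subtype) 2 (n := 3) h8
    have hP8 : Nat.card (P.map (M.map C.subtype).subtype) = 8 :=
      (Nat.card_congr (P.equivMapOfInjective _ Subtype.val_injective).toEquiv).symm.trans hP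
    have hPle : P.map (M.map C.subtype).subtype ≤ C :=
      (map_subtype_le _).trans (map_subtype_le _)
    obtain ⟨c, hcb, hc⟩ := h.conj_into_A hb (IsPGroup.of_card (n := 3) hP8) hPle
    have h4 : ∀ p ∈ P.map (M.map C.subtype).subtype, Four z (h.D.a 4) (c * p * c⁻¹) := fun p hp =>
      hinter _ (by
        obtain ⟨q, hq, rfl⟩ := map_subtype_le _ hp
        exact ⟨_, (inferInstance : M.Normal).conj_mem q hq ⟨c, mem_centralizer_singleton_iff.2 hcb⟩, rfl⟩)
        (hc p hp)
    have hj : ∀ p : P.map (M.map C.subtype).subtype,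
        ∃ j, fourFun z (h.D.a 4) j = c * (p : G) * c⁻¹ := fun p => by
      rcases h4 p p.2 with e | e | e | e
      exacts [⟨0, e.symm⟩, ⟨1, e.symm⟩, ⟨2, e.symm⟩, ⟨3, e.symm⟩]
    choose j hj using hj
    have hinj : Function.Injective j := fun p q e => Subtype.ext
      (mul_left_cancel (mul_right_cancel ((hj p).symm.trans ((congrArg _ e).trans (hj q)))))
    have := Nat.card_le_card_of_injective _ hinj
    rw [hP8, Nat.card_fin] at this
    omega
  · set Y : C := ⟨y, mem_centralizer_singleton_iff.2 hy⟩ with hY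
    have hfb' : f ⟨b', h.A_le hb hb'.1⟩ = -1 := hf' _ rfl
    have hgb : g ⟨b, h.A_le hb (h.bA hb)⟩ = -1 := hg' _ rfl
    obtain ⟨U0, hU0, e1, e2⟩ : ∃ U0 : C, (U0 : G) ∈ fixU S b k ∧ f U0 = f Y ∧ g U0 = g Y := by
      rcases Int.units_eq_one_or (f Y) with e1 | e1 <;> rcases Int.units_eq_one_or (g Y) with e2 | e2 <;>
        rw [e1, e2]
      · exact ⟨1, one_mem _, map_one f, map_one g⟩
      · exact ⟨_, hbU, hfb, hgb⟩
      · exact ⟨_, hb', hfb', hgb'⟩
      · refine ⟨⟨b, h.A_le hb (h.bA hb)⟩ * ⟨b', h.A_le hb hb'.1⟩, mul_mem hbU hb', ?_, ?_⟩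
        · rw [map_mul, hfb, hfb', one_mul]
        · rw [map_mul, hgb, hgb', mul_one]
    refine ⟨(U0 : G), hU0, ((U0⁻¹ * Y : C) : G), ⟨U0⁻¹ * Y, ⟨?_, ?_⟩, rfl⟩, ?_⟩
    · show f _ = 1
      rw [map_mul, map_inv, e1, inv_mul_cancel]
    · show g _ = 1
      rw [map_mul, map_inv, e2, inv_mul_cancel]
    · show y = (U0 : G) * ((U0 : G)⁻¹ * y)
      rw [mul_inv_cancel_left]

end Hyp

end CfsgLib.J2Sylow
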